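import Mathlib.GroupTheory.Sylow
import Mathlib.GroupTheory.GroupAction.Basic
import Cfsg.Agent.Lib.PGroups.Omega

/-!
# Groups acting on a connected cubic bipartite graph

Owner: helper54. The abstract setting for Goldschmidt's theorem on amalgams of index (3, 3): `X` acts
faithfully on a connected cubic graph, bipartite with classes preserved by `X`, with finite vertex
stabilisers inducing `S₃` on the neighbours and with edge stabilisers 2-groups.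
-/

set_option autoImplicit false
set_option linter.style.haveILetI false

namespace Cfsg.Agent.Lib.Goldschmidt33

universe u v

/-- A group acting on a connected cubic bipartite graph as in Goldschmidt's theorem. -/
structure Base (X : Type u) (V : Type v) [Group X] [MulAction X V] where
  /-- adjacency -/
  Adj : V → V → Prop
  symm : ∀ {v w : V}, Adj v w → Adj w v
  smul : ∀ (g : X) {v w : V}, Adj v w → Adj (g • v) (g • w)
  /-- one of the two classes of vertices -/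
  A : V → Prop
  A_adj : ∀ {v w : V}, Adj v w → (A v ↔ ¬ A w)
  A_smul : ∀ (g : X) (v : V), A (g • v) ↔ A v
  conn : ∀ v w : V, Relation.ReflTransGen Adj v w
  faithful : ∀ g : X, (∀ v : V, g • v = v) → g = 1
  fin : ∀ v : V, Finite ↥(MulAction.stabilizer X v)
  two : ∀ {v w : V}, Adj v w → IsPGroup 2 ↥(MulAction.stabilizer X v ⊓ MulAction.stabilizer X w)
  three : ∀ {v u : V}, Adj v u → ∃ a b, Adj v a ∧ Adj v b ∧ a ≠ u ∧ b ≠ u ∧ a ≠ b ∧
    ∀ w, Adj v w → w = u ∨ w = a ∨ w = b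
  swap : ∀ {v u : V}, Adj v u → ∃ g : X, g • v = v ∧ g • u = u ∧ ∃ w, Adj v w ∧ g • w ≠ w
  exists_adj : ∀ v : V, ∃ u, Adj v u

variable {X : Type u} {V : Type v} [Group X] [MulAction X V]

namespace Base

variable (Γ : Base X V)

/-- The stabilizer of an ordered pair of vertices. -/
def E (_Γ : Base X V) (v u : V) : Subgroup X := MulAction.stabilizer X v ⊓ MulAction.stabilizer X u

theorem mem_E {v u : V} {g : X} : g ∈ Γ.E v u ↔ g • v = v ∧ g • u = u := Iff.rfl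

theorem E_comm (v u : V) : Γ.E v u = Γ.E u v := inf_comm _ _

/-- The kernel of the action of a vertex stabilizer on the neighbours. -/
def Q (v : V) : Subgroup X where
  carrier := {g | g • v = v ∧ ∀ w, Γ.Adj v w → g • w = w}
  one_mem' := ⟨one_smul _ _, fun _ _ => one_smul _ _⟩
  mul_mem' := by
    rintro a b ⟨ha, ha'⟩ ⟨hb, hb'⟩
    exact ⟨by rw [mul_smul, hb, ha], fun w hw => by rw [mul_smul, hb' w hw, ha' w hw]⟩
  inv_mem' := by
    rintro a ⟨ha, ha'⟩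
    exact ⟨inv_smul_eq_iff.2 ha.symm, fun w hw => inv_smul_eq_iff.2 (ha' w hw).symm⟩

theorem mem_Q {v : V} {g : X} : g ∈ Γ.Q v ↔ g • v = v ∧ ∀ w, Γ.Adj v w → g • w = w := Iff.rfl

theorem ne {v w : V} (h : Γ.Adj v w) : v ≠ w := by
  rintro rfl
  have := Γ.A_adj h
  tauto

theorem adj_fix {g : X} {v w : V} (hg : g • v = v) (h : Γ.Adj v w) : Γ.Adj v (g • w) := by
  have := Γ.smul g h
  rwa [hg] at this

theorem Q_le_E {v u : V} (h : Γ.Adj v u) : Γ.Q v ≤ Γ.E v u := fun _ hg => ⟨hg.1, hg.2 u h⟩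

theorem finite_E (v u : V) : Finite ↥(Γ.E v u) := by
  haveI := Γ.fin v
  exact Finite.of_injective _ (Subgroup.inclusion_injective (inf_le_left : Γ.E v u ≤ _))

theorem finite_of_le {v u : V} {K : Subgroup X} (hK : K ≤ Γ.E v u) : Finite ↥K := by
  haveI := Γ.finite_E v u
  exact Finite.of_injective _ (Subgroup.inclusion_injective hK)

theorem finite_Q (v : V) : Finite ↥(Γ.Q v) := by
  obtain ⟨u, hu⟩ := Γ.exists_adj v
  exact Γ.finite_of_le (Γ.Q_le_E hu)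

theorem cases3 {v x y z : V} (hx : Γ.Adj v x) (hy : Γ.Adj v y) (hz : Γ.Adj v z) (hxy : x ≠ y)
    (hxz : x ≠ z) (hyz : y ≠ z) {w : V} (hw : Γ.Adj v w) : w = x ∨ w = y ∨ w = z := by
  obtain ⟨a, b, ha, hb, hau, hbu, hab, hall⟩ := Γ.three hx
  rcases hall y hy with h | h | h <;> rcases hall z hz with h' | h' | h' <;>
    rcases hall w hw with h'' | h'' | h'' <;> subst_vars <;> tauto

theorem exists_third {v x y : V} (hx : Γ.Adj v x) (hy : Γ.Adj v y) :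
    ∃ z, Γ.Adj v z ∧ z ≠ x ∧ z ≠ y := by
  obtain ⟨a, b, ha, hb, hau, hbu, hab, -⟩ := Γ.three hx
  by_cases h : a = y
  · exact ⟨b, hb, hbu, fun e => hab (h.trans e.symm)⟩
  · exact ⟨a, ha, hau, h⟩

theorem exists_other {v x : V} (hx : Γ.Adj v x) : ∃ z, Γ.Adj v z ∧ z ≠ x := by
  obtain ⟨z, hz, hzx, -⟩ := Γ.exists_third hx hx
  exact ⟨z, hz, hzx⟩

theorem mem_Q_of_fix_two {v x y : V} {g : X} (hv : g • v = v) (hx : Γ.Adj v x) (hy : Γ.Adj v y)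
    (hxy : x ≠ y) (gx : g • x = x) (gy : g • y = y) : g ∈ Γ.Q v := by
  refine ⟨hv, fun w hw => ?_⟩
  obtain ⟨z, hz, hzx, hzy⟩ := Γ.exists_third hx hy
  have hz' : g • z = z := by
    rcases Γ.cases3 hx hy hz hxy (Ne.symm hzx) (Ne.symm hzy) (Γ.adj_fix hv hz) with h | h | h
    · exact absurd (MulAction.injective g (h.trans gx.symm)) hzx
    · exact absurd (MulAction.injective g (h.trans gy.symm)) hzy
    · exact h
  rcases Γ.cases3 hx hy hz hxy (Ne.symm hzx) (Ne.symm hzy) hw with rfl | rfl | rfl <;> assumption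

theorem smul_ne {v u w : V} {g : X} (hg : g ∈ Γ.E v u) (hgQ : g ∉ Γ.Q v) (hu : Γ.Adj v u)
    (hw : Γ.Adj v w) (hwu : w ≠ u) : g • w ≠ w ∧ g • w ≠ u :=
  ⟨fun h => hgQ (Γ.mem_Q_of_fix_two hg.1 hu hw (Ne.symm hwu) hg.2 h),
    fun h => hwu (MulAction.injective g (h.trans hg.2.symm))⟩

theorem swap_eq {v u a c : V} {g : X} (hg : g ∈ Γ.E v u) (hgQ : g ∉ Γ.Q v) (hu : Γ.Adj v u)
    (ha : Γ.Adj v a) (hau : a ≠ u) (hc : Γ.Adj v c) (hcu : c ≠ u) (hca : c ≠ a) : g • a = c := by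
  obtain ⟨h1, h2⟩ := Γ.smul_ne hg hgQ hu ha hau
  rcases Γ.cases3 hu ha hc (Ne.symm hau) (Ne.symm hcu) (Ne.symm hca) (Γ.adj_fix hg.1 ha) with
    h | h | h
  · exact absurd h h2
  · exact absurd h h1
  · exact h

theorem exists_swap {v u : V} (h : Γ.Adj v u) : ∃ g, g ∈ Γ.E v u ∧ g ∉ Γ.Q v := by
  obtain ⟨g, h1, h2, w, hw, hne⟩ := Γ.swap h
  exact ⟨g, ⟨h1, h2⟩, fun hQ => hne (hQ.2 w hw)⟩

theorem mul_mem_Q {v u : V} {g h : X} (hu : Γ.Adj v u) (hg : g ∈ Γ.E v u) (hgQ : g ∉ Γ.Q v)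
    (hh : h ∈ Γ.E v u) (hhQ : h ∉ Γ.Q v) : g * h ∈ Γ.Q v := by
  obtain ⟨a, b, ha, hb, hau, hbu, hab, -⟩ := Γ.three hu
  have e1 : h • a = b := Γ.swap_eq hh hhQ hu ha hau hb hbu (Ne.symm hab)
  have e2 : g • b = a := Γ.swap_eq hg hgQ hu hb hbu ha hau hab
  exact Γ.mem_Q_of_fix_two (mul_mem hg hh).1 hu ha (Ne.symm hau) (mul_mem hg hh).2
    (by rw [mul_smul, e1, e2])

theorem sq_mem_Q {v u : V} {g : X} (hu : Γ.Adj v u) (hg : g ∈ Γ.E v u) : g * g ∈ Γ.Q v := by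
  by_cases h : g ∈ Γ.Q v
  · exact mul_mem h h
  · exact Γ.mul_mem_Q hu hg h hg h

theorem conj_mem_Q {v : V} {g : X} (hg : g ∈ Γ.Q v) (h : X) : h * g * h⁻¹ ∈ Γ.Q (h • v) := by
  refine ⟨by rw [mul_smul, inv_smul_smul, mul_smul, hg.1], fun w hw => ?_⟩
  have hw' : Γ.Adj v (h⁻¹ • w) := by
    have := Γ.smul h⁻¹ hw
    rwa [inv_smul_smul] at this
  rw [mul_smul, mul_smul, hg.2 _ hw', smul_inv_smul]

theorem conj_mem_Q' {v : V} {g h : X} (hh : h • v = v) (hg : g ∈ Γ.Q v) : h * g * h⁻¹ ∈ Γ.Q v := by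
  have := Γ.conj_mem_Q hg h
  rwa [hh] at this

theorem conj_mem_Q_iff {v : V} {g h : X} : h * g * h⁻¹ ∈ Γ.Q (h • v) ↔ g ∈ Γ.Q v := by
  refine ⟨fun hm => ?_, fun hm => Γ.conj_mem_Q hm h⟩
  have := Γ.conj_mem_Q hm h⁻¹
  rw [inv_smul_smul] at this
  convert this using 1
  group

theorem conj_mem_E {v u : V} {g : X} (hg : g ∈ Γ.E v u) (h : X) :
    h * g * h⁻¹ ∈ Γ.E (h • v) (h • u) :=
  ⟨by show _ • _ = _; rw [mul_smul, inv_smul_smul, mul_smul, hg.1],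
    by show _ • _ = _; rw [mul_smul, inv_smul_smul, mul_smul, hg.2]⟩

theorem trans_nbr {v u a : V} (hu : Γ.Adj v u) (ha : Γ.Adj v a) : ∃ g : X, g • v = v ∧ g • u = a := by
  by_cases h : a = u
  · exact ⟨1, one_smul _ _, by rw [one_smul, h]⟩
  obtain ⟨c, hc, hcu, hca⟩ := Γ.exists_third hu ha
  obtain ⟨s, hs, hsQ⟩ := Γ.exists_swap hc
  exact ⟨s, hs.1, Γ.swap_eq hs hsQ hc hu (Ne.symm hcu) ha (Ne.symm hca) h⟩

/-- Stabilisers of the two ends of an edge which both normalize `K ≤ E` force `K = 1`. -/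
theorem eq_bot_of_normalized {v u : V} (hvu : Γ.Adj v u) {K : Subgroup X} (hK : K ≤ Γ.E v u)
    (hv : ∀ g : X, g • v = v → ∀ k ∈ K, g * k * g⁻¹ ∈ K)
    (hu : ∀ g : X, g • u = u → ∀ k ∈ K, g * k * g⁻¹ ∈ K) : K = ⊥ := by
  have key : ∀ w, ∃ g : X, (∀ k ∈ K, g⁻¹ * k * g ∈ K) ∧ (w = g • v ∨ w = g • u) := by
    intro w
    induction Γ.conn v w with
    | refl => exact ⟨1, fun k hk => by simpa using hk, Or.inl (one_smul _ _).symm⟩
    | @tail b c _ hbc ih =>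
      obtain ⟨g, hg, hb | hb⟩ := ih
      · have h1 : Γ.Adj v (g⁻¹ • c) := by
          have := Γ.smul g⁻¹ hbc
          rwa [hb, inv_smul_smul] at this
        obtain ⟨h, hhv, hhu⟩ := Γ.trans_nbr hvu h1
        refine ⟨g * h, fun k hk => ?_, Or.inr (by rw [mul_smul, hhu, smul_inv_smul])⟩
        have := hv h⁻¹ (inv_smul_eq_iff.2 hhv.symm) _ (hg k hk)
        simpa [mul_assoc] using this
      · have h1 : Γ.Adj u (g⁻¹ • c) := by
          have := Γ.smul g⁻¹ hbc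
          rwa [hb, inv_smul_smul] at this
        obtain ⟨h, hhu, hhv⟩ := Γ.trans_nbr (Γ.symm hvu) h1
        refine ⟨g * h, fun k hk => ?_, Or.inl (by rw [mul_smul, hhv, smul_inv_smul])⟩
        have := hu h⁻¹ (inv_smul_eq_iff.2 hhu.symm) _ (hg k hk)
        simpa [mul_assoc] using this
  rw [eq_bot_iff]
  intro k hk
  rw [Subgroup.mem_bot]
  refine Γ.faithful k fun w => ?_
  obtain ⟨g, hg, hw | hw⟩ := key w
  all_goals
    have hm := hK (hg k hk)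
    subst hw
  · have : (g⁻¹ * k * g) • v = v := hm.1
    rwa [mul_smul, mul_smul, inv_smul_eq_iff] at this
  · have : (g⁻¹ * k * g) • u = u := hm.2
    rwa [mul_smul, mul_smul, inv_smul_eq_iff] at this

/-- A subgroup of `E(v,u)` normalized by `G_v` and by an element of `G_u` moving `v` is trivial. -/
theorem eq_bot_of_mover {v u : V} (hvu : Γ.Adj v u) {K : Subgroup X} (hK : K ≤ Γ.E v u)
    (hv : ∀ g : X, g • v = v → ∀ k ∈ K, g * k * g⁻¹ ∈ K) {g : X} (hgu : g • u = u)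
    (hgv : g • v ≠ v) (hg : ∀ k ∈ K, g * k * g⁻¹ ∈ K) : K = ⊥ := by
  refine Γ.eq_bot_of_normalized hvu hK hv fun h hhu => ?_
  have hgv' : Γ.Adj u (g • v) := Γ.adj_fix hgu (Γ.symm hvu)
  obtain ⟨c, hc, hcv, hcg⟩ := Γ.exists_third (Γ.symm hvu) hgv'
  obtain ⟨s, hs, hsQ⟩ := Γ.exists_swap (Γ.symm hvu)
  have hs' : ∀ k ∈ K, s * k * s⁻¹ ∈ K := hv s hs.2
  have hfin : ∀ a : X, (∀ k ∈ K, a * k * a⁻¹ ∈ K) → ∀ f : X, f • v = v →
      ∀ k ∈ K, (a * f) * k * (a * f)⁻¹ ∈ K := by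
    intro a ha f hf k hk
    have := ha _ (hv f hf k hk)
    simpa [mul_assoc] using this
  have hh : Γ.Adj u (h • v) := Γ.adj_fix hhu (Γ.symm hvu)
  rcases Γ.cases3 (Γ.symm hvu) hgv' hc (Ne.symm hgv) (Ne.symm hcv) (Ne.symm hcg) hh with e | e | e
  · exact hv h e
  · have := hfin g hg (g⁻¹ * h) (by rw [mul_smul, e, inv_smul_smul])
    rwa [mul_inv_cancel_left] at this
  · have e' : s • g • v = c := Γ.swap_eq hs hsQ (Γ.symm hvu) hgv' hgv hc hcv hcg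
    have hsg : ∀ k ∈ K, s * g * k * (s * g)⁻¹ ∈ K := fun k hk => by
      have := hs' _ (hg k hk)
      simpa [mul_assoc] using this
    have := hfin (s * g) hsg ((s * g)⁻¹ * h)
      (by rw [mul_smul, e, ← e', inv_smul_eq_iff, mul_smul])
    rwa [mul_inv_cancel_left] at this

theorem exists_smul {v w : V} (h : Γ.A v ↔ Γ.A w) : ∃ g : X, g • v = w := by
  have key : ∀ w, ((Γ.A v ↔ Γ.A w) → ∃ g : X, g • v = w) ∧
      (¬ (Γ.A v ↔ Γ.A w) → ∃ g : X, Γ.Adj (g • v) w) := by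
    intro w
    induction Γ.conn v w with
    | refl => exact ⟨fun _ => ⟨1, one_smul _ _⟩, fun h => absurd Iff.rfl h⟩
    | @tail b c _ hbc ih =>
      have hA := Γ.A_adj hbc
      refine ⟨fun hc => ?_, fun hc => ?_⟩
      · obtain ⟨g, hg⟩ := ih.2 (by tauto)
        obtain ⟨s, -, hs⟩ := Γ.trans_nbr (Γ.symm hg) hbc
        exact ⟨s * g, by rw [mul_smul, hs]⟩
      · obtain ⟨g, hg⟩ := ih.1 (by tauto)
        exact ⟨g, hg ▸ hbc⟩
  exact (key w).1 h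

theorem exists_smul_edge {v u v' u' : V} (h : Γ.Adj v u) (h' : Γ.Adj v' u') (hA : Γ.A v ↔ Γ.A v') :
    ∃ g : X, g • v = v' ∧ g • u = u' := by
  obtain ⟨g, hg⟩ := Γ.exists_smul hA
  obtain ⟨s, hs1, hs2⟩ := Γ.trans_nbr (hg ▸ Γ.smul g h) h'
  exact ⟨s * g, by rw [mul_smul, hg, hs1], by rw [mul_smul, hs2]⟩

/-- A nontrivial normalized subgroup of an edge stabilizer contains a central involution of it. -/
theorem exists_central {v u : V} (h : Γ.Adj v u) {K : Subgroup X} (hK : K ≤ Γ.E v u) (hne : K ≠ ⊥)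
    (hn : ∀ g ∈ Γ.E v u, ∀ k ∈ K, g * k * g⁻¹ ∈ K) :
    ∃ z ∈ K, z ≠ 1 ∧ z * z = 1 ∧ ∀ g ∈ Γ.E v u, g * z = z * g := by
  haveI := Γ.finite_E v u
  haveI : Fact (Nat.Prime 2) := ⟨Nat.prime_two⟩
  have hp : IsPGroup 2 ↥(Γ.E v u) := Γ.two h
  set N := K.subgroupOf (Γ.E v u) with hN
  haveI : N.Normal := ⟨fun k hk g => hn g g.2 k hk⟩
  have hN' : N ≠ ⊥ := fun e => hne <| by
    rw [hN, Subgroup.subgroupOf_eq_bot] at e
    exact eq_bot_iff.2 fun k hk => e.le_bot ⟨hk, hK hk⟩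
  have hb := PGroups.normal_inf_center_ne_bot hp N hN'
  haveI : Nontrivial ↥(N ⊓ Subgroup.center ↥(Γ.E v u)) := (Subgroup.nontrivial_iff_ne_bot _).2 hb
  obtain ⟨n, hn', hc⟩ := (hp.to_subgroup (N ⊓ Subgroup.center ↥(Γ.E v u))).nontrivial_iff_card.1
    inferInstance
  obtain ⟨x, hx⟩ := exists_prime_orderOf_dvd_card' 2 (hc ▸ dvd_pow_self 2 (by omega) :
    2 ∣ Nat.card ↥(N ⊓ Subgroup.center ↥(Γ.E v u)))
  have hx2 : x ^ 2 = 1 := hx ▸ pow_orderOf_eq_one x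
  refine ⟨((x : ↥(Γ.E v u)) : X), x.2.1, ?_, ?_, fun g hg => ?_⟩
  · intro e
    have : x = 1 := Subtype.ext (Subtype.ext e)
    rw [this, orderOf_one] at hx
    omega
  · have := congrArg (fun y : ↥(N ⊓ Subgroup.center ↥(Γ.E v u)) => ((y : ↥(Γ.E v u)) : X)) hx2
    simpa [pow_two] using this
  · exact congrArg Subtype.val (Subgroup.mem_center_iff.1 x.2.2 ⟨g, hg⟩)

/-- `|A| ≤ 2 |A ∩ B|` when the products of elements of `A` outside `B` are in `B`. -/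
theorem card_le_two_mul {A B : Subgroup X} [Finite ↥A]
    (h : ∀ a ∈ A, ∀ b ∈ A, a ∉ B → b ∉ B → a * b ∈ B) :
    Nat.card ↥A ≤ 2 * Nat.card ↥(A ⊓ B) := by
  haveI : Finite ↥(A ⊓ B) := Finite.of_injective _ (Subgroup.inclusion_injective (inf_le_left : A ⊓ B ≤ A))
  by_cases hle : A ≤ B
  · rw [inf_eq_left.2 hle]
    omega
  obtain ⟨a, ha, haB⟩ := SetLike.not_le_iff_exists.1 hle
  classical
  let f : Bool × ↥(A ⊓ B) → ↥A := fun p =>
    if p.1 then ⟨a * p.2.1, mul_mem ha p.2.2.1⟩ else ⟨p.2.1, p.2.2.1⟩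
  have hf : Function.Surjective f := by
    rintro ⟨x, hx⟩
    by_cases hxB : x ∈ B
    · exact ⟨(false, ⟨x, hx, hxB⟩), rfl⟩
    · have : a⁻¹ * x ∈ B := h a⁻¹ (A.inv_mem ha) x hx (fun e => haB (by simpa using B.inv_mem e)) hxB
      exact ⟨(true, ⟨a⁻¹ * x, A.mul_mem (A.inv_mem ha) hx, this⟩), Subtype.ext (mul_inv_cancel_left _ _)⟩
  calc Nat.card ↥A ≤ Nat.card (Bool × ↥(A ⊓ B)) := Nat.card_le_card_of_surjective f hf
    _ = 2 * Nat.card ↥(A ⊓ B) := by rw [Nat.card_prod]; simp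

theorem card_inf_Q {v u : V} (h : Γ.Adj v u) {A : Subgroup X} (hA : A ≤ Γ.E v u) :
    Nat.card ↥A ≤ 2 * Nat.card ↥(A ⊓ Γ.Q v) := by
  haveI := Γ.finite_of_le hA
  exact card_le_two_mul fun a ha b hb hav hbv => Γ.mul_mem_Q h (hA ha) hav (hA hb) hbv

theorem card_E {v u : V} (h : Γ.Adj v u) : Nat.card ↥(Γ.E v u) ≤ 2 * Nat.card ↥(Γ.Q v) := by
  have := Γ.card_inf_Q h le_rfl
  rwa [inf_eq_right.2 (Γ.Q_le_E h)] at this

/-- The elements fixing every vertex adjacent to a neighbour of `u`. -/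
def C (u : V) : Subgroup X where
  carrier := {g | g ∈ Γ.Q u ∧ ∀ v, Γ.Adj u v → g ∈ Γ.Q v}
  one_mem' := ⟨one_mem _, fun _ _ => one_mem _⟩
  mul_mem' := fun ha hb => ⟨mul_mem ha.1 hb.1, fun v hv => mul_mem (ha.2 v hv) (hb.2 v hv)⟩
  inv_mem' := fun ha => ⟨inv_mem ha.1, fun v hv => inv_mem (ha.2 v hv)⟩

theorem mem_C {u : V} {g : X} : g ∈ Γ.C u ↔ g ∈ Γ.Q u ∧ ∀ v, Γ.Adj u v → g ∈ Γ.Q v := Iff.rfl

theorem C_le_Q {u v : V} (h : Γ.Adj u v) : Γ.C u ≤ Γ.Q v := fun _ hg => hg.2 v h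

theorem C_le_E {u v : V} (h : Γ.Adj u v) : Γ.C u ≤ Γ.E u v := fun _ hg => Γ.Q_le_E h hg.1

theorem conj_mem_C {u : V} {g : X} (hg : g ∈ Γ.C u) (h : X) : h * g * h⁻¹ ∈ Γ.C (h • u) := by
  refine ⟨Γ.conj_mem_Q hg.1 h, fun v hv => ?_⟩
  have hv' : Γ.Adj u (h⁻¹ • v) := by
    have := Γ.smul h⁻¹ hv
    rwa [inv_smul_smul] at this
  have := Γ.conj_mem_Q (hg.2 _ hv') h
  rwa [smul_inv_smul] at this

theorem conj_mem_C' {u : V} {g h : X} (hh : h • u = u) (hg : g ∈ Γ.C u) : h * g * h⁻¹ ∈ Γ.C u := by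
  have := Γ.conj_mem_C hg h
  rwa [hh] at this

/-- If an element of `G_v ∖ Q_v` centralizes `Q_v`, the edge stabilizers have order at most 16. -/
theorem card_le_of_degenerate {v : V} {g : X} (hgv : g • v = v) (hgQ : g ∉ Γ.Q v)
    (hc : ∀ q ∈ Γ.Q v, g * q = q * g) {u : V} (hu : Γ.Adj v u) : Nat.card ↥(Γ.E v u) ≤ 16 := by
  -- such an element moving any given neighbour of any vertex in the orbit of `v`
  have mover : ∀ w a : V, (Γ.A w ↔ Γ.A v) → Γ.Adj w a →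
      ∃ k : X, k • w = w ∧ k • a ≠ a ∧ ∀ q ∈ Γ.Q w, k * q = q * k := by
    intro w a hw ha
    obtain ⟨m, hm⟩ : ∃ m, Γ.Adj v m ∧ g • m ≠ m := by
      by_contra hno
      push Not at hno
      exact hgQ ⟨hgv, hno⟩
    obtain ⟨h, hhv, hhm⟩ := Γ.exists_smul_edge hm.1 ha (Iff.symm hw)
    refine ⟨h * g * h⁻¹, by rw [← hhv, mul_smul, inv_smul_smul, mul_smul, hgv],
      by rw [← hhm, mul_smul, inv_smul_smul, mul_smul]; exact fun e => hm.2 (MulAction.injective h e),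
      fun q hq => ?_⟩
    have hq' := Γ.conj_mem_Q hq h⁻¹
    rw [← hhv, inv_smul_smul, inv_inv] at hq'
    have := hc _ hq'
    calc h * g * h⁻¹ * q = h * (g * (h⁻¹ * q * h)) * h⁻¹ := by group
      _ = h * ((h⁻¹ * q * h) * g) * h⁻¹ := by rw [this]
      _ = q * (h * g * h⁻¹) := by group
  obtain ⟨a, b, ha, hb, hav, hbv, hab, -⟩ := Γ.three (Γ.symm hu)
  have hbot : Γ.C u = ⊥ := by
    obtain ⟨k, hkv, hku, hk⟩ := mover v u Iff.rfl hu
    refine Γ.eq_bot_of_mover (Γ.symm hu) (Γ.C_le_E (Γ.symm hu)) (fun h hh q hq => Γ.conj_mem_C' hh hq)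
      hkv hku fun q hq => ?_
    rwa [hk q (Γ.C_le_Q (Γ.symm hu) hq), mul_inv_cancel_right]
  haveI := Γ.finite_Q u
  have hQ : Nat.card ↥(Γ.Q u) ≤ 8 := by
    have h1 : Γ.Q u ≤ Γ.E v u := by rw [Γ.E_comm]; exact Γ.Q_le_E (Γ.symm hu)
    have e1 := Γ.card_inf_Q hu h1
    have h2 : Γ.Q u ⊓ Γ.Q v ≤ Γ.E a u := fun x hx => by
      rw [Γ.E_comm]; exact Γ.Q_le_E ha hx.1
    have e2 := Γ.card_inf_Q (Γ.symm ha) h2
    have h3 : Γ.Q u ⊓ Γ.Q v ⊓ Γ.Q a ≤ Γ.E b u := fun x hx => by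
      rw [Γ.E_comm]; exact Γ.Q_le_E hb hx.1.1
    have e3 := Γ.card_inf_Q (Γ.symm hb) h3
    have hz : Γ.Q u ⊓ Γ.Q v ⊓ Γ.Q a ⊓ Γ.Q b = ⊥ := by
      refine eq_bot_iff.2 fun x hx => ?_
      rw [← hbot]
      refine ⟨hx.1.1.1, fun w hw => ?_⟩
      rcases Γ.cases3 (Γ.symm hu) ha hb (Ne.symm hav) (Ne.symm hbv) hab hw with rfl | rfl | rfl
      exacts [hx.1.1.2, hx.1.2, hx.2]
    rw [hz, Subgroup.card_bot] at e3
    omega
  have := Γ.card_E (Γ.symm hu)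
  rw [Γ.E_comm v u]
  omega

end Base

end Cfsg.Agent.Lib.Goldschmidt33
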