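import Cfsg.Agent.Lib.Goldschmidt33.OddGeneral

/-!
# The involutions `zz u` and the commutator of the ends of an extended critical path

Owner: helper54.
-/

set_option autoImplicit false
set_option linter.style.haveILetI false
set_option linter.unusedSectionVars false

namespace Cfsg.Agent.Lib.Goldschmidt33

universe u v

variable {X : Type u} {V : Type v} [Group X] [MulAction X V]

namespace Amalgam

variable (Γ : Amalgam X V)

/-- The involution of `Ω u`. -/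
noncomputable def zz (u : V) : X := by
  classical exact if h : ∃ z ∈ Γ.Om u, z ≠ 1 then h.choose else 1

theorem zz_mem (u : V) : Γ.zz u ∈ Γ.Om u := by
  classical
  unfold zz
  split
  · next h => exact h.choose_spec.1
  · exact one_mem _

theorem zz_sq (u : V) : Γ.zz u * Γ.zz u = 1 := (Γ.zz_mem u).2.1

theorem zz_inv (u : V) : (Γ.zz u)⁻¹ = Γ.zz u := inv_eq_of_mul_eq_one_left (Γ.zz_sq u)

theorem zz_mem_Z {v u : V} (h : Γ.Adj v u) : Γ.zz u ∈ Γ.Z v := Γ.Om_le_Z h (Γ.zz_mem u)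

theorem zz_ne_one {u : V} (hu : ¬ Γ.A u) : Γ.zz u ≠ 1 := by
  classical
  obtain ⟨v, hv⟩ := Γ.exists_adj u
  have h := Γ.exists_om (Γ.symm hv) (Γ.A_of_adj hv hu)
  unfold zz
  rw [dif_pos h]
  exact h.choose_spec.2

variable {Γ} [Nonempty V]

theorem om_cases (hb : Γ.OddB) {u : V} (hu : ¬ Γ.A u) {z : X} (hz : z ∈ Γ.Om u) :
    z = 1 ∨ z = Γ.zz u := by
  by_cases h : z = 1
  · exact Or.inl h
  · exact Or.inr (om_single hb hu hz (Γ.zz_mem u) h (Γ.zz_ne_one hu))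

theorem zz_conj (hb : Γ.OddB) (g : X) {u : V} (hu : ¬ Γ.A u) :
    g * Γ.zz u * g⁻¹ = Γ.zz (g • u) := by
  refine (om_cases hb (fun h => hu ((Γ.A_smul g u).1 h)) (Γ.conj_mem_Om (Γ.zz_mem u) g)).resolve_left ?_
  simpa [conj_eq_one_iff] using Γ.zz_ne_one hu

theorem zz_inj {v a c : V} (ha : Γ.Adj v a) (hc : Γ.Adj v c) (hv : Γ.A v) (hac : a ≠ c) :
    Γ.zz a ≠ Γ.zz c := fun e =>
  Γ.zz_ne_one (Γ.not_A ha hv) (Γ.om_inter ha hc hac (Γ.zz_mem a) (e ▸ Γ.zz_mem c))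

theorem zz_mul (hb : Γ.OddB) {v a c e : V} (hv : Γ.A v) (ha : Γ.Adj v a) (hc : Γ.Adj v c)
    (he : Γ.Adj v e) (hac : a ≠ c) (hea : e ≠ a) (hec : e ≠ c) : Γ.zz a * Γ.zz c = Γ.zz e := by
  obtain ⟨y, hy, y', hy', h⟩ := Γ.exists_decomp hv he ha hc hea hec hac (Γ.zz_mem e)
  have he1 := Γ.zz_ne_one (Γ.not_A he hv)
  rcases om_cases hb (Γ.not_A ha hv) hy with rfl | rfl
  · rw [one_mul] at h
    exact absurd (Γ.om_inter he hc hec (Γ.zz_mem e) (h ▸ hy')) he1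
  rcases om_cases hb (Γ.not_A hc hv) hy' with rfl | rfl
  · rw [mul_one] at h
    exact absurd (Γ.om_inter he ha hea (Γ.zz_mem e) (h ▸ Γ.zz_mem a)) he1
  exact h.symm

theorem Z_cases (hb : Γ.OddB) {v a c : V} (hv : Γ.A v) (ha : Γ.Adj v a) (hc : Γ.Adj v c) (hac : a ≠ c)
    {z : X} (hz : z ∈ Γ.Z v) :
    z = 1 ∨ z = Γ.zz a ∨ z = Γ.zz c ∨ z = Γ.zz a * Γ.zz c := by
  obtain ⟨y, hy, y', hy', rfl⟩ := Γ.exists_mul hv ha hc hac hz
  rcases om_cases hb (Γ.not_A ha hv) hy with rfl | rfl <;>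
    rcases om_cases hb (Γ.not_A hc hv) hy' with rfl | rfl <;> simp

theorem Z_le_of_two (hb : Γ.OddB) {v a c : V} (hv : Γ.A v) (ha : Γ.Adj v a) (hc : Γ.Adj v c)
    (hac : a ≠ c) {K : Subgroup X} (hKa : Γ.zz a ∈ K) (hKc : Γ.zz c ∈ K) : Γ.Z v ≤ K := fun z hz => by
  rcases Z_cases hb hv ha hc hac hz with rfl | rfl | rfl | rfl
  exacts [one_mem _, hKa, hKc, mul_mem hKa hKc]

theorem zz_comm {n : ℕ} {x y : V} (hx : ¬ Γ.A x) (h : Γ.Near n x y) (hn : n ≤ Γ.b + 1) :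
    Commute (Γ.zz x) (Γ.zz y) := by
  cases n with
  | zero => rw [show x = y from h]
  | succ n =>
    rcases h with rfl | ⟨v, hv, h⟩
    · exact Commute.refl _
    · exact ((Γ.zz_mem y).2.2 _
        (Γ.fix_of_near (Γ.A_of_adj hv hx) h (by omega) _ (Γ.zz_mem_Z (Γ.symm hv))))

theorem zz_conj_mem (hb : Γ.OddB) {v a e : V} (hv : Γ.A v) (ha : Γ.Adj v a) (he : Γ.Adj v e)
    (hae : a ≠ e) {g : X} (hg : g ∈ Γ.E v e) :
    (g ∈ Γ.Q v → g * Γ.zz a * g⁻¹ = Γ.zz a) ∧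
    (g ∉ Γ.Q v → g * Γ.zz a * g⁻¹ = Γ.zz a * Γ.zz e) := by
  refine ⟨fun h => Γ.conj_Q_Z h (Γ.zz_mem_Z ha), fun h => ?_⟩
  obtain ⟨c, hc, hca, hce⟩ := Γ.exists_third ha he
  rw [zz_conj hb g (Γ.not_A ha hv), Γ.swap_eq hg h he ha hae hc hce hca,
    zz_mul hb hv ha he hc hae hca hce]

variable (Γ)

/-- An extended critical path, of length `b + 3`, with both ends outside `A`. -/
def Chain (q : ℕ → V) : Prop := Γ.Path q (Γ.b + 3) ∧ Γ.Crit (fun i => q (i + 1))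

/-- The commutator of the ends of a chain. -/
noncomputable def w (q : ℕ → V) : X :=
  Γ.zz (q 0) * Γ.zz (q (Γ.b + 3)) * Γ.zz (q 0) * Γ.zz (q (Γ.b + 3))

variable {Γ}

theorem exists_chain (hb : Γ.OddB) {p : ℕ → V} (hp : Γ.Crit p) :
    ∃ q, Γ.Chain q ∧ ∀ i, i ≤ Γ.b → q (i + 1) = p i := by
  obtain ⟨r, hr, hrp⟩ := hp.1.exists_ext
  obtain ⟨s, hs, hsr⟩ := hr.exists_ext
  have h01 : Γ.Adj (s 0) (s 1) := hs.1 0 (by omega)
  obtain ⟨a, ha, ha1⟩ := Γ.exists_other h01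
  refine ⟨cons a s, ⟨hs.cons (Γ.symm ha) (Or.inr (Ne.symm ha1)), hp.congr fun i hi => ?_⟩, fun i hi => ?_⟩ <;>
  · show s i = p i
    rw [hsr i (by omega), hrp i hi]

namespace Chain

variable {q : ℕ → V} (hb : Γ.OddB) (hq : Γ.Chain q)
include hb hq

theorem A_iff {i : ℕ} (hi : i ≤ Γ.b + 3) : Γ.A (q i) ↔ ¬ Even i := by
  have h0 := hq.1.A_iff (i := 1) (by omega)
  have h1 : Γ.A (q 1) := hq.2.2.1
  rw [hq.1.A_iff hi]
  simp at h0
  tauto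

theorem not_A0 : ¬ Γ.A (q 0) := by
  rw [A_iff hb hq (by omega)]
  simp

theorem rev : Γ.Chain (fun i => q (Γ.b + 3 - i)) := by
  have hp : Γ.Path (fun i => q (i + 1)) (Γ.b + 1) :=
    (hq.1.shift (j := 1) (m := Γ.b + 1) (by omega)).congr fun i _ => congrArg q (Nat.add_comm i 1)
  refine ⟨hq.1.rev, (Crit.ext_rev hb hp hq.2).congr fun i hi => ?_⟩
  show q (Γ.b + 3 - (i + 1)) = q (Γ.b + 1 - i + 1)
  congr 1
  omega

theorem A1 : Γ.A (q 1) := hq.2.2.1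

theorem near {i j d : ℕ} (hi : i ≤ Γ.b + 3) (hj : j ≤ Γ.b + 3) (h₁ : j - i ≤ d) (h₂ : i - j ≤ d) :
    Γ.Near d (q i) (q j) := hq.1.near_le hi hj h₁ h₂

theorem comm_idx {i j : ℕ} (hi : i ≤ Γ.b + 3) (hj : j ≤ Γ.b + 3) (hie : Even i)
    (h₁ : j - i ≤ Γ.b + 1) (h₂ : i - j ≤ Γ.b + 1) : Commute (Γ.zz (q i)) (Γ.zz (q j)) :=
  zz_comm (by rw [A_iff hb hq hi]; exact not_not.2 hie) (near hb hq hi hj h₁ h₂) le_rfl

theorem start_fix {i : ℕ} (hi : i ≤ Γ.b + 1) : Γ.zz (q 0) • q i = q i :=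
  fix_path hq.1 (i := 1) (by omega) (by omega) (A1 hb hq) (by omega) (by have := hb.2; omega) _
    (Γ.zz_mem_Z (Γ.symm (hq.1.1 0 (by omega))))

theorem start_not_Q : Γ.zz (q 0) ∉ Γ.Q (q (Γ.b + 1)) := by
  intro h
  refine hq.2.2.2 (Z_le_of_two hb (A1 hb hq) (Γ.symm (hq.1.1 0 (by omega))) (hq.1.1 1 (by omega))
    (Ne.symm (hq.1.2 0 (by omega))) h ?_)
  have := hb.2
  refine path_le_Q hq.1 (i := 3) (by omega) (by omega) ?_ (by omega) (by omega)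
    (Γ.zz_mem_Z (Γ.symm (hq.1.1 2 (by omega))))
  rw [A_iff hb hq (by omega)]
  decide

theorem start_moves : Γ.zz (q 0) • q (Γ.b + 2) ≠ q (Γ.b + 2) := fun e =>
  start_not_Q hb hq (Γ.mem_Q_of_fix_two (start_fix hb hq le_rfl) (Γ.symm (hq.1.1 Γ.b (by omega)))
    (hq.1.1 (Γ.b + 1) (by omega)) (Ne.symm (hq.1.2 Γ.b (by omega))) (start_fix hb hq (Nat.le_succ _)) e)

theorem end_fix {i : ℕ} (hi : 2 ≤ i) (hi' : i ≤ Γ.b + 3) : Γ.zz (q (Γ.b + 3)) • q i = q i := by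
  have := start_fix hb (rev hb hq) (i := Γ.b + 3 - i) (by omega)
  simpa [show Γ.b + 3 - (Γ.b + 3 - i) = i by omega] using this

theorem end_moves : Γ.zz (q (Γ.b + 3)) • q 1 ≠ q 1 := by
  have := start_moves hb (rev hb hq)
  simpa [show Γ.b + 3 - (Γ.b + 2) = 1 by omega] using this

theorem end_not_Q : Γ.zz (q (Γ.b + 3)) ∉ Γ.Q (q 2) := fun h =>
  end_moves hb hq (h.2 _ (Γ.symm (hq.1.1 1 (by omega))))

theorem end_mem_E : Γ.zz (q (Γ.b + 3)) ∈ Γ.E (q 2) (q 3) :=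
  ⟨end_fix hb hq le_rfl (by omega), end_fix hb hq (by omega) (by omega)⟩

theorem conj_start : Γ.zz (q (Γ.b + 3)) * Γ.zz (q 0) * Γ.zz (q (Γ.b + 3)) =
    Γ.zz (Γ.zz (q (Γ.b + 3)) • q 0) := by
  have := zz_conj hb (Γ.zz (q (Γ.b + 3))) (not_A0 hb hq)
  rwa [Γ.zz_inv] at this

theorem comm_conj_start :
    Commute (Γ.zz (q 0)) (Γ.zz (q (Γ.b + 3)) * Γ.zz (q 0) * Γ.zz (q (Γ.b + 3))) := by
  rw [conj_start hb hq]
  refine zz_comm (not_A0 hb hq) (n := 2 + 2) ?_ (by have := hb.2; omega)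
  refine Base.Near.trans (near hb hq (i := 0) (j := 2) (by omega) (by omega) le_rfl (by omega)) ?_
  have := Base.Near.smul (Γ.zz (q (Γ.b + 3))) (near hb hq (i := 2) (j := 0) (d := 2) (by omega) (by omega)
    (by omega) le_rfl)
  rwa [end_fix hb hq le_rfl (by omega)] at this

theorem w_eq : Γ.w q = Γ.zz (q 0) * (Γ.zz (q (Γ.b + 3)) * Γ.zz (q 0) * Γ.zz (q (Γ.b + 3))) := by
  simp [w, mul_assoc]

theorem w_sq : Γ.w q * Γ.w q = 1 := by
  rw [w_eq hb hq, (comm_conj_start hb hq).symm.mul_mul_mul_comm, Γ.zz_sq, one_mul]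
  calc _ = Γ.zz (q (Γ.b + 3)) * Γ.zz (q 0) * (Γ.zz (q (Γ.b + 3)) * Γ.zz (q (Γ.b + 3))) *
      Γ.zz (q 0) * Γ.zz (q (Γ.b + 3)) := by simp only [mul_assoc]
    _ = 1 := by simp [Γ.zz_sq, mul_assoc]

theorem w_rev : Γ.w (fun i => q (Γ.b + 3 - i)) = Γ.w q := by
  rw [← inv_eq_of_mul_eq_one_left (w_sq hb hq)]
  simp only [w, Nat.sub_zero, Nat.sub_self, mul_inv_rev, Γ.zz_inv, mul_assoc]

theorem start_comm_w : Commute (Γ.zz (q 0)) (Γ.w q) := by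
  rw [w_eq hb hq]
  exact (Commute.refl _).mul_right (comm_conj_start hb hq)

theorem end_comm_w : Commute (Γ.zz (q (Γ.b + 3))) (Γ.w q) := by
  have := start_comm_w hb (rev hb hq)
  rw [w_rev hb hq] at this
  simpa using this

theorem z_comm_start : Commute (Γ.zz (q 2)) (Γ.zz (q 0)) :=
  comm_idx hb hq (by omega) (by omega) even_two (by omega) (by have := hb.2; omega)

theorem z_comm_end : Commute (Γ.zz (q 2)) (Γ.zz (q (Γ.b + 3))) :=
  comm_idx hb hq (by omega) le_rfl even_two (by omega) (by omega)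

theorem z_comm_w : Commute (Γ.zz (q 2)) (Γ.w q) :=
  (((z_comm_start hb hq).mul_right (z_comm_end hb hq)).mul_right (z_comm_start hb hq)).mul_right
    (z_comm_end hb hq)

theorem w_smul (g : X) : g * Γ.w q * g⁻¹ = Γ.w (fun i => g • q i) := by
  have he : ¬ Γ.A (q (Γ.b + 3)) := by
    rw [A_iff hb hq le_rfl]
    simp [Nat.even_add_one, Nat.not_even_iff_odd.2 hb.1, show Γ.b + 3 = Γ.b + 1 + 1 + 1 from rfl]
  simp only [w, ← zz_conj hb g (not_A0 hb hq), ← zz_conj hb g he]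
  group

theorem smul (g : X) : Γ.Chain (fun i => g • q i) := ⟨hq.1.smul g, hq.2.smul g⟩

/-- The first element of a chain agreeing with `q` from index 2 to `b + 1`. -/
theorem start_change {q' : ℕ → V} (hq' : Γ.Chain q') (h : ∀ i, 2 ≤ i → i ≤ Γ.b + 1 → q' i = q i) :
    ∃ c, Γ.zz (q' 0) = Γ.zz (q 0) * c ∧ c * c = 1 ∧ Commute c (Γ.zz (q 0)) ∧
      Commute c (Γ.zz (q (Γ.b + 3))) ∧
      (∀ x, Commute x (Γ.zz (q 2)) → Commute x (Γ.w q) → Commute x c) ∧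
      ∀ K : Subgroup X, Γ.zz (q 2) ∈ K → Γ.w q ∈ K → c ∈ K := by
  have hb3 := hb.2
  set u := Γ.zz (q (Γ.b + 3)) with hu
  have h21 : Γ.Adj (q 2) (q 1) := Γ.symm (hq.1.1 1 (by omega))
  have h10 : Γ.Adj (q 1) (q 0) := Γ.symm (hq.1.1 0 (by omega))
  have key : ∀ a, Γ.Adj (q 1) a → a ≠ q 2 →
      Γ.zz a = Γ.zz (q 0) ∨ Γ.zz a = Γ.zz (q 0) * Γ.zz (q 2) := by
    intro a ha ha2
    by_cases h0 : a = q 0
    · exact Or.inl (h0 ▸ rfl)
    · exact Or.inr (zz_mul hb (A1 hb hq) h10 (Γ.symm h21) ha (Ne.symm (hq.1.2 0 (by omega))) h0 ha2).symm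
  have h10' : Γ.Adj (q' 1) (q' 0) := Γ.symm (hq'.1.1 0 (by omega))
  have e2 := h 2 le_rfl (by omega)
  have h21' : Γ.Adj (q 2) (q' 1) := e2 ▸ Γ.symm (hq'.1.1 1 (by omega))
  have hne : q' 0 ≠ q 2 := e2 ▸ Ne.symm (hq'.1.2 0 (by omega))
  by_cases h1 : q' 1 = q 1
  · rcases key (q' 0) (h1 ▸ h10') hne with e | e
    · exact ⟨1, by rw [e, mul_one], one_mul _, Commute.one_left _, Commute.one_left _,
        fun x _ _ => Commute.one_right _, fun K _ _ => one_mem K⟩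
    · exact ⟨_, e, Γ.zz_sq _, z_comm_start hb hq, z_comm_end hb hq, fun x hx _ => hx, fun K hK _ => hK⟩
  · have hu1 : u • q 1 = q' 1 := Γ.swap_eq (end_mem_E hb hq) (end_not_Q hb hq) (hq.1.1 2 (by omega))
      h21 (Ne.symm (hq.1.2 1 (by omega))) h21'
      (by rw [← h 3 (by omega) (by omega)]; exact Ne.symm (hq'.1.2 1 (by omega))) h1
    have hu2 : u • q 2 = q 2 := end_fix hb hq le_rfl (by omega)
    have ha : Γ.Adj (q 1) (u⁻¹ • q' 0) := by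
      have := Γ.smul u⁻¹ h10'
      rwa [← hu1, inv_smul_smul] at this
    have ha2 : u⁻¹ • q' 0 ≠ q 2 := fun e => hne (by rw [inv_smul_eq_iff.1 e, hu2])
    have hz : Γ.zz (q' 0) = u * Γ.zz (u⁻¹ • q' 0) * u := by
      have := zz_conj hb u (Γ.not_A ha (A1 hb hq))
      rw [smul_inv_smul] at this
      exact this.symm.trans (congrArg (fun x => u * Γ.zz (u⁻¹ • q' 0) * x) (Γ.zz_inv _))
    rcases key _ ha ha2 with e | e <;> rw [e] at hz
    · refine ⟨Γ.w q, ?_, w_sq hb hq, (start_comm_w hb hq).symm, (end_comm_w hb hq).symm, fun x _ hx => hx,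
        fun K _ hK => hK⟩
      rw [hz, w_eq hb hq, ← mul_assoc (Γ.zz (q 0)) (Γ.zz (q 0)), Γ.zz_sq, one_mul]
    · refine ⟨Γ.w q * Γ.zz (q 2), ?_, ?_, ?_, ?_, fun x hx hx' => hx'.mul_right hx,
        fun K hK hK' => mul_mem hK' hK⟩
      · rw [hz, ← mul_assoc (Γ.zz (q 0)), w_eq hb hq, ← mul_assoc (Γ.zz (q 0)) (Γ.zz (q 0)), Γ.zz_sq,
          one_mul]
        calc u * (Γ.zz (q 0) * Γ.zz (q 2)) * u = u * Γ.zz (q 0) * (Γ.zz (q 2) * u) := by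
              simp only [mul_assoc]
          _ = _ := by rw [(z_comm_end hb hq).eq]; simp only [mul_assoc]; rw [hu]
      · rw [(z_comm_w hb hq).mul_mul_mul_comm, w_sq hb hq, Γ.zz_sq, one_mul]
      · exact (start_comm_w hb hq).symm.mul_left (z_comm_start hb hq)
      · exact (end_comm_w hb hq).symm.mul_left (z_comm_end hb hq)

theorem w_congr {q' : ℕ → V} (hq' : Γ.Chain q') (h : ∀ i, 2 ≤ i → i ≤ Γ.b + 1 → q' i = q i) :
    Γ.w q' = Γ.w q := by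
  obtain ⟨c, hc, hcs, hct, hcu, hcx, -⟩ := start_change hb hq hq' h
  obtain ⟨d, hd, hds, hdu, hdt, hdx, -⟩ := start_change hb (rev hb hq) (rev hb hq')
    (fun i hi hi' => h _ (by omega) (by omega))
  simp only [Nat.sub_zero, Nat.sub_self, w_rev hb hq] at hd hdu hdt hdx
  have hcd : Commute c d := by
    refine hdx c (hcx _ ?_ ?_).symm (hcx _ (z_comm_w hb hq).symm (Commute.refl _)).symm
    · exact (comm_idx hb hq (i := 2) (by omega) (by omega) even_two (by omega) (by omega)).symm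
    · have := z_comm_w hb (rev hb hq)
      rwa [w_rev hb hq] at this
  calc Γ.w q' = (Γ.zz (q 0) * c * (Γ.zz (q (Γ.b + 3)) * d)) *
        (Γ.zz (q 0) * c * (Γ.zz (q (Γ.b + 3)) * d)) := by
          simp only [w, hc, hd, mul_assoc]
    _ = (Γ.zz (q 0) * Γ.zz (q (Γ.b + 3)) * (c * d)) * (Γ.zz (q 0) * Γ.zz (q (Γ.b + 3)) * (c * d)) := by
          rw [hcu.mul_mul_mul_comm]
    _ = (Γ.zz (q 0) * Γ.zz (q (Γ.b + 3))) * (Γ.zz (q 0) * Γ.zz (q (Γ.b + 3))) * ((c * d) * (c * d)) :=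
          ((hct.mul_right hcu).mul_left (hdt.mul_right hdu)).mul_mul_mul_comm _ _
    _ = Γ.w q := by
          rw [hcd.symm.mul_mul_mul_comm, hcs, hds, one_mul, mul_one]
          simp only [w, mul_assoc]

theorem comm_w {g : X} (hg : ∀ i, 2 ≤ i → i ≤ Γ.b + 1 → g • q i = q i) :
    Commute g (Γ.w q) := by
  have := w_congr hb hq (smul hb hq g) hg
  rw [← w_smul hb hq g] at this
  exact mul_inv_eq_iff_eq_mul.1 this

theorem w_ne_one : Γ.w q ≠ 1 := by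
  intro hw
  have hb3 := hb.2
  have hp : Γ.Path (fun i => q (i + 1)) (Γ.b + 1) :=
    (hq.1.shift (j := 1) (m := Γ.b + 1) (by omega)).congr fun i _ => congrArg q (Nat.add_comm i 1)
  have hvA : Γ.A (q (Γ.b + 2)) := A_succ_b hb hp (A1 hb hq)
  have ht : Commute (Γ.zz (q 0)) (Γ.zz (q (Γ.b + 3))) := by
    have : (Γ.zz (q 0) * Γ.zz (q (Γ.b + 3))) * (Γ.zz (q 0) * Γ.zz (q (Γ.b + 3))) = 1 := by
      simpa [w, mul_assoc] using hw
    have := (inv_eq_of_mul_eq_one_left this).symm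
    rw [mul_inv_rev, Γ.zz_inv, Γ.zz_inv] at this
    exact this
  have heb : Even (Γ.b + 1) := hb.1.add_one
  refine ext_not_comm hb hp hq.2 fun z hz x hx => ?_
  rcases Z_cases hb (A1 hb hq) (Γ.symm (hq.1.1 0 (by omega))) (hq.1.1 1 (by omega))
    (Ne.symm (hq.1.2 0 (by omega))) hz with rfl | rfl | rfl | rfl <;>
  rcases Z_cases hb hvA (hq.1.1 (Γ.b + 2) (by omega)) (Γ.symm (hq.1.1 (Γ.b + 1) (by omega)))
    (hq.1.2 (Γ.b + 1) (by omega)) hx with rfl | rfl | rfl | rfl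
  all_goals
    have h1 : Commute (Γ.zz (q 2)) (Γ.zz (q (Γ.b + 3))) := z_comm_end hb hq
    have h2 : Commute (Γ.zz (q 0)) (Γ.zz (q (Γ.b + 1))) :=
      comm_idx hb hq (by omega) (by omega) (by simp) (by omega) (by omega)
    have h3 : Commute (Γ.zz (q 2)) (Γ.zz (q (Γ.b + 1))) :=
      comm_idx hb hq (by omega) (by omega) even_two (by omega) (by omega)
    show Commute _ _
    first
      | exact Commute.one_left _
      | exact Commute.one_right _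
      | assumption
      | exact ht.mul_right h2
      | exact h1.mul_right h3
      | exact ht.mul_left h1
      | exact h2.mul_left h3
      | exact (ht.mul_right h2).mul_left (h1.mul_right h3)

theorem w_ne_z : Γ.w q ≠ Γ.zz (q 2) := by
  intro hw
  have hb3 := hb.2
  set u := Γ.zz (q (Γ.b + 3)) with hu
  have h12 : Γ.Adj (q 1) (q 2) := hq.1.1 1 (by omega)
  have hu2 : u • q 2 = q 2 := end_fix hb hq le_rfl (by omega)
  have hv : Γ.Adj (u • q 1) (q 2) := hu2 ▸ Γ.smul u h12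
  have h10 : Γ.Adj (q 1) (q 0) := Γ.symm (hq.1.1 0 (by omega))
  have hz2 : Γ.zz (q 2) ∈ Γ.Z (u • q 1) := Γ.zz_mem_Z hv
  have ht : Γ.zz (q 0) ∈ Γ.Z (u • q 1) := by
    have e : Γ.zz (q 0) = Γ.zz (q 2) * Γ.zz (u • q 0) := by
      rw [← hw, ← conj_start hb hq, w_eq hb hq, mul_assoc]
      refine (mul_eq_left.2 ?_).symm
      rw [conj_start hb hq]
      exact Γ.zz_sq _
    rw [e]
    exact mul_mem hz2 (Γ.zz_mem_Z (Γ.smul u h10))
  have hle : Γ.Z (q 1) ≤ Γ.Z (u • q 1) :=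
    Z_le_of_two hb (A1 hb hq) h10 h12 (Ne.symm (hq.1.2 0 (by omega))) ht hz2
  refine Γ.not_normalize h12 (A1 hb hq) hu2 (end_moves hb hq) fun z hz => ?_
  have := Γ.conj_mem_Z (hle hz) u
  rwa [← mul_smul, Γ.zz_sq, one_smul] at this

theorem conj_start_iff {g : X} (hg : g ∈ Γ.Q (q 2)) :
    (g ∈ Γ.Q (q 1) ↔ g ∈ Γ.Q (Γ.zz (q (Γ.b + 3)) • q 1)) → g * Γ.w q * g⁻¹ = Γ.w q := by
  set u := Γ.zz (q (Γ.b + 3)) with hu
  intro hbit
  have h12 : Γ.Adj (q 1) (q 2) := hq.1.1 1 (by omega)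
  have hu2 : u • q 2 = q 2 := end_fix hb hq le_rfl (by omega)
  have hv : Γ.Adj (u • q 1) (q 2) := hu2 ▸ Γ.smul u h12
  have h10 : Γ.Adj (q 1) (q 0) := Γ.symm (hq.1.1 0 (by omega))
  have ne02 : q 0 ≠ q 2 := Ne.symm (hq.1.2 0 (by omega))
  have ne02' : u • q 0 ≠ q 2 := fun e => ne02 (MulAction.injective u (e.trans hu2.symm))
  have k1 := zz_conj_mem hb (A1 hb hq) h10 h12 ne02 (g := g) ⟨hg.2 _ (Γ.symm h12), hg.1⟩
  have k2 := zz_conj_mem hb ((Γ.A_smul u _).2 (A1 hb hq)) (Γ.smul u h10) hv ne02' (g := g)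
    ⟨hg.2 _ (Γ.symm hv), hg.1⟩
  rw [← conj_start hb hq] at k2
  have e : g * Γ.w q * g⁻¹ = (g * Γ.zz (q 0) * g⁻¹) * (g * (u * Γ.zz (q 0) * u) * g⁻¹) := by
    rw [w_eq hb hq]; simp only [hu]; group
  by_cases h : g ∈ Γ.Q (q 1)
  · rw [e, k1.1 h, k2.1 (hbit.1 h), w_eq hb hq]
  · rw [e, k1.2 h, k2.2 (mt hbit.2 h)]
    have hc : Commute (Γ.zz (q 2)) (u * Γ.zz (q 0) * u) :=
      ((z_comm_end hb hq).mul_right (z_comm_start hb hq)).mul_right (z_comm_end hb hq)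
    rw [hc.mul_mul_mul_comm, Γ.zz_sq, mul_one, w_eq hb hq]

theorem conj_w_of_ne {g : X} (hg : g ∈ Γ.Q (q 2))
    (hbit : ¬ (g ∈ Γ.Q (q 1) ↔ g ∈ Γ.Q (Γ.zz (q (Γ.b + 3)) • q 1))) :
    g * Γ.w q * g⁻¹ = Γ.w q * Γ.zz (q 2) := by
  set u := Γ.zz (q (Γ.b + 3)) with hu
  have h12 : Γ.Adj (q 1) (q 2) := hq.1.1 1 (by omega)
  have hu2 : u • q 2 = q 2 := end_fix hb hq le_rfl (by omega)
  have hv : Γ.Adj (u • q 1) (q 2) := hu2 ▸ Γ.smul u h12
  have h10 : Γ.Adj (q 1) (q 0) := Γ.symm (hq.1.1 0 (by omega))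
  have ne02 : q 0 ≠ q 2 := Ne.symm (hq.1.2 0 (by omega))
  have ne02' : u • q 0 ≠ q 2 := fun e => ne02 (MulAction.injective u (e.trans hu2.symm))
  have k1 := zz_conj_mem hb (A1 hb hq) h10 h12 ne02 (g := g) ⟨hg.2 _ (Γ.symm h12), hg.1⟩
  have k2 := zz_conj_mem hb ((Γ.A_smul u _).2 (A1 hb hq)) (Γ.smul u h10) hv ne02' (g := g)
    ⟨hg.2 _ (Γ.symm hv), hg.1⟩
  rw [← conj_start hb hq] at k2
  have e : g * Γ.w q * g⁻¹ = (g * Γ.zz (q 0) * g⁻¹) * (g * (u * Γ.zz (q 0) * u) * g⁻¹) := by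
    rw [w_eq hb hq]; simp only [hu]; group
  have hc : Commute (Γ.zz (q 2)) (u * Γ.zz (q 0) * u) :=
    ((z_comm_end hb hq).mul_right (z_comm_start hb hq)).mul_right (z_comm_end hb hq)
  rw [e, w_eq hb hq]
  by_cases h : g ∈ Γ.Q (q 1)
  · rw [k1.1 h, k2.2 (fun h' => hbit (iff_of_true h h'))]
    simp only [mul_assoc, hu]
  · rw [k1.2 h, k2.1 (by tauto), mul_assoc, hc.eq, ← mul_assoc]

theorem eq_one_or_z {x : X} (hx : x ∈ Γ.E (q 3) (q 2)) (hx2 : x * x = 1)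
    (hu : Commute (Γ.zz (q (Γ.b + 3))) x) (hQ : ∀ g ∈ Γ.Q (q 2), g * x * g⁻¹ = x) :
    x = 1 ∨ x = Γ.zz (q 2) := by
  have h32 : Γ.Adj (q 3) (q 2) := Γ.symm (hq.1.1 2 (by omega))
  have hA3 : Γ.A (q 3) := by rw [A_iff hb hq (by omega)]; decide
  refine om_cases hb (Γ.not_A h32 hA3) ⟨hx.2, hx2, Γ.omega h32 hA3 x hx hx2 fun g hg => ?_⟩
  by_cases hgQ : g ∈ Γ.Q (q 2)
  · exact mul_inv_eq_iff_eq_mul.1 (hQ g hgQ)
  · rw [Γ.E_comm] at hg
    have := Γ.mul_mem_Q (hq.1.1 2 (by omega)) hg hgQ (end_mem_E hb hq) (end_not_Q hb hq)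
    have h1 : Commute (g * Γ.zz (q (Γ.b + 3))) x := mul_inv_eq_iff_eq_mul.1 (hQ _ this)
    have h2 := h1.mul_left hu
    rwa [mul_assoc, Γ.zz_sq, mul_one] at h2

theorem w_mem_E : Γ.w q ∈ Γ.E (q 3) (q 2) := by
  have h : ∀ i, 2 ≤ i → i ≤ 3 → Γ.w q • q i = q i := fun i h2 h3 => by
    have hb3 := hb.2
    simp only [w, mul_smul, end_fix hb hq h2 (by omega), start_fix hb hq (i := i) (by omega)]
  exact ⟨h 3 (by omega) le_rfl, h 2 le_rfl (by omega)⟩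

theorem exists_bit_ne :
    ∃ g ∈ Γ.Q (q 2), ¬ (g ∈ Γ.Q (q 1) ↔ g ∈ Γ.Q (Γ.zz (q (Γ.b + 3)) • q 1)) := by
  by_contra h
  push Not at h
  rcases eq_one_or_z hb hq (w_mem_E hb hq) (w_sq hb hq) (end_comm_w hb hq)
    (fun g hg => conj_start_iff hb hq hg (h g hg)) with e | e
  · exact w_ne_one hb hq e
  · exact w_ne_z hb hq e

end Chain

end Amalgam

end Cfsg.Agent.Lib.Goldschmidt33
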