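import Cfsg.Agent.Lib.Goldschmidt33.Small

/-!
# The critical distance is not an even number above 2

Owner: helper54.
-/

set_option autoImplicit false
set_option linter.style.haveILetI false

namespace Cfsg.Agent.Lib.Goldschmidt33

universe u v

variable {X : Type u} {V : Type v} [Group X] [MulAction X V]

namespace Amalgam

variable {Γ : Amalgam X V} [Nonempty V]

theorem b_le_two_of_even (he : Even Γ.b) : Γ.b ≤ 2 := by
  by_contra hb2
  obtain ⟨p, hp, hA0, hne⟩ := Γ.exists_crit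
  have hAb : Γ.A (p Γ.b) := (hp.A_iff le_rfl).2 (iff_of_true hA0 he)
  obtain ⟨t, ht, htQ⟩ := SetLike.not_le_iff_exists.1 hne
  have htfix : ∀ i, i ≤ Γ.b → t • p i = p i := fun i hi =>
    fix_path hp (Nat.zero_le _) hi hA0 (by omega) (by omega) t ht
  have hadjb : Γ.Adj (p Γ.b) (p (Γ.b - 1)) := by
    have := hp.1 (Γ.b - 1) (by omega)
    rw [show Γ.b - 1 + 1 = Γ.b by omega] at this
    exact Γ.symm this
  have htE : t ∈ Γ.E (p Γ.b) (p (Γ.b - 1)) := ⟨htfix _ le_rfl, htfix _ (by omega)⟩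
  obtain ⟨u, hu, huQ⟩ : ∃ u ∈ Γ.Z (p Γ.b), u ∉ Γ.Q (p 0) := by
    refine SetLike.not_le_iff_exists.1 fun hle => htQ (Γ.mem_Q_of_comm hAb htE.1 fun z hz => ?_)
    exact (Γ.Q_comm_Z (hle hz) ht).symm
  have hufix : ∀ i, i ≤ Γ.b → u • p i = p i := fun i hi =>
    fix_path hp le_rfl hi hAb (by omega) (by omega) u hu
  have h01 : Γ.Adj (p 0) (p 1) := hp.1 0 (by omega)
  have huE : u ∈ Γ.E (p 0) (p 1) := ⟨hufix 0 (Nat.zero_le _), hufix 1 (by omega)⟩
  -- the central involutions of `p 1` are central involutions of `p (b - 1)`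
  have hOm : Γ.Om (p 1) ≤ Γ.Om (p (Γ.b - 1)) := by
    intro ω hω
    obtain ⟨z, hz, rfl⟩ := Γ.exists_comm_eq h01 hA0 hω huE huQ
    have hzE : z ∈ Γ.E (p Γ.b) (p (Γ.b - 1)) :=
      ⟨fix_path hp (Nat.zero_le _) le_rfl hA0 (by omega) (by omega) z hz,
        fix_path hp (Nat.zero_le _) (by omega) hA0 (by omega) (by omega) z hz⟩
    have hπ := Γ.pair_mem_om hadjb hAb hu hzE
    convert hπ using 1
    rw [Γ.Z_comm hu (Γ.conj_mem_Z' hzE.1 hu), inv_eq_of_mul_eq_one_left (Γ.Z_sq hz),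
      inv_eq_of_mul_eq_one_left (Γ.Z_sq hu)]
    simp [mul_assoc]
  have hOmZ : Γ.Om (p 1) ≤ Γ.Z (p Γ.b) := hOm.trans (Γ.Om_le_Z hadjb)
  have hA2 : Γ.A (p 2) := (hp.A_iff (by omega)).2 (iff_of_true hA0 even_two)
  -- a critical path reversed from two steps beyond the end is impossible
  have key : ∀ q : ℕ → V, Γ.Path q (Γ.b + 2) → (∀ i, i ≤ Γ.b → q i = p i) →
      Γ.Z (q (Γ.b + 2)) ≤ Γ.Q (p 2) := by
    intro q hq hqp
    by_contra hc
    obtain ⟨x, hx, hxQ⟩ := SetLike.not_le_iff_exists.1 hc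
    have hqA : Γ.A (q (Γ.b + 2)) := by
      rw [hq.A_add (j := Γ.b) le_rfl (by omega) (by simp [parity_simps, he]), hqp _ le_rfl]
      exact hAb
    have e2 : q 2 = p 2 := hqp 2 (by omega)
    have e3 : q 3 = p 3 := hqp 3 (by omega)
    have hxE : x ∈ Γ.E (p 2) (p 3) := by
      rw [← e2, ← e3]
      exact ⟨fix_path hq le_rfl (by omega) hqA (by omega) (by omega) x hx,
        fix_path hq le_rfl (by omega) hqA (by omega) (by omega) x hx⟩
    obtain ⟨ω, hω, hω1⟩ := Γ.exists_om h01 hA0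
    have hc' : x * ω = ω * x := path_comm hq le_rfl (j := Γ.b) (by omega) hqA (by omega) (by omega) hx
      (by rw [hqp _ le_rfl]; exact hOmZ hω)
    have h21 : Γ.Adj (p 2) (p 1) := Γ.symm (hp.1 1 (by omega))
    have h23 : Γ.Adj (p 2) (p 3) := hp.1 2 (by omega)
    exact hω1 (Γ.om_inter h21 h23 (Ne.symm (hp.2 1 (by omega))) hω
      (Γ.fixed_mem_om h23 hA2 (Γ.Om_le_Z h21 hω) hxE hxQ hc'))
  obtain ⟨q₁, hq₁, hqp₁⟩ := hp.exists_ext
  by_cases hM : ∀ j, j < Γ.b → Γ.Mov j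
  · obtain ⟨q, hq, hqp⟩ := hq₁.exists_ext
    have hcrit := crit_of_mov hM (q := fun i => q (Γ.b + 2 - i)) ((hq.rev).mono (by omega))
      (by show Γ.A (q (Γ.b + 2 - 0))
          rw [Nat.sub_zero, hq.A_add (j := Γ.b) le_rfl (by omega) (by simp [parity_simps, he]), hqp _ (by omega),
            hqp₁ _ le_rfl]
          exact hAb)
    refine hcrit.2.2 ?_
    show Γ.Z (q (Γ.b + 2 - 0)) ≤ Γ.Q (q (Γ.b + 2 - Γ.b))
    rw [Nat.sub_zero, show Γ.b + 2 - Γ.b = 2 by omega, hqp 2 (by omega), hqp₁ 2 (by omega)]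
    exact key q hq fun i hi => by rw [hqp i (by omega), hqp₁ i hi]
  · push Not at hM
    classical
    have hM' : ∃ j, j < Γ.b ∧ ¬ Γ.Mov j := hM
    obtain ⟨hkb, hk⟩ := Nat.find_spec hM'
    set k := Nat.find hM' with hkdef
    have hlt : ∀ j, j < k → Γ.Mov j := fun j hj => by
      by_contra h
      exact Nat.find_min hM' hj ⟨by omega, h⟩
    have ht1 : t ≠ 1 := fun e => htQ (e ▸ one_mem _)
    obtain ⟨hodd, hk3⟩ := Γ.odd_failure hlt hk hp (by omega) htfix ht1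
    obtain ⟨w, -, hR⟩ := Γ.exists_rule hlt hk
    have hτ : Γ.A (w 0) := by
      by_contra hw
      refine huQ ?_
      have := hR.long hp.rev (by omega) ?_ (g := u) fun i hi => hufix _ (by omega)
      · simpa using this
      · show Γ.A (p (Γ.b - (Γ.b - k))) ↔ _
        rw [show Γ.b - (Γ.b - k) = k by omega, hp.A_iff (by omega)]
        have := Nat.not_even_iff_odd.2 hodd
        tauto
    have hAb1 : ¬ Γ.A (q₁ (Γ.b + 1)) := Γ.not_A (by
      have := hq₁.1 Γ.b (by omega)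
      rwa [hqp₁ _ le_rfl] at this) hAb
    set K : Subgroup X := Subgroup.closure {x | ∃ y, Γ.Adj (q₁ (Γ.b + 1)) y ∧ x ∈ Γ.Z y} with hKdef
    have hbb : Γ.Adj (q₁ (Γ.b + 1)) (p Γ.b) := by
      have := hq₁.1 Γ.b (by omega)
      rw [hqp₁ _ le_rfl] at this
      exact Γ.symm this
    have hKE : K ≤ Γ.E (q₁ (Γ.b + 1)) (p Γ.b) := by
      refine (Subgroup.closure_le _).2 ?_
      rintro x ⟨y, hy, hx⟩
      exact Γ.Q_le_E hbb (Γ.le_Q (Γ.A_of_adj hy hAb1) (Base.Near.adj (Γ.symm hy)) (by omega) hx)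
    have hclosed : ∀ g : X, (∀ y, Γ.Adj (q₁ (Γ.b + 1)) y → ∀ x ∈ Γ.Z y, g * x * g⁻¹ ∈ K) →
        ∀ x ∈ K, g * x * g⁻¹ ∈ K := by
      intro g hg x hx
      have : K ≤ K.comap (MulAut.conj g).toMonoidHom :=
        (Subgroup.closure_le _).2 fun z ⟨y, hy, hz⟩ => hg y hy z hz
      exact this hx
    have hZK : Γ.Z (p Γ.b) ≤ K := fun z hz => Subgroup.subset_closure ⟨_, hbb, hz⟩
    have hKbot : K = ⊥ := by
      refine Γ.eq_bot_of_mover hbb hKE (fun g hg => hclosed g fun y hy x hx =>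
        Subgroup.subset_closure ⟨g • y, Γ.adj_fix hg hy, Γ.conj_mem_Z hx g⟩) htE.1 ?_ (hclosed t ?_)
      · refine (Γ.smul_ne htE htQ hadjb (Γ.symm hbb) ?_).1
        have := hq₁.2 (Γ.b - 1) (by omega)
        rw [show Γ.b - 1 + 2 = Γ.b + 1 by omega, hqp₁ (Γ.b - 1) (by omega)] at this
        exact this
      intro y hy x hx
      by_cases hyb : y = p Γ.b
      · subst hyb
        exact hZK (Γ.conj_mem_Z' htE.1 hx)
      have hq : Γ.Path (snoc q₁ (Γ.b + 1 + 1) y) (Γ.b + 1 + 1) :=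
        hq₁.snoc hy (Or.inr (by rw [show Γ.b + 1 - 1 = Γ.b by omega, hqp₁ _ le_rfl]; exact hyb))
      have hqp : ∀ i, i ≤ Γ.b → snoc q₁ (Γ.b + 1 + 1) y i = p i := fun i hi => by
        rw [snoc_lt (by omega), hqp₁ i hi]
      have hyA : Γ.A y := Γ.A_of_adj hy hAb1
      have hxQ2 : x ∈ Γ.Q (p 2) := key _ hq hqp (by rw [snoc_self]; exact hx)
      have hxfix : ∀ i, 1 ≤ i → i ≤ Γ.b + 1 + 1 →
          x • snoc q₁ (Γ.b + 1 + 1) y i = snoc q₁ (Γ.b + 1 + 1) y i := by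
        intro i h1 hi
        rcases Nat.lt_or_eq_of_le h1 with h | rfl
        · exact fix_path hq le_rfl hi (by rw [snoc_self]; exact hyA) (by omega) (by omega) x
            (by rw [snoc_self]; exact hx)
        · rw [hqp 1 (by omega)]
          exact hxQ2.2 _ (Γ.symm (hp.1 1 (by omega)))
      have hxQ1 : x ∈ Γ.Q (p 1) := by
        have := hR.long ((hq.rev).mono (Nat.le_succ (Γ.b + 1))) (by omega) ?_ (g := x)
          fun i hi => hxfix _ (by omega) (by omega)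
        · simpa [show Γ.b + 1 + 1 - (Γ.b + 1) = 1 by omega, hqp 1 (by omega)] using this
        · show Γ.A (snoc q₁ (Γ.b + 1 + 1) y (Γ.b + 1 + 1 - (Γ.b + 1 - k))) ↔ _
          rw [show Γ.b + 1 + 1 - (Γ.b + 1 - k) = 1 + k by omega,
            hq.A_iff (by omega), hqp 0 (Nat.zero_le _)]
          have : Even (1 + k) := by
            rw [Nat.even_add]; simp [Nat.not_even_iff_odd.2 hodd]
          tauto
      have hπ := hOmZ (Γ.pair_mem_om h01 hA0 ht (g := x)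
        ⟨hxQ1.2 _ (Γ.symm h01), hxQ1.1⟩)
      have e : t * x * t⁻¹ = t * (x * t * x⁻¹) * x := by
        rw [inv_eq_of_mul_eq_one_left (Γ.Z_sq ht)]
        group
      rw [e]
      exact mul_mem (hZK hπ) (Subgroup.subset_closure ⟨y, hy, hx⟩)
    exact Γ.Z_ne_bot hAb (eq_bot_iff.2 (hKbot ▸ hZK))

end Amalgam

end Cfsg.Agent.Lib.Goldschmidt33
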