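import Cfsg.Agent.Lib.Goldschmidt33.Three
import Cfsg.Agent.Lib.Goldschmidt33.EvenDist
import Cfsg.Agent.Lib.CharP.S3Amalgam.Main

/-!
# Goldschmidt's bound for amalgams of index (3, 3)

Owner: helper54.
-/

set_option autoImplicit false
set_option linter.style.haveILetI false
set_option linter.unusedSectionVars false

open Cfsg

namespace Cfsg.Agent.Lib.Goldschmidt33

universe u v

namespace Amalgam

variable {X : Type u} {V : Type v} [Group X] [MulAction X V] {Γ : Amalgam X V} [Nonempty V]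

theorem card_E_le {v u : V} (hvu : Γ.Adj v u) (hv : Γ.A v) : Nat.card ↥(Γ.E v u) ≤ 128 := by
  rcases Nat.even_or_odd Γ.b with he | ho
  · have h2 := b_le_two_of_even he
    have h1 := Γ.one_le_b
    obtain ⟨c, hc⟩ := he
    exact card_le_of_b_two (by omega) hvu hv
  · by_cases h1 : Γ.b = 1
    · exact card_le_of_b_one h1 hvu hv
    obtain ⟨c, hc⟩ := ho
    have hb : Γ.OddB := ⟨⟨c, hc⟩, by omega⟩
    have h5 := b_le_five hb
    have h5' := b_ne_five hb
    exact card_le_of_b_three (by omega) hb hvu hv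

end Amalgam

open Cfsg.Agent.Lib.CosetGraph.Basic Cfsg.Agent.Lib.CosetGraph.SylowIn

variable {X : Type u} [Group X] {M₁ M₂ : Subgroup X}

/-- The hypotheses of Goldschmidt's theorem, inside the group generated by `M₁` and `M₂`. -/
structure Setup (M₁ M₂ : Subgroup X) : Prop where
  gen : M₁ ⊔ M₂ = ⊤
  fin₁ : Finite ↥M₁
  fin₂ : Finite ↥M₂
  syl₁ : ∃ S : Sylow 2 ↥M₁, (S : Subgroup ↥M₁) = (M₁ ⊓ M₂).subgroupOf M₁
  syl₂ : ∃ S : Sylow 2 ↥M₂, (S : Subgroup ↥M₂) = (M₁ ⊓ M₂).subgroupOf M₂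
  quot₁ : Nonempty (↥M₁ ⧸ pCore 2 ↥M₁ ≃* Equiv.Perm (Fin 3))
  quot₂ : Nonempty (↥M₂ ⧸ pCore 2 ↥M₂ ≃* Equiv.Perm (Fin 3))
  core : ∀ N : Subgroup X, N ≤ M₁ ⊓ M₂ → N.Normal → N = ⊥

theorem Setup.swap (h : Setup M₁ M₂) : Setup M₂ M₁ :=
  ⟨by rw [sup_comm, h.gen], h.fin₂, h.fin₁, by rw [inf_comm]; exact h.syl₂,
    by rw [inf_comm]; exact h.syl₁, h.quot₂, h.quot₁, by rw [inf_comm]; exact h.core⟩

theorem card_facts {P T : Subgroup X} [Finite ↥P] (hTP : T ≤ P) (S : Sylow 2 ↥P)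
    (hS : (S : Subgroup ↥P) = T.subgroupOf P) (e : ↥P ⧸ pCore 2 ↥P ≃* Equiv.Perm (Fin 3)) :
    IsPGroup 2 ↥T ∧ Nat.card ↥P = 3 * Nat.card ↥T ∧
      Nat.card ↥T = 2 * Nat.card ↥(pCoreOf 2 P) := by
  haveI : Fact (Nat.Prime 2) := ⟨Nat.prime_two⟩
  have hT : IsSylowIn 2 T P := by
    have := isSylowIn_map_sylow (H := P) S
    rwa [hS, Subgroup.map_subgroupOf_eq_of_le hTP] at this
  obtain ⟨a, ha⟩ := IsPGroup.iff_card.1 (Cores.pCore_isPGroup 2 : IsPGroup 2 ↥(pCore 2 ↥P))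
  have hP : Nat.card ↥P = 2 ^ (a + 1) * 3 := by
    rw [Subgroup.card_eq_card_quotient_mul_card_subgroup (pCore 2 ↥P), Nat.card_congr e.toEquiv, ha]
    simp [Nat.card_eq_fintype_card, Fintype.card_perm, Nat.factorial]
    ring
  have hf : (Nat.card ↥P).factorization 2 = a + 1 := by
    rw [hP, Nat.factorization_mul (by simp) (by norm_num), Finsupp.add_apply, Nat.factorization_pow,
      Finsupp.smul_apply, Nat.Prime.factorization_self Nat.prime_two,
      Nat.factorization_eq_zero_of_not_dvd (by norm_num : ¬ 2 ∣ 3)]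
    simp
  have hcard : Nat.card ↥T = 2 ^ (a + 1) := by rw [hT.card_eq, hf]
  refine ⟨hT.isPGroup, ?_, ?_⟩
  · rw [hP, hcard, mul_comm]
  · rw [hcard, show pCoreOf 2 P = (pCore 2 ↥P).map P.subtype from rfl,
      Subgroup.card_map_of_injective P.subtype_injective, ha, pow_succ, mul_comm]

namespace Setup

variable (h : Setup M₁ M₂)
include h

theorem edge_data {v w : CosetVertex M₁ M₂} (hvw : (cosetGraph M₁ M₂).Adj v w) :
    ∃ (P : Subgroup X) (x : X), MulAction.stabilizer X v = P.map (MulAut.conj x).toMonoidHom ∧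
      MulAction.stabilizer X v ⊓ MulAction.stabilizer X w = (M₁ ⊓ M₂).map (MulAut.conj x).toMonoidHom ∧
      M₁ ⊓ M₂ ≤ P ∧ Finite ↥P ∧ IsPGroup 2 ↥(M₁ ⊓ M₂ : Subgroup X) ∧
      Nat.card ↥P = 3 * Nat.card ↥(M₁ ⊓ M₂ : Subgroup X) ∧
      Nat.card ↥(M₁ ⊓ M₂ : Subgroup X) = 2 * Nat.card ↥(pCoreOf 2 P) := by
  haveI := h.fin₁
  haveI := h.fin₂
  obtain ⟨S₁, hS₁⟩ := h.syl₁
  obtain ⟨S₂, hS₂⟩ := h.syl₂
  obtain ⟨e₁⟩ := h.quot₁
  obtain ⟨e₂⟩ := h.quot₂
  obtain ⟨x, he, hcase⟩ := exists_edge_rep hvw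
  rcases hcase with ⟨hv, -⟩ | ⟨hv, -⟩
  · exact ⟨M₁, x, hv, he, inf_le_left, h.fin₁, card_facts inf_le_left S₁ hS₁ e₁⟩
  · exact ⟨M₂, x, hv, he, inf_le_right, h.fin₂, card_facts inf_le_right S₂ hS₂ e₂⟩

theorem adj_three {v w : CosetVertex M₁ M₂} (hvw : (cosetGraph M₁ M₂).Adj v w) :
    ∃ a b, (cosetGraph M₁ M₂).Adj v a ∧ (cosetGraph M₁ M₂).Adj v b ∧ a ≠ w ∧ b ≠ w ∧ a ≠ b ∧
      ∀ z, (cosetGraph M₁ M₂).Adj v z → z = w ∨ z = a ∨ z = b := by
  obtain ⟨P, x, hv, he, hTP, hfin, -, hcard, -⟩ := h.edge_data hvw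
  haveI := hfin
  haveI : Finite ↥(M₁ ⊓ M₂ : Subgroup X) := Finite.of_injective _ (Subgroup.inclusion_injective hTP)
  set S := MulAction.stabilizer X v with hSdef
  have hset : {z | (cosetGraph M₁ M₂).Adj v z} = MulAction.orbit ↥S w := by
    ext z
    constructor
    · intro hz
      obtain ⟨g, hg, hgz⟩ := exists_stabilizer_smul_eq hvw hz
      exact ⟨⟨g, hg⟩, hgz⟩
    · rintro ⟨⟨g, hg⟩, rfl⟩
      have := adj_smul g hvw
      rwa [MulAction.mem_stabilizer_iff.1 hg] at this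
  have hS : Nat.card ↥S = Nat.card ↥P := by
    rw [hv]; exact Subgroup.card_map_of_injective (MulAut.conj x).injective
  have hE : Nat.card ↥(MulAction.stabilizer ↥S w) = Nat.card ↥(M₁ ⊓ M₂ : Subgroup X) := by
    rw [← Subgroup.card_map_of_injective (K := M₁ ⊓ M₂) (f := (MulAut.conj x).toMonoidHom)
      (MulAut.conj x).injective, ← he]
    exact Nat.card_congr ⟨fun y => ⟨y.1.1, y.1.2, y.2⟩, fun y => ⟨⟨y.1, y.2.1⟩, y.2.2⟩,
      fun _ => rfl, fun _ => rfl⟩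
  have horb : Nat.card ↥(MulAction.orbit ↥S w) = 3 := by
    refine (Nat.card_congr (MulAction.orbitEquivQuotientStabilizer ↥S w)).trans ?_
    have := Subgroup.card_eq_card_quotient_mul_card_subgroup (MulAction.stabilizer ↥S w)
    rw [hS, hcard, hE] at this
    exact (Nat.eq_of_mul_eq_mul_right Nat.card_pos this).symm
  rw [← hset, Nat.card_coe_set_eq] at horb
  obtain ⟨a, b, c, hab, hac, hbc, hall⟩ := Set.ncard_eq_three.1 horb
  have hiff : ∀ z, (cosetGraph M₁ M₂).Adj v z ↔ z = a ∨ z = b ∨ z = c := fun z => by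
    have := Set.ext_iff.1 hall z
    simpa using this
  rcases (hiff w).1 hvw with rfl | rfl | rfl
  · exact ⟨b, c, (hiff _).2 (by tauto), (hiff _).2 (by tauto), Ne.symm hab, Ne.symm hac, hbc,
      fun z hz => (hiff z).1 hz⟩
  · exact ⟨a, c, (hiff _).2 (by tauto), (hiff _).2 (by tauto), hab, Ne.symm hbc, hac,
      fun z hz => by have := (hiff z).1 hz; tauto⟩
  · exact ⟨a, b, (hiff _).2 (by tauto), (hiff _).2 (by tauto), hac, hbc, hab,
      fun z hz => by have := (hiff z).1 hz; tauto⟩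

theorem adj_swap {v w : CosetVertex M₁ M₂} (hvw : (cosetGraph M₁ M₂).Adj v w) :
    ∃ g : X, g • v = v ∧ g • w = w ∧ ∃ z, (cosetGraph M₁ M₂).Adj v z ∧ g • z ≠ z := by
  obtain ⟨P, x, hv, he, hTP, hfin, hp, -, hhalf⟩ := h.edge_data hvw
  haveI := hfin
  by_contra hno
  push Not at hno
  have hn : P ≤ Subgroup.normalizer ((M₁ ⊓ M₂ : Subgroup X) : Set X) := by
    have key : ∀ g ∈ P, ∀ k ∈ M₁ ⊓ M₂, g * k * g⁻¹ ∈ M₁ ⊓ M₂ := by
      intro g hg k hk
      have hg' : (x * g * x⁻¹) • v = v := by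
        rw [← MulAction.mem_stabilizer_iff, hv]; exact ⟨g, hg, rfl⟩
      have hk' : x * k * x⁻¹ ∈ MulAction.stabilizer X v ⊓ MulAction.stabilizer X w :=
        he ▸ ⟨k, hk, rfl⟩
      have hz : (cosetGraph M₁ M₂).Adj v ((x * g * x⁻¹)⁻¹ • w) := by
        have := adj_smul (x * g * x⁻¹)⁻¹ hvw
        rwa [inv_smul_eq_iff.2 hg'.symm] at this
      have : x * (g * k * g⁻¹) * x⁻¹ ∈ MulAction.stabilizer X v ⊓ MulAction.stabilizer X w := by
        rw [show x * (g * k * g⁻¹) * x⁻¹ = x * g * x⁻¹ * (x * k * x⁻¹) * (x * g * x⁻¹)⁻¹ by group]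
        refine ⟨?_, ?_⟩
        · show _ • v = v
          rw [mul_smul, mul_smul, inv_smul_eq_iff.2 hg'.symm, MulAction.mem_stabilizer_iff.1 hk'.1, hg']
        · show _ • w = w
          rw [mul_smul, mul_smul, hno _ hk'.1 hk'.2 _ hz, smul_inv_smul]
      rw [he] at this
      obtain ⟨k', hk'', e⟩ := this
      rwa [← (MulAut.conj x).injective e]
    intro g hg
    rw [Subgroup.mem_normalizer_iff]
    refine fun k => ⟨fun hk => key g hg k hk, fun hk => ?_⟩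
    have := key g⁻¹ (inv_mem hg) _ hk
    simpa [mul_assoc] using this
  haveI : Finite ↥(pCoreOf 2 P) :=
    Finite.of_injective _ (Subgroup.inclusion_injective (pCoreOf_le 2 P))
  have h1 := Subgroup.card_le_of_le (le_pCoreOf hTP hn hp)
  have h2 : 0 < Nat.card ↥(pCoreOf 2 P) := Nat.card_pos
  omega

/-- The coset graph as an instance of the abstract setting. -/
def base : Base X (CosetVertex M₁ M₂) where
  Adj := (cosetGraph M₁ M₂).Adj
  symm := fun h => h.symm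
  smul := fun g _ _ h => adj_smul g h
  A := fun v => v.isLeft = true
  A_adj := fun h => by
    rcases adj_iff.1 h with ⟨x, rfl, rfl⟩ | ⟨x, rfl, rfl⟩ <;> simp
  A_smul := fun g v => by rcases v with q | q <;> exact Iff.rfl
  conn := fun v w => (SimpleGraph.reachable_iff_reflTransGen v w).1 ((connected h.gen).preconnected v w)
  faithful := fun g hg => by
    have := eq_bot_of_forall_fix (M₁ := M₁) (M₂ := M₂) h.core (Subgroup.zpowers g)
      fun v => Subgroup.zpowers_le.2 (hg v)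
    simpa using this
  fin := fun v => by
    obtain ⟨w, hw⟩ := CosetGraph.Basic.exists_adj v
    obtain ⟨P, x, hv, -, -, hfin, -⟩ := h.edge_data hw
    haveI := hfin
    rw [hv]
    exact Finite.of_equiv _ (P.equivMapOfInjective _ (MulAut.conj x).injective).toEquiv
  two := fun {v w} hvw => by
    obtain ⟨P, x, -, he, -, -, hp, -⟩ := h.edge_data hvw
    rw [he]
    exact hp.map _
  three := fun hvw => h.adj_three hvw
  swap := fun hvw => h.adj_swap hvw
  exists_adj := fun v => CosetGraph.Basic.exists_adj v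

theorem card_eq_E : Nat.card ↥(M₁ ⊓ M₂ : Subgroup X) =
    Nat.card ↥(h.base.E (Sum.inl ((1 : X) : X ⧸ M₁)) (Sum.inr ((1 : X) : X ⧸ M₂))) := by
  rw [show h.base.E (Sum.inl ((1 : X) : X ⧸ M₁)) (Sum.inr ((1 : X) : X ⧸ M₂)) = M₁ ⊓ M₂ by
    rw [Base.E, stabilizer_inl_one, stabilizer_inr_one]]

theorem card_le_of_not_charTwo
    (hc : ¬ ∀ (v : CosetVertex M₁ M₂) (g : X), g • v = v →
      (∀ q ∈ h.base.Q v, g * q = q * g) → g ∈ h.base.Q v) :
    Nat.card ↥(M₁ ⊓ M₂ : Subgroup X) ≤ 16 := by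
  push Not at hc
  obtain ⟨v, g, hgv, hgc, hgQ⟩ := hc
  obtain ⟨w, hw⟩ := h.base.exists_adj v
  have h16 := h.base.card_le_of_degenerate hgv hgQ hgc hw
  rw [h.card_eq_E]
  have h01 : h.base.Adj (Sum.inl ((1 : X) : X ⧸ M₁)) (Sum.inr ((1 : X) : X ⧸ M₂)) := adj_inl_inr 1
  by_cases hA : h.base.A v
  · rw [h.base.card_E_eq hw h01 (iff_of_true hA rfl)]
    exact h16
  · rw [h.base.card_E_eq (h.base.symm hw) h01 (iff_of_true (by
      have := h.base.A_adj hw
      tauto) rfl), h.base.E_comm]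
    exact h16

theorem card_le_of_central
    (hcent : M₂ ≤ Subgroup.centralizer
      (omegaOne 2 ((M₁ ⊓ M₂) ⊓ Subgroup.centralizer ((M₁ ⊓ M₂ : Subgroup X) : Set X)) : Set X)) :
    Nat.card ↥(M₁ ⊓ M₂ : Subgroup X) ≤ 128 := by
  by_cases hc : ∀ (v : CosetVertex M₁ M₂) (g : X), g • v = v →
      (∀ q ∈ h.base.Q v, g * q = q * g) → g ∈ h.base.Q v
  swap
  · exact (h.card_le_of_not_charTwo hc).trans (by norm_num)
  have hom : ∀ {v w : CosetVertex M₁ M₂}, h.base.Adj v w → h.base.A v → ∀ z ∈ h.base.E v w,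
      z * z = 1 → (∀ g ∈ h.base.E v w, g * z = z * g) → ∀ g : X, g • w = w → g * z = z * g := by
    intro v w hvw hv z hz hz2 hzc g hg
    rcases adj_iff.1 hvw with ⟨x, rfl, rfl⟩ | ⟨x, rfl, rfl⟩
    swap
    · simp [base] at hv
    have hE : h.base.E (Sum.inl (x : X ⧸ M₁)) (Sum.inr (x : X ⧸ M₂)) =
        (M₁ ⊓ M₂).map (MulAut.conj x).toMonoidHom := edgeStabilizer_eq x
    rw [hE] at hz hzc
    obtain ⟨z₀, hz₀, rfl⟩ := hz
    rw [← MulAction.mem_stabilizer_iff, stabilizer_inr] at hg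
    obtain ⟨g₀, hg₀, rfl⟩ := hg
    rw [← map_mul, ← map_mul]
    congr 1
    have hsq : z₀ * z₀ = 1 := (MulAut.conj x).injective (by
      rw [map_mul, map_one]; exact hz2)
    refine (Subgroup.mem_centralizer_iff.1 (hcent hg₀) z₀ (Subgroup.subset_closure ⟨⟨hz₀, ?_⟩, ?_⟩)).symm
    · exact Subgroup.mem_centralizer_iff.2 fun k hk => (MulAut.conj x).injective (by
        rw [map_mul, map_mul]; exact hzc _ ⟨k, hk, rfl⟩)
    · rw [pow_two]; exact hsq
  let Γ : Amalgam X (CosetVertex M₁ M₂) := { h.base with charTwo := hc, omega := hom }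
  haveI : Nonempty (CosetVertex M₁ M₂) := ⟨Sum.inl ((1 : X) : X ⧸ M₁)⟩
  rw [h.card_eq_E]
  exact Amalgam.card_E_le (Γ := Γ) (adj_inl_inr 1) rfl

theorem Q_eq_pCoreOf {v w : CosetVertex M₁ M₂} (hvw : h.base.Adj v w) {P : Subgroup X}
    (hv : MulAction.stabilizer X v = P) (hTP : M₁ ⊓ M₂ ≤ P) [Finite ↥P]
    (hw : MulAction.stabilizer X v ⊓ MulAction.stabilizer X w = M₁ ⊓ M₂)
    (hsyl : IsSylowIn 2 (M₁ ⊓ M₂) P) : h.base.Q v = pCoreOf 2 P := by
  haveI : Fact (Nat.Prime 2) := ⟨Nat.prime_two⟩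
  apply le_antisymm
  · refine le_pCoreOf (fun g hg => hv ▸ hg.1) ?_ ((h.base.two hvw).to_le (h.base.Q_le_E hvw))
    intro g hg
    rw [← hv] at hg
    rw [Subgroup.mem_normalizer_iff]
    refine fun k => ⟨fun hk => h.base.conj_mem_Q' hg hk, fun hk => ?_⟩
    have := h.base.conj_mem_Q' (h := g⁻¹) (inv_smul_eq_iff.2 (MulAction.mem_stabilizer_iff.1 hg).symm) hk
    simpa [mul_assoc] using this
  · intro k hk
    have hkE : ∀ m ∈ pCoreOf 2 P, m ∈ MulAction.stabilizer X v ⊓ MulAction.stabilizer X w :=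
      fun m hm => hw.symm ▸ pCoreOf_le_sylow hsyl hm
    refine ⟨(hkE k hk).1, fun z hz => ?_⟩
    obtain ⟨g, hg, rfl⟩ := exists_stabilizer_smul_eq hvw hz
    rw [hv] at hg
    have hk' : g⁻¹ * k * g ∈ pCoreOf 2 P :=
      (Subgroup.mem_normalizer_iff''.1 (le_normalizer_pCoreOf 2 P hg) k).1 hk
    have : (g⁻¹ * k * g) • w = w := (hkE _ hk').2
    rwa [mul_smul, mul_smul, inv_smul_eq_iff] at this

theorem card_le : Nat.card ↥(M₁ ⊓ M₂ : Subgroup X) ≤ 128 := by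
  haveI := h.fin₁
  haveI := h.fin₂
  haveI : Fact (Nat.Prime 2) := ⟨Nat.prime_two⟩
  set T : Subgroup X := M₁ ⊓ M₂ with hT
  by_cases h₂c : M₂ ≤ Subgroup.centralizer (omegaOne 2 (T ⊓ Subgroup.centralizer (T : Set X)) : Set X)
  · exact h.card_le_of_central h₂c
  by_cases h₁c : M₁ ≤ Subgroup.centralizer (omegaOne 2 (T ⊓ Subgroup.centralizer (T : Set X)) : Set X)
  · rw [hT, inf_comm M₁ M₂] at h₁c ⊢
    exact h.swap.card_le_of_central h₁c
  by_cases hc : ∀ (v : CosetVertex M₁ M₂) (g : X), g • v = v →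
      (∀ q ∈ h.base.Q v, g * q = q * g) → g ∈ h.base.Q v
  swap
  · exact (h.card_le_of_not_charTwo hc).trans (by norm_num)
  have hsyl : ∀ {P : Subgroup X} [Finite ↥P], T ≤ P →
      (∃ S : Sylow 2 ↥P, (S : Subgroup ↥P) = T.subgroupOf P) → IsSylowIn 2 T P := by
    intro P _ hTP ⟨S, hS⟩
    have := isSylowIn_map_sylow (H := P) S
    rwa [hS, Subgroup.map_subgroupOf_eq_of_le hTP] at this
  set A₀ : CosetVertex M₁ M₂ := Sum.inl ((1 : X) : X ⧸ M₁) with hA₀
  set B₀ : CosetVertex M₁ M₂ := Sum.inr ((1 : X) : X ⧸ M₂) with hB₀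
  have hAB : h.base.Adj A₀ B₀ := adj_inl_inr 1
  have eA : MulAction.stabilizer X A₀ = M₁ := stabilizer_inl_one
  have eB : MulAction.stabilizer X B₀ = M₂ := stabilizer_inr_one
  have hQA := h.Q_eq_pCoreOf hAB eA inf_le_left (by rw [eA, eB])
    (hsyl inf_le_left h.syl₁)
  have hQB := h.Q_eq_pCoreOf (h.base.symm hAB) eB inf_le_right (by rw [eA, eB, inf_comm])
    (hsyl inf_le_right h.syl₂)
  have hcp : ∀ P ∈ ({M₁, M₂} : Set (Subgroup X)),
      P ⊓ Subgroup.centralizer (pCoreOf 2 P : Set X) ≤ pCoreOf 2 P := by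
    rintro P (rfl | hP) g hg
    · rw [← hQA]
      refine hc A₀ g (eA.symm ▸ hg.1 : g ∈ MulAction.stabilizer X A₀) fun q hq => ?_
      exact (Subgroup.mem_centralizer_iff.1 hg.2 q (hQA ▸ hq)).symm
    · obtain rfl : P = M₂ := hP
      rw [← hQB]
      refine hc B₀ g (eB.symm ▸ hg.1 : g ∈ MulAction.stabilizer X B₀) fun q hq => ?_
      exact (Subgroup.mem_centralizer_iff.1 hg.2 q (hQB ▸ hq)).symm
  have hcls := CharP.S3Amalgam.classification (T := T) h.gen hT hcp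
    (by rintro P (rfl | hP)
        · exact h.syl₁
        · exact (show P = M₂ from hP) ▸ h.syl₂)
    (fun N hN hle => h.core N hle hN)
    (by rintro P (rfl | hP)
        · exact h.quot₁
        · exact (show P = M₂ from hP) ▸ h.quot₂)
    (by rintro P (rfl | hP)
        · exact h₁c
        · exact (show P = M₂ from hP) ▸ h₂c)
  have h24 : Nat.card (Equiv.Perm (Fin 4)) = 24 := by
    simp [Nat.card_eq_fintype_card, Fintype.card_perm, Nat.factorial]
  have h2 : Nat.card (Multiplicative (ZMod 2)) = 2 := by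
    rw [Nat.card_congr Multiplicative.toAdd, Nat.card_zmod]
  have hle : Nat.card ↥T ≤ Nat.card ↥M₁ := Subgroup.card_le_of_le inf_le_left
  rcases hcls with ⟨⟨e⟩, -⟩ | ⟨⟨e⟩, -⟩ <;> have hc' := Nat.card_congr e.toEquiv
  · omega
  · rw [Nat.card_prod, h2] at hc'
    omega

end Setup

end Cfsg.Agent.Lib.Goldschmidt33
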