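import Cfsg.Agent.Lib.Goldschmidt33.Config

/-!
# Shifting critical paths; the commutator of a chain lies in `Z (q 3)`

Owner: helper54.
-/

set_option autoImplicit false
set_option linter.style.haveILetI false
set_option linter.unusedSectionVars false

namespace Cfsg.Agent.Lib.Goldschmidt33

universe u v

variable {X : Type u} {V : Type v} [Group X] [MulAction X V]

namespace Base

variable (Γ : Base X V)

theorem mul_mem_Q_iff {v u : V} (hu : Γ.Adj v u) {g h : X} (hg : g ∈ Γ.E v u) (hh : h ∈ Γ.E v u) :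
    g * h ∈ Γ.Q v ↔ (g ∈ Γ.Q v ↔ h ∈ Γ.Q v) := by
  by_cases h1 : g ∈ Γ.Q v
  · rw [mul_mem_cancel_left h1]
    tauto
  · by_cases h2 : h ∈ Γ.Q v
    · rw [mul_mem_cancel_right h2]
      tauto
    · have := Γ.mul_mem_Q hu hg h1 hh h2
      tauto

end Base

namespace Amalgam

variable {Γ : Amalgam X V} [Nonempty V]

theorem dichotomy (hb : Γ.OddB) : (∀ j, j < Γ.b → Γ.Mov j) ∨
    ∃ k, Odd k ∧ 3 ≤ k ∧ k + 2 ≤ Γ.b ∧ (∀ j, j < k → Γ.Mov j) ∧ Γ.Rule k False := by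
  classical
  refine or_iff_not_imp_left.2 fun hM => ?_
  push Not at hM
  obtain ⟨hkb, hk⟩ := Nat.find_spec hM
  set k := Nat.find hM
  have hlt : ∀ j, j < k → Γ.Mov j := fun j hj => by
    by_contra h
    exact Nat.find_min hM hj ⟨by omega, h⟩
  obtain ⟨p, hp, hA0, hne⟩ := Γ.exists_crit
  obtain ⟨t, ht, htQ⟩ := SetLike.not_le_iff_exists.1 hne
  have htfix : Γ.Fixes t p Γ.b := fun i hi =>
    fix_path hp (Nat.zero_le _) hi hA0 (by omega) (by omega) t ht
  obtain ⟨hko, hk3⟩ := Γ.odd_failure hlt hk hp (by omega) htfix fun e => htQ (e ▸ one_mem _)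
  obtain ⟨w, -, hR⟩ := Γ.exists_rule hlt hk
  have hev : Even (Γ.b - k) := Nat.Odd.sub_odd hb.1 hko
  have hw : ¬ Γ.A (w 0) := fun hw => htQ (hR.long hp (by omega) (by
    rw [hp.A_iff (by omega)]; tauto) htfix)
  refine ⟨k, hko, hk3, ?_, hlt, fun q hq hA => hR q hq (by tauto)⟩
  obtain ⟨a, ha⟩ := hb.1
  obtain ⟨c, hc⟩ := hko
  omega

theorem rule_end {k : ℕ} (hR : Γ.Rule k False) (hk : Odd k) {q : ℕ → V} {n : ℕ} (hq : Γ.Path q n)
    (hkn : k ≤ n) (hA : Γ.A (q n)) {g : X} (hg : Γ.Fixes g q n) : g ∈ Γ.Q (q n) := by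
  refine hR.long hq hkn ?_ hg
  rw [hq.A_iff le_rfl] at hA
  rw [hq.A_iff (by omega), Nat.even_sub hkn]
  have := Nat.not_even_iff_odd.2 hk
  tauto

theorem zz_fix {n : ℕ} {x y : V} (hx : ¬ Γ.A x) (h : Γ.Near n x y) (hn : n ≤ Γ.b + 1) :
    Γ.zz x • y = y := by
  cases n with
  | zero => exact (show x = y from h) ▸ (Γ.zz_mem x).1
  | succ n =>
    rcases h with rfl | ⟨v, hv, h⟩
    · exact (Γ.zz_mem x).1
    · exact Γ.fix_of_near (Γ.A_of_adj hv hx) h (by omega) _ (Γ.zz_mem_Z (Γ.symm hv))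

theorem Crit.shift_left (hb : Γ.OddB) {p : ℕ → V} (hp : Γ.Crit p) :
    ∃ r, Γ.Crit r ∧ ∀ i, i + 2 ≤ Γ.b → r (i + 2) = p i := by
  have hb3 := hb.2
  rcases dichotomy hb with hM | ⟨k, hko, hk3, hkb, hlt, hR⟩
  · obtain ⟨a, ha, ha1⟩ := Γ.exists_other (hp.1.1 0 (by omega))
    obtain ⟨v, hv, hv0⟩ := Γ.exists_other (Γ.symm ha)
    have hA : Γ.A v := Γ.A_of_adj hv (Γ.not_A ha hp.2.1)
    exact ⟨cons v (cons a p), crit_of_mov hM (((hp.1.cons (Γ.symm ha) (Or.inr (Ne.symm ha1))).cons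
      (Γ.symm hv) (Or.inr (Ne.symm hv0))).mono (by omega)) hA, fun i _ => rfl⟩
  by_contra hno
  push Not at hno
  have hall : ∀ m₁ m₂, Γ.Adj (p 0) m₁ → m₁ ≠ p 1 → Γ.Adj m₁ m₂ → m₂ ≠ p 0 →
      Γ.Z m₂ ≤ Γ.Q (p (Γ.b - 2)) := by
    intro m₁ m₂ h1 h1' h2 h2'
    by_contra hc
    have hA : Γ.A m₂ := Γ.A_of_adj h2 (Γ.not_A h1 hp.2.1)
    have he : cons m₂ (cons m₁ p) Γ.b = p (Γ.b - 2) := by
      rw [show Γ.b = Γ.b - 2 + 1 + 1 by omega]
      simp
    obtain ⟨i, hi, hne⟩ := hno (cons m₂ (cons m₁ p))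
      ⟨((hp.1.cons (Γ.symm h1) (Or.inr (Ne.symm h1'))).cons (Γ.symm h2) (Or.inr (Ne.symm h2'))).mono
        (by omega), hA, by rw [he]; exact hc⟩
    exact hne rfl
  obtain ⟨q, hq, hqp⟩ := exists_chain hb hp
  have e1 : q 1 = p 0 := hqp 0 (Nat.zero_le _)
  set u := Γ.zz (q (Γ.b + 3)) with hu
  set t := Γ.zz (q 0) with ht
  set W : Subgroup X :=
    Subgroup.closure {x | ∃ y, ¬ Γ.A y ∧ Γ.Near 3 (q 1) y ∧ x = Γ.zz y} with hW
  have hgen : ∀ {y}, ¬ Γ.A y → Γ.Near 3 (q 1) y → Γ.zz y ∈ W := fun h1 h2 =>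
    Subgroup.subset_closure ⟨_, h1, h2, rfl⟩
  have h12 : Γ.Adj (q 1) (q 2) := hq.1.1 1 (by omega)
  have hu2 : u • q 2 = q 2 := Chain.end_fix hb hq le_rfl (by omega)
  have hclose : ∀ y, ¬ Γ.A y → Γ.Near 2 (q 2) y → u * Γ.zz y * u ∈ W := by
    intro y hy hn
    have h2 := Base.Near.smul u hn
    rw [hu2] at h2
    have := hgen (fun h => hy ((Γ.A_smul u y).1 h)) (Base.Near.trans (Base.Near.adj h12) h2)
    rw [← zz_conj hb u hy, hu, Γ.zz_inv] at this
    exact this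
  have h10 : Γ.Adj (q 1) (q 0) := Γ.symm (hq.1.1 0 (by omega))
  have htW : t ∈ W := hgen (Chain.not_A0 hb hq) ((Base.Near.adj h10).mono (by omega))
  have hutu : u * t * u ∈ W := hclose _ (Chain.not_A0 hb hq)
    (Base.Near.trans (Base.Near.adj (Γ.symm h12)) (Base.Near.adj h10))
  have hmain : ∀ y, ¬ Γ.A y → Γ.Near 3 (q 1) y → u * Γ.zz y * u ∈ W := by
    intro y hy hy3
    rcases hy3 with rfl | ⟨m₁, h1, h'⟩
    · exact absurd (Chain.A1 hb hq) hy
    rcases h' with rfl | ⟨m₂, h2, h'⟩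
    · exact hclose _ hy (Base.Near.trans (Base.Near.adj (Γ.symm h12)) (Base.Near.adj h1))
    have hA2 : Γ.A m₂ := Γ.A_of_adj h2 (Γ.not_A h1 (Chain.A1 hb hq))
    rcases h' with rfl | ⟨y', h3, h'⟩
    · exact absurd hA2 hy
    obtain rfl : y' = y := h'
    by_cases hm1 : m₁ = q 2
    · exact hclose _ hy (hm1 ▸ Base.Near.trans (Base.Near.adj h2) (Base.Near.adj h3))
    by_cases hm2 : m₂ = q 1
    · exact hclose _ hy (Base.Near.trans (Base.Near.adj (Γ.symm h12)) (Base.Near.adj (hm2 ▸ h3)))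
    set x := Γ.zz y' with hx
    have hxZ : x ∈ Γ.Z m₂ := Γ.zz_mem_Z h3
    have hxQ : x ∈ Γ.Q (q (Γ.b - 1)) := by
      have := hall m₁ m₂ (e1 ▸ h1) (by rw [← hqp 1 (by omega)]; exact hm1) h2 (e1 ▸ hm2) hxZ
      rwa [← hqp (Γ.b - 2) (by omega), show Γ.b - 2 + 1 = Γ.b - 1 by omega] at this
    have hxfix : ∀ i, 1 ≤ i → i ≤ Γ.b → x • q i = q i := fun i hi hi' => by
      rcases Nat.lt_or_eq_of_le hi' with h | rfl
      · exact Γ.fix_of_near hA2 (Base.Near.trans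
          (Base.Near.trans (Base.Near.adj (Γ.symm h2)) (Base.Near.adj (Γ.symm h1)))
          (Chain.near hb hq (i := 1) (d := i - 1) (by omega) (by omega) le_rfl (by omega)))
          (by omega) x hxZ
      · refine hxQ.2 _ ?_
        have := hq.1.1 (Γ.b - 1) (by omega)
        rwa [show Γ.b - 1 + 1 = Γ.b by omega] at this
    have hp' : ∀ n, n ≤ Γ.b + 1 → Γ.Path (fun i => q (1 + i)) n := fun n hn => hq.1.shift (by omega)
    have hAb : Γ.A (q Γ.b) := by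
      rw [Chain.A_iff hb hq (by omega)]
      exact Nat.not_even_iff_odd.2 hb.1
    have hAb2 : Γ.A (q (Γ.b + 2)) := by
      rw [Chain.A_iff hb hq (by omega), Nat.even_add]
      simp [Nat.not_even_iff_odd.2 hb.1]
    have hxb1 : x • q (Γ.b + 1) = q (Γ.b + 1) := by
      have := rule_end hR hko (hp' (Γ.b - 1) (by omega)) (by omega)
        (by show Γ.A (q (1 + (Γ.b - 1))); rw [show 1 + (Γ.b - 1) = Γ.b by omega]; exact hAb)
        (g := x) fun i hi => hxfix _ (by omega) (by omega)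
      simp only [show 1 + (Γ.b - 1) = Γ.b by omega] at this
      exact this.2 _ (hq.1.1 Γ.b (by omega))
    have hcomm : ∀ g : X, (∀ i, 1 ≤ i → i ≤ Γ.b + 2 → g • q i = q i) → g * u = u * g := fun g hg => by
      have := rule_end hR hko (hp' (Γ.b + 1) le_rfl) (by omega)
        (by show Γ.A (q (1 + (Γ.b + 1))); rw [show 1 + (Γ.b + 1) = Γ.b + 2 by omega]; exact hAb2)
        (g := g) fun i hi => hg _ (by omega) (by omega)
      simp only [show 1 + (Γ.b + 1) = Γ.b + 2 by omega] at this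
      exact (Γ.zz_mem _).2.2 g (this.2 _ (hq.1.1 (Γ.b + 2) (by omega)))
    have hxfix' : ∀ i, 1 ≤ i → i ≤ Γ.b + 1 → x • q i = q i := fun i hi hi' => by
      rcases Nat.lt_or_eq_of_le hi' with h | rfl
      · exact hxfix i hi (by omega)
      · exact hxb1
    have hxW : x ∈ W := hgen hy (Or.inr ⟨m₁, h1, Or.inr ⟨m₂, h2, Or.inr ⟨y', h3, rfl⟩⟩⟩)
    have huu : u * u = 1 := Γ.zz_sq _
    by_cases hx2 : x • q (Γ.b + 2) = q (Γ.b + 2)
    · rw [← hcomm x fun i hi hi' => ?_, mul_assoc, huu, mul_one]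
      · exact hxW
      · rcases Nat.lt_or_eq_of_le hi' with h | rfl
        · exact hxfix' i hi (by omega)
        · exact hx2
    · have hbb : Γ.Adj (q (Γ.b + 1)) (q Γ.b) := Γ.symm (hq.1.1 Γ.b (by omega))
      have hxtQ : x * t ∈ Γ.Q (q (Γ.b + 1)) := Γ.mul_mem_Q hbb
        ⟨hxb1, hxfix _ (by omega) le_rfl⟩ (fun h => hx2 (h.2 _ (hq.1.1 (Γ.b + 1) (by omega))))
        ⟨Chain.start_fix hb hq le_rfl, Chain.start_fix hb hq (by omega)⟩ (Chain.start_not_Q hb hq)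
      have hc := hcomm (x * t) fun i hi hi' => by
        rcases Nat.lt_or_eq_of_le hi' with h | rfl
        · rw [mul_smul, Chain.start_fix hb hq (by omega), hxfix' i hi (by omega)]
        · exact hxtQ.2 _ (hq.1.1 (Γ.b + 1) (by omega))
      have : u * x * u = x * (t * (u * t * u)) := by
        calc u * x * u = u * (x * t) * (t * u) := by
              simp only [mul_assoc]; rw [← mul_assoc t t u, Γ.zz_sq, one_mul]
          _ = (x * t) * u * (t * u) := by rw [hc]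
          _ = _ := by simp only [mul_assoc]
      rw [this]
      exact mul_mem hxW (mul_mem htW hutu)
  have hWE : W ≤ Γ.E (q 1) (q 2) := by
    refine (Subgroup.closure_le _).2 ?_
    rintro x ⟨y, hy, hn, rfl⟩
    exact ⟨zz_fix hy hn.symm (by omega),
      zz_fix hy (Base.Near.trans hn.symm (Base.Near.adj h12)) (by omega)⟩
  have hclosed : ∀ g : X, (∀ y, ¬ Γ.A y → Γ.Near 3 (q 1) y → g * Γ.zz y * g⁻¹ ∈ W) →
      ∀ x ∈ W, g * x * g⁻¹ ∈ W := fun g hg x hx => by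
    have : W ≤ W.comap (MulAut.conj g).toMonoidHom :=
      (Subgroup.closure_le _).2 fun z ⟨y, hy, hn, hz⟩ => hz ▸ hg y hy hn
    exact this hx
  have hbot : W = ⊥ := by
    refine Γ.eq_bot_of_mover h12 hWE (fun g hg => hclosed g fun y hy hn => ?_) hu2
      (Chain.end_moves hb hq) (hclosed u fun y hy hn => ?_)
    · rw [zz_conj hb g hy]
      refine hgen (fun h => hy ((Γ.A_smul g y).1 h)) ?_
      have := Base.Near.smul g hn
      rwa [hg] at this
    · rw [hu, Γ.zz_inv]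
      exact hmain y hy hn
  exact Γ.zz_ne_one (Chain.not_A0 hb hq) ((Subgroup.eq_bot_iff_forall _).1 hbot t htW)

theorem Crit.shift_left_iter (hb : Γ.OddB) {p : ℕ → V} (hp : Γ.Crit p) :
    ∀ m : ℕ, ∃ r, Γ.Crit r ∧ ∀ i, i + 2 * m ≤ Γ.b → r (i + 2 * m) = p i
  | 0 => ⟨p, hp, fun _ _ => rfl⟩
  | m + 1 => by
    obtain ⟨r, hr, hrp⟩ := Crit.shift_left_iter hb hp m
    obtain ⟨r', hr', hrr⟩ := hr.shift_left hb
    refine ⟨r', hr', fun i hi => ?_⟩
    rw [show i + 2 * (m + 1) = i + 2 * m + 2 by omega, hrr _ (by omega), hrp i (by omega)]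

theorem Crit.shift_right (hb : Γ.OddB) {p : ℕ → V} (hp : Γ.Crit p) :
    ∃ r, Γ.Crit r ∧ ∀ i, i + 2 ≤ Γ.b → r i = p (i + 2) := by
  have hb3 := hb.2
  obtain ⟨p', hp', hpp⟩ := hp.1.exists_ext
  obtain ⟨r', hr', hrr⟩ := (Crit.ext_rev hb hp' (hp.congr hpp)).shift_left hb
  have hval : ∀ j, j + 2 ≤ Γ.b → r' (j + 2) = p' (Γ.b + 1 - j) := hrr
  have e1 : r' Γ.b = p 3 := by
    have := hval (Γ.b - 2) (by omega)
    rwa [show Γ.b - 2 + 2 = Γ.b by omega, show Γ.b + 1 - (Γ.b - 2) = 3 by omega, hpp 3 (by omega)] at this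
  have h32 : Γ.Adj (r' Γ.b) (p 2) := e1 ▸ Γ.symm (hp.1.1 2 (by omega))
  have hne : p 2 ≠ r' (Γ.b - 1) := by
    have := hval (Γ.b - 3) (by omega)
    rw [show Γ.b - 3 + 2 = Γ.b - 1 by omega, show Γ.b + 1 - (Γ.b - 3) = 4 by omega] at this
    rw [this, ← hpp 2 (by omega)]
    exact Ne.symm (hp'.2 2 (by omega))
  have hs := hr'.1.snoc h32 (Or.inr hne)
  have hsc : Γ.Crit (snoc r' (Γ.b + 1) (p 2)) := hr'.congr fun i hi => snoc_lt (by omega)
  refine ⟨_, Crit.ext_rev hb hs hsc, fun i hi => ?_⟩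
  show snoc r' (Γ.b + 1) (p 2) (Γ.b + 1 - i) = p (i + 2)
  rcases Nat.eq_zero_or_pos i with rfl | hpos
  · simp [snoc_self]
  · rw [snoc_lt (by omega), show Γ.b + 1 - i = (Γ.b - 1 - i) + 2 by omega, hval _ (by omega),
      show Γ.b + 1 - (Γ.b - 1 - i) = i + 2 by omega, hpp _ (by omega)]

set_option maxHeartbeats 1000000 in
theorem Chain.natural (hb : Γ.OddB) {q : ℕ → V} (hq : Γ.Chain q) : Γ.w q ∈ Γ.Z (q 3) := by
  have hb3 := hb.2
  set u := Γ.zz (q (Γ.b + 3)) with hu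
  set d := u • q 1 with hd
  have h21 : Γ.Adj (q 2) (q 1) := Γ.symm (hq.1.1 1 (by omega))
  have h23 : Γ.Adj (q 2) (q 3) := hq.1.1 2 (by omega)
  have hA3 : Γ.A (q 3) := by rw [Chain.A_iff hb hq (by omega)]; decide
  have h32 : Γ.Adj (q 3) (q 2) := Γ.symm h23
  have h34 : Γ.Adj (q 3) (q 4) := hq.1.1 3 (by omega)
  have hu2 : u • q 2 = q 2 := Chain.end_fix hb hq le_rfl (by omega)
  have h2d : Γ.Adj (q 2) d := Γ.adj_fix hu2 h21
  have hd1 : d ≠ q 1 := Chain.end_moves hb hq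
  have hne13 : q 1 ≠ q 3 := Ne.symm (hq.1.2 1 (by omega))
  have hd3 : d ≠ q 3 := fun e =>
    hne13 (MulAction.injective u (e.trans (Chain.end_fix hb hq (i := 3) (by omega) (by omega)).symm))
  by_contra hnat
  obtain ⟨g₁, hg₁, hg₁'⟩ : ∃ g ∈ Γ.Q (q 2),
      ¬ ((g ∈ Γ.Q (q 1) ↔ g ∈ Γ.Q d) ↔ g ∈ Γ.Q (q 3)) := by
    by_contra hall
    push Not at hall
    have hz : Γ.zz (q 4) ∈ Γ.Z (q 3) := Γ.zz_mem_Z h34
    have hzw : Commute (Γ.zz (q 4)) (Γ.w q) := by
      have c1 : Commute (Γ.zz (q 4)) (Γ.zz (q 0)) :=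
        Chain.comm_idx hb hq (by omega) (by omega) (by decide) (by omega) (by omega)
      have c2 : Commute (Γ.zz (q 4)) (Γ.zz (q (Γ.b + 3))) :=
        Chain.comm_idx hb hq (by omega) (by omega) (by decide) (by omega) (by omega)
      exact ((c1.mul_right c2).mul_right c1).mul_right c2
    have hxE : Γ.w q * Γ.zz (q 4) ∈ Γ.E (q 3) (q 2) :=
      mul_mem (Chain.w_mem_E hb hq) (Γ.Q_le_E h32 (Γ.Z_le_Q _ hz))
    have hconj : ∀ g ∈ Γ.Q (q 2), g * (Γ.w q * Γ.zz (q 4)) * g⁻¹ = Γ.w q * Γ.zz (q 4) := by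
      intro g hg
      have hgE : g ∈ Γ.E (q 3) (q 2) := ⟨hg.2 _ h23, hg.1⟩
      have k := zz_conj_mem hb hA3 h34 h32 (hq.1.2 2 (by omega)) hgE
      have e : g * (Γ.w q * Γ.zz (q 4)) * g⁻¹ = g * Γ.w q * g⁻¹ * (g * Γ.zz (q 4) * g⁻¹) := by group
      rw [e]
      by_cases hbit : g ∈ Γ.Q (q 1) ↔ g ∈ Γ.Q d
      · rw [Chain.conj_start_iff hb hq hg hbit, k.1 ((hall g hg).1 hbit)]
      · rw [Chain.conj_w_of_ne hb hq hg hbit, k.2 (fun h => hbit ((hall g hg).2 h))]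
        have hc : Commute (Γ.zz (q 2)) (Γ.zz (q 4)) := Γ.Z_comm (Γ.zz_mem_Z h32) hz
        rw [hc.mul_mul_mul_comm, Γ.zz_sq, mul_one]
    rcases Chain.eq_one_or_z hb hq hxE
        (by rw [hzw.mul_mul_mul_comm, Chain.w_sq hb hq, Γ.zz_sq, one_mul])
        ((Chain.end_comm_w hb hq).mul_right (Chain.comm_idx hb hq (i := 4) (by omega) (by omega)
          (by decide) (by omega) (by omega)).symm)
        hconj with e | e
    · exact hnat (by rw [eq_inv_of_mul_eq_one_left e]; exact inv_mem hz)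
    · refine hnat ?_
      rw [eq_mul_inv_of_mul_eq e]
      exact mul_mem (Γ.zz_mem_Z h32) (inv_mem hz)
  -- products in `Q (q 2)` and the parity at the two far neighbours
  have hQE : ∀ {v}, Γ.Adj (q 2) v → ∀ {g}, g ∈ Γ.Q (q 2) → g ∈ Γ.E v (q 2) := fun hv g hg =>
    ⟨hg.2 _ hv, hg.1⟩
  have hmul : ∀ {v}, Γ.Adj (q 2) v → ∀ {g h}, g ∈ Γ.Q (q 2) → h ∈ Γ.Q (q 2) →
      (g * h ∈ Γ.Q v ↔ (g ∈ Γ.Q v ↔ h ∈ Γ.Q v)) := fun hv g h hg hh =>
    Γ.mul_mem_Q_iff (Γ.symm hv) (hQE hv hg) (hQE hv hh)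
  obtain ⟨g, hg2, hg3, hg⟩ : ∃ g ∈ Γ.Q (q 2), g ∈ Γ.Q (q 3) ∧ ¬ (g ∈ Γ.Q (q 1) ↔ g ∈ Γ.Q d) := by
    obtain ⟨g₀, hg₀, hg₀'⟩ := Chain.exists_bit_ne hb hq
    rw [← hu, ← hd] at hg₀'
    by_cases h0 : g₀ ∈ Γ.Q (q 3)
    · exact ⟨g₀, hg₀, h0, hg₀'⟩
    by_cases h1 : g₁ ∈ Γ.Q (q 3)
    · exact ⟨g₁, hg₁, h1, by tauto⟩
    refine ⟨g₀ * g₁, mul_mem hg₀ hg₁, ?_, ?_⟩
    · rw [hmul h23 hg₀ hg₁]; tauto
    · rw [hmul h21 hg₀ hg₁, hmul h2d hg₀ hg₁]; tauto
  have hQ2 : ∀ {x : X} {n : ℕ}, 3 ≤ n → (∀ i, 1 ≤ i → i ≤ n → x • q i = q i) → x ∈ Γ.Q (q 2) :=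
    fun hn hx => Γ.mem_Q_of_fix_two (hx 2 (by omega) (by omega)) h21 h23 hne13
      (hx 1 le_rfl (by omega)) (hx 3 (by omega) hn)
  suffices key : ∀ j, 3 ≤ j → j ≤ Γ.b →
      ∃ g : X, ¬ (g ∈ Γ.Q (q 1) ↔ g ∈ Γ.Q d) ∧ ∀ i, 1 ≤ i → i ≤ j + 1 → g • q i = q i by
    obtain ⟨x, hx, hxfix⟩ := key Γ.b hb3 le_rfl
    have h1 := Chain.conj_w_of_ne hb hq (hQ2 (by omega) hxfix) hx
    rw [(Chain.comm_w hb hq fun i hi hi' => hxfix i (by omega) hi').eq, mul_inv_cancel_right,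
      left_eq_mul] at h1
    exact Γ.zz_ne_one (Γ.not_A h32 hA3) h1
  intro j hj
  induction j, hj using Nat.le_induction with
  | base =>
    intro _
    refine ⟨g, hg, fun i hi hi' => ?_⟩
    rcases (show i = 1 ∨ i = 2 ∨ i = 3 ∨ i = 4 by omega) with rfl | rfl | rfl | rfl
    exacts [hg2.2 _ h21, hg2.1, hg3.1, hg3.2 _ h34]
  | succ j hj ih =>
    intro hjb
    obtain ⟨g, hg, hgfix⟩ := ih (by omega)
    by_cases hgn : g • q (j + 2) = q (j + 2)
    · exact ⟨g, hg, fun i hi hi' => (Nat.lt_or_eq_of_le hi').elim (fun h => hgfix i hi (by omega))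
        fun h => h ▸ hgn⟩
    suffices ∃ x : X, ¬ (x ∈ Γ.Q (q 1) ↔ x ∈ Γ.Q d) ∧ (∀ i, 1 ≤ i → i ≤ j + 1 → x • q i = q i) ∧
        x ∈ Γ.Q (q (j + 1)) by
      obtain ⟨x, hx, hxfix, hxQ⟩ := this
      refine ⟨x, hx, fun i hi hi' => ?_⟩
      rcases Nat.lt_or_eq_of_le hi' with h | rfl
      · exact hxfix i hi (by omega)
      · exact hxQ.2 _ (hq.1.1 (j + 1) (by omega))
    have hgQ : g ∉ Γ.Q (q (j + 1)) := fun h => hgn (h.2 _ (hq.1.1 (j + 1) (by omega)))
    have hprev : Γ.Adj (q (j + 1)) (q j) := Γ.symm (hq.1.1 j (by omega))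
    rcases Nat.even_or_odd j with he | ho
    · -- `q (j + 1)` is in `A`
      have hAj : Γ.A (q (j + 1)) := by
        rw [Chain.A_iff hb hq (by omega), Nat.even_add_one]
        exact not_not.2 he
      have hsp : Γ.Path (fun i => q (1 + i)) j := hq.1.shift (by omega)
      obtain hMj | ⟨k, hko, hk3, hkj, hR⟩ :
          (∀ i, i ≤ j → Γ.Mov i) ∨ ∃ k, Odd k ∧ 3 ≤ k ∧ k ≤ j ∧ Γ.Rule k False := by
        refine or_iff_not_imp_left.2 fun hM => ?_
        rcases dichotomy hb with h | ⟨k, h1, h2, h3, h4, h5⟩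
        · exact absurd (fun i hi => h i (by omega)) hM
        · refine ⟨k, h1, h2, ?_, h5⟩
          by_contra hk
          exact hM fun i hi => h4 i (by omega)
      swap
      · exfalso
        refine hgQ ?_
        have := rule_end hR hko hsp hkj
          (by show Γ.A (q (1 + j)); rw [Nat.add_comm]; exact hAj)
          (g := g) fun i hi => hgfix _ (by omega) (by omega)
        simpa only [Nat.add_comm 1 j] using this
      by_contra hfail
      replace hfail : ∀ x : X, ¬ (x ∈ Γ.Q (q 1) ↔ x ∈ Γ.Q d) →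
          (∀ i, 1 ≤ i → i ≤ j + 1 → x • q i = q i) → x ∉ Γ.Q (q (j + 1)) :=
        fun x h1 h2 h3 => hfail ⟨x, h1, h2, h3⟩
      have hiff : ∀ x : X, (∀ i, 1 ≤ i → i ≤ j + 1 → x • q i = q i) →
          (x ∈ Γ.Q (q (j + 1)) ↔ (x ∈ Γ.Q (q 1) ↔ x ∈ Γ.Q d)) := by
        intro x hx
        refine ⟨fun hxQ => ?_, fun hbit => ?_⟩
        · by_contra hc
          exact hfail x hc hx hxQ
        · by_contra hxQ
          refine hfail (x * g) ?_ (fun i hi hi' => by rw [mul_smul, hgfix i hi hi', hx i hi hi']) ?_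
          · rw [hmul h21 (hQ2 (by omega) hx) (hQ2 (by omega) hgfix),
              hmul h2d (hQ2 (by omega) hx) (hQ2 (by omega) hgfix)]
            exact (show ∀ a b c d : Prop, (a ↔ b) → ¬ (c ↔ d) → ¬ ((a ↔ c) ↔ (b ↔ d)) from
              fun a b c d h1 h2 h3 => by by_cases a <;> by_cases c <;> simp_all) _ _ _ _ hbit hg
          · exact Γ.mul_mem_Q hprev ⟨hx _ (by omega) le_rfl, hx _ (by omega) (by omega)⟩ hxQ
              ⟨hgfix _ (by omega) le_rfl, hgfix _ (by omega) (by omega)⟩ hgQ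
      have hjj : Γ.Adj (q j) (q (j - 1)) := by
        have := hq.1.1 (j - 1) (by omega)
        rw [show j - 1 + 1 = j by omega] at this
        exact Γ.symm this
      have hjn : Γ.Adj (q j) (q (j + 1)) := Γ.symm hprev
      have hne : q (j - 1) ≠ q (j + 1) := by
        have := hq.1.2 (j - 1) (by omega)
        rw [show j - 1 + 2 = j + 1 by omega] at this
        exact Ne.symm this
      obtain ⟨e, he', hej, hen⟩ := Γ.exists_third hjj hjn
      obtain ⟨m, hm, hmQ⟩ := hMj (j - 1) (by omega) _ (hq.1.shift (j := 1) (m := j - 1) (by omega))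
      simp only [show 1 + (j - 1) = j by omega] at hmQ
      have hmfix : ∀ i, 1 ≤ i → i ≤ j → m • q i = q i := fun i hi hi' => by
        have := hm (i - 1) (by omega)
        simpa [show 1 + (i - 1) = i by omega] using this
      have hme : m • q (j + 1) = e := Γ.swap_eq ⟨hmfix j (by omega) le_rfl, hmfix _ (by omega) (by omega)⟩
        hmQ hjj hjn (Ne.symm hne) he' hej hen
      have hmd : m • d = d := (hQ2 (n := j) (by omega) hmfix).2 _ h2d
      have hiff' : ∀ x : X, (∀ i, 1 ≤ i → i ≤ j + 1 → x • q i = q i) →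
          (x ∈ Γ.Q e ↔ (x ∈ Γ.Q (q 1) ↔ x ∈ Γ.Q d)) := by
        intro x hx
        have hxe : x • e = e := (Γ.mem_Q_of_fix_two (hx j (by omega) (by omega)) hjj hjn hne
          (hx _ (by omega) (by omega)) (hx _ (by omega) le_rfl)).2 _ he'
        have hy : ∀ i, 1 ≤ i → i ≤ j + 1 → (m⁻¹ * x * m) • q i = q i := fun i hi hi' => by
          rw [mul_smul, mul_smul, inv_smul_eq_iff]
          rcases Nat.lt_or_eq_of_le hi' with h | rfl
          · rw [hmfix i hi (by omega), hx i hi hi']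
          · rw [hme, hxe]
        have h := hiff _ hy
        rw [← Γ.conj_mem_Q_iff (v := q (j + 1)) (h := m), ← Γ.conj_mem_Q_iff (v := q 1) (h := m),
          ← Γ.conj_mem_Q_iff (v := d) (h := m), hme, hmfix 1 le_rfl (by omega), hmd,
          show m * (m⁻¹ * x * m) * m⁻¹ = x by group] at h
        exact h
      obtain ⟨φ, hφ⟩ := Γ.uniform (fun i hi => hMj i (by omega)) hsp hsp.rev (by
        show Γ.A (q (1 + 0)) ↔ Γ.A (q (1 + (j - 0)))
        exact hq.1.A_add (by omega) (by omega) (by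
          rw [Nat.sub_zero, show 1 + 0 + (1 + j) = j + 2 by omega, Nat.even_add]
          simpa using he))
      have hφ' : ∀ i, 1 ≤ i → i ≤ j + 1 → φ • q i = q (j + 2 - i) := fun i hi hi' => by
        have := hφ (i - 1) (by omega)
        simpa [show 1 + (i - 1) = i by omega, show 1 + (j - (i - 1)) = j + 2 - i by omega] using this
      have hφ1 : φ • q 1 = q (j + 1) := by simpa using hφ' 1 le_rfl (by omega)
      have hφd : φ • d = e := by
        have hadj : Γ.Adj (q j) (φ • d) := by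
          have := Γ.smul φ h2d
          rwa [hφ' 2 (by omega) (by omega), show j + 2 - 2 = j by omega] at this
        have hφ3 : φ • q 3 = q (j - 1) := by
          rw [hφ' 3 (by omega) (by omega), show j + 2 - 3 = j - 1 by omega]
        rcases Γ.cases3 hjj hjn he' hne (Ne.symm hej) (Ne.symm hen) hadj with h | h | h
        · exact absurd (MulAction.injective φ (h.trans hφ3.symm)) hd3
        · exact absurd (MulAction.injective φ (h.trans hφ1.symm)) hd1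
        · exact h
      have hy : ∀ i, 1 ≤ i → i ≤ j + 1 → (φ * g * φ⁻¹) • q i = q i := fun i hi hi' => by
        have := hφ' (j + 2 - i) (by omega) (by omega)
        rw [show j + 2 - (j + 2 - i) = i by omega] at this
        rw [← this, mul_smul, inv_smul_smul, mul_smul, hgfix _ (by omega) (by omega)]
      have k1 := hiff _ hy
      have k2 := hiff' _ hy
      rw [← hφ1, Γ.conj_mem_Q_iff] at k1
      rw [← hφd, Γ.conj_mem_Q_iff] at k2
      exact hg (k1.trans k2.symm)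
    · -- `q (j + 1)` is not in `A`
      obtain ⟨m, hm⟩ : ∃ m, Γ.b = j + 2 * m := by
        obtain ⟨a, ha⟩ := hb.1
        obtain ⟨c, hc⟩ := ho
        exact ⟨a - c, by omega⟩
      obtain ⟨r, hr, hrp⟩ := hq.2.shift_left_iter hb m
      obtain ⟨x, hx, hxQ⟩ := SetLike.not_le_iff_exists.1 hr.2.2
      have hrv : ∀ i, 1 ≤ i → i ≤ j + 1 → r (i - 1 + 2 * m) = q i := fun i hi hi' => by
        rw [hrp (i - 1) (by omega)]
        show q (i - 1 + 1) = q i
        rw [show i - 1 + 1 = i by omega]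
      have hxfix : ∀ i, 1 ≤ i → i ≤ j + 1 → x • q i = q i := fun i hi hi' => by
        rw [← hrv i hi hi']
        exact fix_path hr.1 (Nat.zero_le _) (by omega) hr.2.1 (by omega) (by omega) x hx
      have hxj : x ∉ Γ.Q (q (j + 1)) := by
        rw [← hrv (j + 1) (by omega) le_rfl, show j + 1 - 1 + 2 * m = Γ.b by omega]
        exact hxQ
      have hx1 : x ∈ Γ.Q (q 1) := by
        rw [← hrv 1 le_rfl (by omega)]
        exact path_le_Q hr.1 (Nat.zero_le _) (by omega) hr.2.1 (by omega) (by omega) hx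
      have hxd : x ∈ Γ.Q d := by
        refine Γ.le_Q hr.2.1 (n := 2 * m + 1 + 1) ?_ (by omega) hx
        refine Base.Near.trans ?_ (Base.Near.adj h2d)
        rw [← hrv 2 (by omega) (by omega)]
        exact hr.1.near_le (Nat.zero_le _) (by omega) (by omega) (by omega)
      refine ⟨g * x, ?_, fun i hi hi' => by rw [mul_smul, hxfix i hi hi', hgfix i hi hi'], ?_⟩
      · rw [mul_mem_cancel_right hx1, mul_mem_cancel_right hxd]
        exact hg
      · exact Γ.mul_mem_Q hprev ⟨hgfix _ (by omega) le_rfl, hgfix _ (by omega) (by omega)⟩ hgQ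
          ⟨hxfix _ (by omega) le_rfl, hxfix _ (by omega) (by omega)⟩ hxj

end Amalgam

end Cfsg.Agent.Lib.Goldschmidt33
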