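import Cfsg.Agent.Lib.Goldschmidt33.Natural

/-!
# The critical distance is not an odd number above 3

Owner: helper54.
-/

set_option autoImplicit false
set_option linter.style.haveILetI false
set_option linter.unusedSectionVars false

namespace Cfsg.Agent.Lib.Goldschmidt33

universe u v

variable {X : Type u} {V : Type v} [Group X] [MulAction X V]

namespace Amalgam

variable {Γ : Amalgam X V} [Nonempty V]

theorem Chain.mid (hb : Γ.OddB) {q : ℕ → V} (hq : Γ.Chain q) :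
    Γ.w q = Γ.zz (q 4) ∨ Γ.w q = Γ.zz (q 2) * Γ.zz (q 4) := by
  have hb3 := hb.2
  have hA3 : Γ.A (q 3) := by rw [Chain.A_iff hb hq (by omega)]; decide
  rcases Z_cases hb hA3 (Γ.symm (hq.1.1 2 (by omega))) (hq.1.1 3 (by omega))
    (Ne.symm (hq.1.2 2 (by omega))) (Chain.natural hb hq) with e | e | e | e
  · exact absurd e (Chain.w_ne_one hb hq)
  · exact absurd e (Chain.w_ne_z hb hq)
  · exact Or.inl e
  · exact Or.inr e

/-- The chain's commutator is the middle involution when `b ≥ 5`. -/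
theorem Chain.w_eq_mid (hb : Γ.OddB) (h5 : 5 ≤ Γ.b) {q : ℕ → V} (hq : Γ.Chain q) :
    Γ.w q = Γ.zz (q 4) := by
  refine (Chain.mid hb hq).resolve_right fun e => ?_
  obtain ⟨r, hr, hrq⟩ := hq.2.shift_right hb
  obtain ⟨s, hs, hsr⟩ := hr.1.exists_ext
  have hsq : ∀ i, i + 2 ≤ Γ.b → s i = q (i + 3) := fun i hi => by
    rw [hsr i (by omega), hrq i hi]
  have hsA := A_succ_b hb hs (by rw [hsr 0 (Nat.zero_le _)]; exact hr.2.1)
  set C := Subgroup.centralizer (Γ.Z (s (Γ.b + 1)) : Set X) with hC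
  have hmem : ∀ {i : ℕ}, i + 2 ≤ Γ.b → Γ.b + 1 - i < Γ.b → ∀ {x : X}, x ∈ Γ.Z (q (i + 3)) → x ∈ C := by
    intro i hi hd x hx
    refine Subgroup.mem_centralizer_iff.2 fun y hy => ?_
    exact path_comm hs le_rfl (j := i) (by omega) hsA (by omega) (by omega) hy (by rwa [hsq i hi])
  have h4 : Γ.zz (q 4) ∈ C := hmem (i := 2) (by omega) (by omega)
    (Γ.zz_mem_Z (Γ.symm (hq.1.1 4 (by omega))))
  have hw : Γ.w q ∈ C := by
    have := Chain.natural hb (Chain.rev hb hq)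
    rw [Chain.w_rev hb hq, show Γ.b + 3 - 3 = Γ.b - 3 + 3 by omega] at this
    exact hmem (i := Γ.b - 3) (by omega) (by omega) this
  have h2 : Γ.zz (q 2) ∈ C := by
    rw [eq_mul_inv_of_mul_eq e.symm]
    exact mul_mem hw (inv_mem h4)
  have hle : Γ.Z (q 3) ≤ C := Z_le_of_two hb (by rw [Chain.A_iff hb hq (by omega)]; decide)
    (Γ.symm (hq.1.1 2 (by omega))) (hq.1.1 3 (by omega)) (Ne.symm (hq.1.2 2 (by omega))) h2 h4
  refine ext_not_comm hb hs (hr.congr hsr) fun z hz x hx => ?_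
  rw [hsq 0 (by omega)] at hz
  exact (Subgroup.mem_centralizer_iff.1 (hle hz) x hx).symm

theorem b_le_five (hb : Γ.OddB) : Γ.b ≤ 5 := by
  by_contra h
  obtain ⟨c, hc⟩ := hb.1
  obtain ⟨p, hp⟩ := Γ.exists_crit
  obtain ⟨q, hq, -⟩ := exists_chain hb hp
  obtain ⟨r₁, hr₁, hrq₁⟩ := hq.2.shift_right hb
  obtain ⟨r, hr, hrr⟩ := hr₁.shift_right hb
  obtain ⟨s, hs, hsr⟩ := hr.1.exists_ext
  have hsq : ∀ i, i + 4 ≤ Γ.b → s i = q (i + 5) := fun i hi => by
    rw [hsr i (by omega), hrr i (by omega), hrq₁ (i + 2) (by omega)]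
  have hsA := A_succ_b hb hs (by rw [hsr 0 (Nat.zero_le _)]; exact hr.2.1)
  set C := Subgroup.centralizer (Γ.Z (s (Γ.b + 1)) : Set X) with hC
  have hmem : ∀ {i : ℕ}, i + 4 ≤ Γ.b → Γ.b + 1 - i < Γ.b → ∀ {x : X}, x ∈ Γ.Z (q (i + 5)) → x ∈ C := by
    intro i hi hd x hx
    refine Subgroup.mem_centralizer_iff.2 fun y hy => ?_
    exact path_comm hs le_rfl (j := i) (by omega) hsA (by omega) (by omega) hy (by rwa [hsq i hi])
  have h6 : Γ.zz (q 6) ∈ C := hmem (i := 2) (by omega) (by omega)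
    (Γ.zz_mem_Z (Γ.symm (hq.1.1 6 (by omega))))
  have h4 : Γ.zz (q 4) ∈ C := by
    have e := Chain.w_eq_mid hb (by omega) (Chain.rev hb hq)
    rw [Chain.w_rev hb hq, Chain.w_eq_mid hb (by omega) hq] at e
    rw [e]
    refine hmem (i := Γ.b - 5) (by omega) (by omega) ?_
    show Γ.zz (q (Γ.b + 3 - 4)) ∈ _
    rw [show Γ.b + 3 - 4 = Γ.b - 1 by omega, show Γ.b - 5 + 5 = Γ.b - 1 + 1 by omega]
    exact Γ.zz_mem_Z (Γ.symm (hq.1.1 (Γ.b - 1) (by omega)))
  have hle : Γ.Z (q 5) ≤ C := Z_le_of_two hb (by rw [Chain.A_iff hb hq (by omega)]; decide)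
    (Γ.symm (hq.1.1 4 (by omega))) (hq.1.1 5 (by omega)) (Ne.symm (hq.1.2 4 (by omega))) h4 h6
  refine ext_not_comm hb hs (hr.congr hsr) fun z hz x hx => ?_
  rw [hsq 0 (by omega)] at hz
  exact (Subgroup.mem_centralizer_iff.1 (hle hz) x hx).symm

theorem no_rule_three (hb : Γ.OddB) : ¬ Γ.Rule 3 False := by
  intro hR
  have hb3 := hb.2
  obtain ⟨p, hp⟩ := Γ.exists_crit
  obtain ⟨q, hq, -⟩ := exists_chain hb hp
  obtain ⟨g, hg, hg'⟩ := Chain.exists_bit_ne hb hq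
  have h21 : Γ.Adj (q 2) (q 1) := Γ.symm (hq.1.1 1 (by omega))
  have h2d : Γ.Adj (q 2) (Γ.zz (q (Γ.b + 3)) • q 1) :=
    Γ.adj_fix (Chain.end_fix hb hq le_rfl (by omega)) h21
  have hA2 : ¬ Γ.A (q 2) := Γ.not_A (Γ.symm h21) (Chain.A1 hb hq)
  have key : ∀ v v', Γ.Adj (q 2) v → Γ.Adj (q 2) v' → g ∈ Γ.Q v → g ∈ Γ.Q v' := by
    intro v v' hv hv' hgv
    by_cases hvv : v = v'
    · exact hvv ▸ hgv
    obtain ⟨a, ha, ha2⟩ := Γ.exists_other (Γ.symm hv)
    have hp0 : Γ.Path (fun _ => v') 0 :=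
      ⟨fun i hi => absurd hi (by omega), fun i hi => absurd hi (by omega)⟩
    have hs : Γ.Path (cons a (cons v (cons (q 2) fun _ => v'))) 3 :=
      ((hp0.cons hv' (Or.inl rfl)).cons (Γ.symm hv) (Or.inr (Ne.symm hvv))).cons (Γ.symm ha)
        (Or.inr (Ne.symm ha2))
    refine hR _ hs (iff_false_intro (Γ.not_A ha (Γ.A_of_adj hv hA2))) g fun i hi => ?_
    rcases (show i = 0 ∨ i = 1 ∨ i = 2 ∨ i = 3 by omega) with rfl | rfl | rfl | rfl
    exacts [hgv.2 _ ha, hgv.1, hg.1, hg.2 _ hv']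
  exact hg' ⟨key _ _ h21 h2d, key _ _ h2d h21⟩

theorem b_ne_five (hb : Γ.OddB) : Γ.b ≠ 5 := by
  intro h5
  have hM : ∀ j, j < Γ.b → Γ.Mov j := (dichotomy hb).resolve_right fun ⟨k, _, hk3, hkb, _, hR⟩ => by
    have hk : k = 3 := by
      rcases (show k = 3 ∨ 4 ≤ k by omega) with h | h
      · exact h
      · omega
    exact no_rule_three hb (hk ▸ hR)
  have fold : ∀ (s : ℕ → V), Γ.Path s 4 → ¬ Γ.A (s 0) → ∀ g : X, g • s 4 = s 4 → g • s 3 ≠ s 3 →
      Γ.zz (s 0) * (g * Γ.zz (s 0) * g⁻¹) * Γ.zz (s 0) * (g * Γ.zz (s 0) * g⁻¹) = Γ.zz (s 4) := by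
    intro s hs hs0 g hg4 hg3
    set r : ℕ → V := fun i => if i ≤ 4 then s i else g • s (8 - i) with hr
    have hlo : ∀ i, i ≤ 4 → r i = s i := fun i hi => if_pos hi
    have hhi : ∀ i, 4 ≤ i → r i = g • s (8 - i) := fun i hi => by
      rcases Nat.lt_or_eq_of_le hi with h | rfl
      · exact if_neg (by omega)
      · rw [hlo 4 le_rfl]; exact hg4.symm
    have hp : Γ.Path r 8 := by
      refine ⟨fun i hi => ?_, fun i hi => ?_⟩
      · rcases Nat.lt_or_ge i 4 with h | h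
        · rw [hlo i (by omega), hlo (i + 1) (by omega)]
          exact hs.1 i h
        · rw [hhi i h, hhi (i + 1) (by omega)]
          refine Γ.smul g (Γ.symm ?_)
          have := hs.1 (8 - (i + 1)) (by omega)
          rwa [show 8 - (i + 1) + 1 = 8 - i by omega] at this
      · rcases (show i + 2 ≤ 4 ∨ i = 3 ∨ 4 ≤ i by omega) with h | rfl | h
        · rw [hlo i (by omega), hlo (i + 2) h]
          exact hs.2 i h
        · rw [hlo 3 (by omega), hhi 5 (by omega)]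
          exact hg3
        · rw [hhi i h, hhi (i + 2) (by omega)]
          intro e
          have := hs.2 (8 - (i + 2)) (by omega)
          rw [show 8 - (i + 2) + 2 = 8 - i by omega] at this
          exact this (MulAction.injective g e).symm
    have hA1 : Γ.A (r 1) := by
      rw [hlo 1 (by omega)]
      exact Γ.A_of_adj (hs.1 0 (by omega)) hs0
    have hc : Γ.Chain r := ⟨by rw [h5]; exact hp, crit_of_mov hM (by
      rw [h5]
      exact (hp.shift (j := 1) (m := 5) (by omega)).congr fun i _ => congrArg r (Nat.add_comm i 1)) hA1⟩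
    have := Chain.w_eq_mid hb (by omega) hc
    simp only [w, h5, hlo 0 (by omega), hlo 4 le_rfl, show 5 + 3 = 8 from rfl, hhi 8 (by omega),
      Nat.sub_self, ← zz_conj hb g hs0] at this
    exact this
  obtain ⟨p, hp⟩ := Γ.exists_crit
  obtain ⟨q, hq, -⟩ := exists_chain hb hp
  obtain ⟨v, hv, hv1⟩ := Γ.exists_other (hq.1.1 0 (by omega))
  obtain ⟨y, hy, hy0⟩ := Γ.exists_other (Γ.symm hv)
  have hvA : Γ.A v := Γ.A_of_adj hv (Chain.not_A0 hb hq)
  have hyA : ¬ Γ.A y := Γ.not_A hy hvA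
  have hs : Γ.Path (cons y (cons v q)) 8 :=
    ((hq.1.mono (show 6 ≤ Γ.b + 3 by omega)).cons (Γ.symm hv) (Or.inr (Ne.symm hv1))).cons (Γ.symm hy)
      (Or.inr (Ne.symm hy0))
  have hsc : Γ.Chain (cons y (cons v q)) := ⟨by rw [h5]; exact hs,
    crit_of_mov hM (by
      rw [h5]
      exact (hs.shift (j := 1) (m := 5) (by omega)).congr fun i _ =>
        congrArg (cons y (cons v q)) (Nat.add_comm i 1)) hvA⟩
  set x := Γ.zz y with hx
  set u := Γ.zz (q (Γ.b + 3)) with hu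
  have hx4 : x • q 4 = q 4 := Chain.start_fix hb hsc (i := 6) (by omega)
  have hx5 : x • q 5 ≠ q 5 := by
    have := Chain.start_moves hb hsc
    rwa [h5] at this
  have e1 := fold (cons y (cons v q)) (hs.mono (by omega)) hyA u (Chain.end_fix hb hq (i := 2) le_rfl (by omega))
    (Chain.end_moves hb hq)
  have e2 := fold (fun i => q (Γ.b + 3 - i)) ((Chain.rev hb hq).1.mono (by omega))
    (by simpa using Chain.not_A0 hb (Chain.rev hb hq)) x
    (by simpa [h5] using hx4) (by simpa [h5] using hx5)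
  change x * (u * x * u⁻¹) * x * (u * x * u⁻¹) = Γ.zz (q 2) at e1
  simp only [h5, Nat.sub_zero, show 5 + 3 - 4 = 4 from rfl, hx, Γ.zz_inv] at e2
  rw [hu, Γ.zz_inv, ← hu] at e1
  have e : Γ.zz (q 4) = Γ.zz (q 2) := by
    rw [← Γ.zz_inv (q 2), ← e1, ← e2]
    simp only [mul_inv_rev, hu, hx, h5, Γ.zz_inv, mul_assoc]
  exact zz_inj (hq.1.1 3 (by omega)) (Γ.symm (hq.1.1 2 (by omega)))
    (by rw [Chain.A_iff hb hq (by omega)]; decide) (hq.1.2 2 (by omega)) e

end Amalgam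

end Cfsg.Agent.Lib.Goldschmidt33
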