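import Cfsg.Agent.Lib.Goldschmidt33.Small

/-!
# Odd critical distance at least 3: the groups `Ω u` have order 2

Owner: helper54.
-/

set_option autoImplicit false
set_option linter.style.haveILetI false
set_option linter.unusedSectionVars false

namespace Cfsg.Agent.Lib.Goldschmidt33

universe u v

variable {X : Type u} {V : Type v} [Group X] [MulAction X V]

namespace Amalgam

variable {Γ : Amalgam X V} [Nonempty V]

/-- The standing hypothesis of the odd case. -/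
def OddB (Γ : Amalgam X V) [Nonempty V] : Prop := Odd Γ.b ∧ 3 ≤ Γ.b

theorem Crit.not_A_end (hb : Γ.OddB) {p : ℕ → V} (hp : Γ.Crit p) : ¬ Γ.A (p Γ.b) := by
  rw [hp.1.A_iff le_rfl]
  have := Nat.not_even_iff_odd.2 hb.1
  have := hp.2.1
  tauto

theorem A_succ_b (hb : Γ.OddB) {q : ℕ → V} (hq : Γ.Path q (Γ.b + 1)) (hA : Γ.A (q 0)) :
    Γ.A (q (Γ.b + 1)) :=
  (hq.A_iff le_rfl).2 (iff_of_true hA (by simp [Nat.even_add_one, Nat.not_even_iff_odd.2 hb.1]))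

/-- An element of `Z μ` fixing the other end `q 0` centralizes `Z (q 0)`. -/
theorem ext_fix_comm (hb : Γ.OddB) {q : ℕ → V} (hq : Γ.Path q (Γ.b + 1)) (hc : Γ.Crit q) {u : X}
    (hu : u ∈ Γ.Z (q (Γ.b + 1))) (hu0 : u • q 0 = q 0) : ∀ z ∈ Γ.Z (q 0), u * z = z * u := by
  intro z₀ hz₀
  obtain ⟨hodd, hb3⟩ := hb
  have hA0 := hc.2.1
  have hAμ := A_succ_b ⟨hodd, hb3⟩ hq hA0
  have hufix : ∀ i, i ≤ Γ.b + 1 → u • q i = q i := fun i hi => by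
    rcases Nat.eq_zero_or_pos i with rfl | h
    · exact hu0
    · exact fix_path hq le_rfl hi hAμ (by omega) (by omega) u hu
  by_cases huQ : u ∈ Γ.Q (q 0)
  · exact Γ.Q_comm_Z huQ hz₀
  exfalso
  have hu1 : u ≠ 1 := fun e => huQ (e ▸ one_mem _)
  obtain ⟨t, ht, htQ⟩ := SetLike.not_le_iff_exists.1 hc.2.2
  have htfix : ∀ i, i ≤ Γ.b → t • q i = q i := fun i hi =>
    fix_path hq (Nat.zero_le _) (by omega) hA0 (by omega) (by omega) t ht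
  -- transitivity on paths of length `b + 1`
  have hM : ∀ j, j < Γ.b + 1 → Γ.Mov j := by
    by_contra hM
    push Not at hM
    classical
    obtain ⟨hkb, hk⟩ := Nat.find_spec hM
    set k := Nat.find hM
    have hlt : ∀ j, j < k → Γ.Mov j := fun j hj => by
      by_contra h
      exact Nat.find_min hM hj ⟨by omega, h⟩
    obtain ⟨hko, hk3⟩ := Γ.odd_failure hlt hk hq (by omega) hufix hu1
    obtain ⟨w, -, hR⟩ := Γ.exists_rule hlt hk
    by_cases hτ : Γ.A (w 0)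
    · refine htQ (hR.long (hq.mono (Nat.le_succ _)) (by omega) ?_ fun i hi => htfix i hi)
      rw [hq.A_iff (by omega)]
      have : Even (Γ.b - k) := Nat.Odd.sub_odd hodd hko
      tauto
    · refine huQ ?_
      have := hR.long hq.rev (by omega) ?_ (g := u) fun i hi => hufix _ (by omega)
      · simpa using this
      · show Γ.A (q (Γ.b + 1 - (Γ.b + 1 - k))) ↔ _
        rw [show Γ.b + 1 - (Γ.b + 1 - k) = k by omega, hq.A_iff (by omega)]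
        have := Nat.not_even_iff_odd.2 hko
        tauto
  have h01 : Γ.Adj (q 0) (q 1) := hq.1 0 (by omega)
  have huE : u ∈ Γ.E (q 0) (q 1) := ⟨hu0, hufix 1 (by omega)⟩
  obtain ⟨ω, hω, hω1⟩ := Γ.exists_om h01 hA0
  obtain ⟨z, hz, hzω⟩ := Γ.exists_comm_eq h01 hA0 hω huE huQ
  have hA2 : Γ.A (q 2) := (hq.A_iff (by omega)).2 (iff_of_true hA0 even_two)
  have h21 : Γ.Adj (q 2) (q 1) := Γ.symm (hq.1 1 (by omega))
  have h23 : Γ.Adj (q 2) (q 3) := hq.1 2 (by omega)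
  rcases (show Γ.b = 3 ∨ 5 ≤ Γ.b by obtain ⟨m, hm⟩ := hodd; omega) with h3 | h5
  · -- `b = 3`
    have hbb : Γ.Adj (q 4) (q 3) := Γ.symm (hq.1 3 (by omega))
    simp only [h3, Nat.reduceAdd] at hAμ htQ hu
    have key : ∀ y ∈ Γ.Z (q 0), y • q 4 = q 4 → u * y = y * u := by
      intro y hy hy4
      have hπ1 := Γ.pair_mem_om h01 hA0 hy huE
      have hπ2 := Γ.pair_mem_om hbb hAμ hu (g := y)
        ⟨hy4, fix_path hq (Nat.zero_le _) (by omega) hA0 (by omega) (by omega) y hy⟩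
      have e : u * (y * u * y⁻¹) = (y * (u * y * u⁻¹))⁻¹ := by
        simp only [mul_inv_rev, inv_inv, inv_eq_of_mul_eq_one_left (Γ.Z_sq hy),
          inv_eq_of_mul_eq_one_left (Γ.Z_sq hu), mul_assoc]
      rw [e, inv_mem_iff] at hπ2
      have := Γ.om_inter h21 h23 (Ne.symm (hq.2 1 (by omega))) hπ1 hπ2
      calc u * y = y⁻¹ * (y * (u * y * u⁻¹)) * u := by group
        _ = y * u := by rw [this, mul_one, inv_eq_of_mul_eq_one_left (Γ.Z_sq hy)]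
    obtain ⟨a, c, ha, hc', ha1, hc1, hac, -⟩ := Γ.three h01
    have hua : u • a ≠ a := (Γ.smul_ne huE huQ h01 ha ha1).1
    have hone : ∀ w, ¬ Γ.A w → ∀ y ∈ Γ.Om w, ∀ y' ∈ Γ.Om w, y ≠ 1 → y' ≠ 1 → y = y' := by
      intro w hw y hy y' hy' hy1 hy'1
      have hnA : ¬ Γ.A a := Γ.not_A ha hA0
      obtain ⟨g, hg⟩ := Γ.exists_smul (v := w) (w := a) (iff_of_false hw hnA)
      have m := hg ▸ Γ.conj_mem_Om hy g
      have m' := hg ▸ Γ.conj_mem_Om hy' g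
      have hfix : ∀ x ∈ Γ.Om a, x • q 4 = q 4 → x = 1 := fun x hx hx4 =>
        Γ.om_eq_one ha hx hu0 hua (key x (Γ.Om_le_Z ha hx) hx4)
      have hE : ∀ x ∈ Γ.Om a, x ∈ Γ.E (q 3) (q 2) := fun x hx =>
        ⟨fix_path hq (Nat.zero_le _) (by omega) hA0 (by omega) (by omega) x (Γ.Om_le_Z ha hx),
          fix_path hq (Nat.zero_le _) (by omega) hA0 (by omega) (by omega) x (Γ.Om_le_Z ha hx)⟩
      have hmove : ∀ x ∈ Γ.Om a, x ≠ 1 → x ∉ Γ.Q (q 3) := fun x hx hx1 hxQ =>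
        hx1 (hfix x hx (hxQ.2 _ (Γ.symm hbb)))
      have h1 : g * y * g⁻¹ ≠ 1 := by simpa [conj_eq_one_iff] using hy1
      have h1' : g * y' * g⁻¹ ≠ 1 := by simpa [conj_eq_one_iff] using hy'1
      have := hfix _ (mul_mem m m') ((Γ.mul_mem_Q (Γ.symm h23) (hE _ m) (hmove _ m h1) (hE _ m')
        (hmove _ m' h1')).2 _ (Γ.symm hbb))
      rw [mul_eq_one_iff_eq_inv, inv_eq_of_mul_eq_one_left m'.2.1] at this
      simpa using this
    have hZ4 : Γ.Z (q 4) ≤ Γ.Q (q 1) := by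
      have hu3 : u ∉ Γ.Om (q 3) := fun h => huQ
        (path_le_Q hq (i := 2) (by omega) (Nat.zero_le _) hA2 (by omega) (by omega) (Γ.Om_le_Z h23 h))
      have hO3 : Γ.Om (q 3) ≤ Γ.Q (q 1) := fun x hx =>
        path_le_Q hq (i := 2) (j := 1) (by omega) (by omega) hA2 (by omega) (by omega) (Γ.Om_le_Z h23 hx)
      have huQ1 : u ∈ Γ.Q (q 1) := Γ.mem_Q_of_fix_two huE.2 (Γ.symm h01) (hq.1 1 (by omega))
        (Ne.symm (hq.2 0 (by omega))) hu0 (hufix 2 (by omega))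
      obtain ⟨d, hd, hd3⟩ := Γ.exists_other hbb
      obtain ⟨y₀, hy₀, y₀', hy₀', he⟩ := Γ.exists_mul hAμ hbb hd (Ne.symm hd3) hu
      intro x hx
      obtain ⟨y, hy, y', hy', rfl⟩ := Γ.exists_mul hAμ hbb hd (Ne.symm hd3) hx
      refine mul_mem (hO3 hy) ?_
      by_cases h' : y' = 1
      · exact h' ▸ one_mem _
      have hy'0 : y₀' ≠ 1 := fun e => hu3 (by rw [he, e, mul_one]; exact hy₀)
      rw [hone d (Γ.not_A hd hAμ) y' hy' y₀' hy₀' h' hy'0,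
        show y₀' = y₀⁻¹ * u by rw [he, inv_mul_cancel_left]]
      exact mul_mem (inv_mem (hO3 hy₀)) huQ1
    obtain ⟨e₂, he₂, he21, he23⟩ := Γ.exists_third h21 h23
    obtain ⟨g, hg, hgQ⟩ := Γ.exists_swap he₂
    have hg1 : g • q 1 = q 3 := Γ.swap_eq hg hgQ he₂ h21 (Ne.symm he21) h23 (Ne.symm he23) (hq.2 1 (by omega))
    have hg3 : g • q 3 = q 1 :=
      Γ.swap_eq hg hgQ he₂ h23 (Ne.symm he23) h21 (Ne.symm he21) (Ne.symm (hq.2 1 (by omega)))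
    have hall : ∀ y, Γ.Adj (q 3) y → Γ.Z y ≤ Γ.Q (q 1) := by
      intro y hy
      by_cases hy2 : y = q 2
      · exact hy2 ▸ path_le_Q hq (i := 2) (j := 1) (by omega) (by omega) hA2 (by omega) (by omega)
      by_cases hy4 : y = q 4
      · exact hy4 ▸ hZ4
      have htE : t ∈ Γ.E (q 3) (q 2) := ⟨htfix 3 (by omega), htfix 2 (by omega)⟩
      have h42 : q 4 ≠ q 2 := hq.2 2 (by omega)
      have hty : t • q 4 = y := Γ.swap_eq htE htQ (Γ.symm h23) (Γ.symm hbb) h42 hy hy2 hy4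
      intro x hx
      have hx' : t⁻¹ * x * t ∈ Γ.Z (q 4) := by
        have := Γ.conj_mem_Z hx t⁻¹
        rwa [← hty, inv_smul_smul, inv_inv] at this
      have := Γ.conj_mem_Q (hZ4 hx') t
      rw [htfix 1 (by omega)] at this
      simpa [mul_assoc] using this
    refine hc.2.2 fun x hx => ?_
    rw [h3]
    have := hall (g • q 0) (by rw [← hg1]; exact Γ.smul g (Γ.symm h01)) (Γ.conj_mem_Z hx g)
    rw [← hg3] at this
    exact Γ.conj_mem_Q_iff.1 this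
  · -- `b ≥ 5`
    obtain ⟨q₁, hq₁, hqp₁⟩ := hq.exists_ext
    obtain ⟨r, hr, hrp⟩ := hq₁.exists_ext
    have hrq : ∀ i, i ≤ Γ.b + 1 → r i = q i := fun i hi => by rw [hrp i (by omega), hqp₁ i hi]
    obtain ⟨g, hg⟩ := Γ.uniform hM hq (hr.shift (j := 2) (m := Γ.b + 1) (by omega))
      (iff_of_true hA0 (by show Γ.A (r 2); rw [hrq 2 (by omega)]; exact hA2))
    have hu' : g * u * g⁻¹ ∈ Γ.Z (r (2 + (Γ.b + 1))) := hg (Γ.b + 1) le_rfl ▸ Γ.conj_mem_Z hu g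
    have e2 : g • q 0 = q 2 := by rw [hg 0 (Nat.zero_le _)]; exact hrq 2 (by omega)
    have e3 : g • q 1 = q 3 := by rw [hg 1 (by omega)]; exact hrq 3 (by omega)
    have hu'Q : g * u * g⁻¹ ∉ Γ.Q (q 2) := fun h => huQ (Γ.conj_mem_Q_iff.1 (e2 ▸ h))
    have hu'E : g * u * g⁻¹ ∈ Γ.E (q 2) (q 3) := by
      have := Γ.conj_mem_E huE g
      rwa [e2, e3] at this
    have hAend : Γ.A (r (2 + (Γ.b + 1))) := hg (Γ.b + 1) le_rfl ▸ (Γ.A_smul g _).2 hAμ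
    have hcomm : ∀ y, Γ.Adj (q Γ.b) y → ∀ x ∈ Γ.Z y, g * u * g⁻¹ * x = x * (g * u * g⁻¹) := by
      intro y hy x hx
      refine Γ.comm_of_near hAend (n := 4) ?_ (by omega) hu' hx
      refine Base.Near.trans (n := 3) (m := 1) ?_ (Base.Near.adj hy)
      rw [← hrq Γ.b (by omega)]
      exact hr.near_le (by omega) (by omega) (by omega) (by omega)
    have hω' : g * u * g⁻¹ * ω = ω * (g * u * g⁻¹) := by
      have hzb : z • q Γ.b = q Γ.b :=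
        fix_path hq (Nat.zero_le _) (by omega) hA0 (by omega) (by omega) z hz
      have hadj : Γ.Adj (q Γ.b) (q (Γ.b + 1)) := hq.1 Γ.b (by omega)
      have h1 : Commute (g * u * g⁻¹) (z * u * z⁻¹) :=
        hcomm _ (Γ.adj_fix hzb hadj) _ (Γ.conj_mem_Z hu z)
      have h2 : Commute (g * u * g⁻¹) u := hcomm _ hadj _ hu
      have : ω = z * u * z⁻¹ * u := by
        rw [← hzω, inv_eq_of_mul_eq_one_left (Γ.Z_sq hu), inv_eq_of_mul_eq_one_left (Γ.Z_sq hz)]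
        group
      rw [this]
      exact h1.mul_right h2
    exact hω1 (Γ.om_inter h21 h23 (Ne.symm (hq.2 1 (by omega))) hω
      (Γ.fixed_mem_om h23 hA2 (Γ.Om_le_Z h21 hω) hu'E hu'Q hω'))

/-- For a neighbour `μ` extending a critical path, `Z μ` does not centralize `Z (q 0)`. -/
theorem ext_not_comm (hb : Γ.OddB) {q : ℕ → V} (hq : Γ.Path q (Γ.b + 1)) (hc : Γ.Crit q) :
    ¬ ∀ z ∈ Γ.Z (q 0), ∀ x ∈ Γ.Z (q (Γ.b + 1)), z * x = x * z := by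
  intro h
  obtain ⟨t, ht, htQ⟩ := SetLike.not_le_iff_exists.1 hc.2.2
  have hadj := hq.1 Γ.b (by omega)
  have htE : t ∈ Γ.E (q Γ.b) (q (Γ.b - 1)) :=
    ⟨fix_path hq (Nat.zero_le _) (by omega) hc.2.1 (by omega) (by omega) t ht,
      fix_path hq (Nat.zero_le _) (by omega) hc.2.1 (by omega) (by omega) t ht⟩
  have hprev : Γ.Adj (q Γ.b) (q (Γ.b - 1)) := by
    have := hq.1 (Γ.b - 1) (by have := hb.2; omega)
    rw [show Γ.b - 1 + 1 = Γ.b by have := hb.2; omega] at this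
    exact Γ.symm this
  refine Γ.not_normalize (Γ.symm hadj) (A_succ_b hb hq hc.2.1) htE.1
    (Γ.smul_ne htE htQ hprev hadj ?_).1 fun x hx => ?_
  · have := hq.2 (Γ.b - 1) (by have := hb.2; omega)
    rwa [show Γ.b - 1 + 2 = Γ.b + 1 by have := hb.2; omega] at this
  · rwa [h t ht x hx, mul_inv_cancel_right]

/-- The extended path read backwards is critical. -/
theorem Crit.ext_rev (hb : Γ.OddB) {q : ℕ → V} (hq : Γ.Path q (Γ.b + 1)) (hc : Γ.Crit q) :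
    Γ.Crit (fun i => q (Γ.b + 1 - i)) := by
  refine ⟨(hq.rev).mono (Nat.le_succ _), ?_, fun hle => ext_not_comm hb hq hc fun z hz x hx => ?_⟩
  · show Γ.A (q (Γ.b + 1 - 0))
    rw [Nat.sub_zero]
    exact A_succ_b hb hq hc.2.1
  · have hx' := hle (show x ∈ Γ.Z (q (Γ.b + 1 - 0)) by rwa [Nat.sub_zero])
    simp only [show Γ.b + 1 - Γ.b = 1 by omega] at hx'
    exact (ext_fix_comm hb hq hc hx (hx'.2 _ (Γ.symm (hq.1 0 (by omega)))) z hz).symm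

/-- An element of `Z (q 0)` fixing the extension centralizes its `Z`. -/
theorem ext_fix_comm' (hb : Γ.OddB) {q : ℕ → V} (hq : Γ.Path q (Γ.b + 1)) (hc : Γ.Crit q) {z : X}
    (hz : z ∈ Γ.Z (q 0)) (hz' : z • q (Γ.b + 1) = q (Γ.b + 1)) :
    ∀ x ∈ Γ.Z (q (Γ.b + 1)), z * x = x * z := by
  have := ext_fix_comm hb hq.rev (Crit.ext_rev hb hq hc) (u := z)
    (by simpa using hz) (by simpa using hz')
  simpa using this

theorem exists_crit_ext : ∃ q, Γ.Path q (Γ.b + 1) ∧ Γ.Crit q := by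
  obtain ⟨p, hp⟩ := Γ.exists_crit
  obtain ⟨q, hq, hqp⟩ := hp.1.exists_ext
  exact ⟨q, hq, hp.congr hqp⟩

theorem Z_mem_all (hb : Γ.OddB) {v w : V} (hvw : Γ.Adj v w) (hv : Γ.A v) {y y' : X} (hy : y ∈ Γ.Z v)
    (hy' : y' ∈ Γ.Z v) (h : ¬ ∀ x, Γ.Adj w x → y ∈ Γ.Z x) (h' : ¬ ∀ x, Γ.Adj w x → y' ∈ Γ.Z x) :
    ∀ x, Γ.Adj w x → y * y' ∈ Γ.Z x := by
  have hb3 := hb.2
  obtain ⟨q, hq, hc⟩ := exists_crit_ext (Γ := Γ)
  have h01 : Γ.Adj (q 0) (q 1) := hq.1 0 (by omega)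
  have hA1 : ¬ Γ.A (q 1) := Γ.not_A h01 hc.2.1
  obtain ⟨d, hd, hd0, hd2⟩ := Γ.exists_third (Γ.symm h01) (hq.1 1 (by omega))
  obtain ⟨u, hu, huQ⟩ := SetLike.not_le_iff_exists.1 (Crit.ext_rev hb hq hc).2.2
  simp only [Nat.sub_zero, show Γ.b + 1 - Γ.b = 1 by omega] at hu huQ
  have hAμ := A_succ_b hb hq hc.2.1
  have huE : u ∈ Γ.E (q 1) (q 2) :=
    ⟨fix_path hq le_rfl (by omega) hAμ (by omega) (by omega) u hu,
      fix_path hq le_rfl (by omega) hAμ (by omega) (by omega) u hu⟩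
  have hu0 : u • q 0 = d := Γ.swap_eq huE huQ (hq.1 1 (by omega)) (Γ.symm h01)
    (Ne.symm (hq.2 0 (by omega))) hd hd2 hd0
  obtain ⟨s, hs, hs'⟩ := SetLike.not_le_iff_exists.1 (Γ.Q_not_le (Γ.symm hd))
  have hsE : s ∈ Γ.E (q 1) d := by rw [Γ.E_comm]; exact Γ.Q_le_E (Γ.symm hd) hs
  have hs2 : s • q 0 = q 2 := Γ.swap_eq hsE hs' hd (Γ.symm h01) (Ne.symm hd0) (hq.1 1 (by omega))
    (Ne.symm hd2) (hq.2 0 (by omega))
  have hgood : ∀ z ∈ Γ.Z (q 0), z • q (Γ.b + 1) = q (Γ.b + 1) → ∀ x, Γ.Adj (q 1) x → z ∈ Γ.Z x := by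
    intro z hz hzμ
    have hzd : z ∈ Γ.Z d := by
      have := Γ.conj_mem_Z hz u
      rwa [hu0, ← ext_fix_comm' hb hq hc hz hzμ u hu, mul_inv_cancel_right] at this
    have hz2 : z ∈ Γ.Z (q 2) := by
      have := Γ.conj_mem_Z hz s
      rwa [hs2, Γ.Q_comm_Z hs hzd, mul_inv_cancel_right] at this
    intro x hx
    rcases Γ.cases3 (Γ.symm h01) (hq.1 1 (by omega)) hd (Ne.symm (hq.2 0 (by omega))) (Ne.symm hd0)
      (Ne.symm hd2) hx with rfl | rfl | rfl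
    exacts [hz, hz2, hzd]
  obtain ⟨g, hg, hg'⟩ := Γ.exists_smul_edge hvw h01 (iff_of_true hv hc.2.1)
  have hmove : ∀ z ∈ Γ.Z v, (¬ ∀ x, Γ.Adj w x → z ∈ Γ.Z x) →
      g * z * g⁻¹ ∈ Γ.E (q Γ.b) (q (Γ.b - 1)) ∧ g * z * g⁻¹ ∉ Γ.Q (q Γ.b) := by
    intro z hz hz'
    have hm : g * z * g⁻¹ ∈ Γ.Z (q 0) := hg ▸ Γ.conj_mem_Z hz g
    refine ⟨⟨fix_path hq (Nat.zero_le _) (by omega) hc.2.1 (by omega) (by omega) _ hm,
      fix_path hq (Nat.zero_le _) (by omega) hc.2.1 (by omega) (by omega) _ hm⟩, fun hQ => hz' fun x hx => ?_⟩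
    have := Γ.conj_mem_Z (hgood _ hm (hQ.2 _ (hq.1 Γ.b (by omega))) (g • x) (hg' ▸ Γ.smul g hx)) g⁻¹
    rw [inv_smul_smul] at this
    convert this using 1
    group
  intro x hx
  obtain ⟨hE, hQ⟩ := hmove y hy h
  obtain ⟨hE', hQ'⟩ := hmove y' hy' h'
  have hprev : Γ.Adj (q Γ.b) (q (Γ.b - 1)) := by
    have := hq.1 (Γ.b - 1) (by omega)
    rw [show Γ.b - 1 + 1 = Γ.b by omega] at this
    exact Γ.symm this
  have hfix := (Γ.mul_mem_Q hprev hE hQ hE' hQ').2 _ (hq.1 Γ.b (by omega))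
  have hm : g * y * g⁻¹ * (g * y' * g⁻¹) ∈ Γ.Z (q 0) :=
    mul_mem (hg ▸ Γ.conj_mem_Z hy g) (hg ▸ Γ.conj_mem_Z hy' g)
  have := Γ.conj_mem_Z (hgood _ hm hfix (g • x) (hg' ▸ Γ.smul g hx)) g⁻¹
  rw [inv_smul_smul] at this
  convert this using 1
  group

/-- The intersection of the `Z x`, `x` adjacent to `w`. -/
def Y (Γ : Amalgam X V) (w : V) : Subgroup X := ⨅ x : {x : V // Γ.Adj w x}, Γ.Z x.1

theorem mem_Y {w : V} {z : X} : z ∈ Γ.Y w ↔ ∀ x, Γ.Adj w x → z ∈ Γ.Z x := by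
  simp [Y, Subgroup.mem_iInf]

theorem card_Z_le (hb : Γ.OddB) {v : V} (hv : Γ.A v) : Nat.card ↥(Γ.Z v) ≤ 8 := by
  obtain ⟨u, hu⟩ := Γ.exists_adj v
  obtain ⟨a, c, ha, hc, hau, hcu, hac, -⟩ := Γ.three hu
  haveI := Γ.finite_of_le (K := Γ.Z v) ((Γ.Z_le_Q v).trans (Γ.Q_le_E hu))
  have step : ∀ {w : V}, Γ.Adj v w → ∀ {K : Subgroup X}, K ≤ Γ.Z v →
      Nat.card ↥K ≤ 2 * Nat.card ↥(K ⊓ Γ.Y w) := by
    intro w hw K hK
    haveI : Finite ↥K := Finite.of_injective _ (Subgroup.inclusion_injective hK)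
    exact Base.card_le_two_mul fun y hy y' hy' h h' => mem_Y.2
      (Z_mem_all hb hw hv (hK hy) (hK hy') (fun e => h (mem_Y.2 e)) (fun e => h' (mem_Y.2 e)))
  have hI : Γ.Z v ⊓ Γ.Y u ⊓ Γ.Y a ⊓ Γ.Y c = ⊥ := by
    have hall : ∀ k ∈ Γ.Z v ⊓ Γ.Y u ⊓ Γ.Y a ⊓ Γ.Y c, ∀ w, Γ.Adj v w → k ∈ Γ.Y w := fun k hk w hw => by
      rcases Γ.cases3 hu ha hc (Ne.symm hau) (Ne.symm hcu) hac hw with rfl | rfl | rfl
      exacts [hk.1.1.2, hk.1.2, hk.2]
    obtain ⟨x, hx, hxv⟩ := Γ.exists_other (Γ.symm hu)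
    obtain ⟨s, hs, hsQ⟩ := SetLike.not_le_iff_exists.1 (Γ.Q_not_le (Γ.symm hx))
    have hsE : s ∈ Γ.E u x := by rw [Γ.E_comm]; exact Γ.Q_le_E (Γ.symm hx) hs
    refine Γ.eq_bot_of_mover hu (fun k hk => Γ.Q_le_E hu (Γ.Z_le_Q v hk.1.1.1)) (fun g hg k hk => ?_)
      hsE.1 (Γ.smul_ne hsE hsQ hx (Γ.symm hu) (Ne.symm hxv)).1 fun k hk => ?_
    · have hY : ∀ w, Γ.Adj v w → g * k * g⁻¹ ∈ Γ.Y w := fun w hw => mem_Y.2 fun z hz => by
        have h1 : Γ.Adj v (g⁻¹ • w) := Γ.adj_fix (inv_smul_eq_iff.2 hg.symm) hw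
        have := Γ.conj_mem_Z (mem_Y.1 (hall k hk _ h1) _ (Γ.smul g⁻¹ hz)) g
        rwa [smul_inv_smul] at this
      exact ⟨⟨⟨Γ.conj_mem_Z' hg hk.1.1.1, hY u hu⟩, hY a ha⟩, hY c hc⟩
    · rwa [Γ.Q_comm_Z hs (mem_Y.1 hk.1.1.2 x hx), mul_inv_cancel_right]
  have e1 := step hu (K := Γ.Z v) le_rfl
  have e2 := step ha (K := Γ.Z v ⊓ Γ.Y u) inf_le_left
  have e3 := step hc (K := Γ.Z v ⊓ Γ.Y u ⊓ Γ.Y a) (inf_le_left.trans inf_le_left)
  rw [hI, Subgroup.card_bot] at e3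
  omega

theorem om_single (hb : Γ.OddB) {w : V} (hw : ¬ Γ.A w) {y y' : X} (hy : y ∈ Γ.Om w) (hy' : y' ∈ Γ.Om w)
    (h1 : y ≠ 1) (h1' : y' ≠ 1) : y = y' := by
  by_contra hne
  obtain ⟨v, hv⟩ := Γ.exists_adj w
  have hvA : Γ.A v := Γ.A_of_adj hv hw
  obtain ⟨a, ha, haw⟩ := Γ.exists_other (Γ.symm hv)
  obtain ⟨g, hg⟩ := Γ.exists_smul (v := w) (w := a) (iff_of_false hw (Γ.not_A ha hvA))
  have hgy : g * y * g⁻¹ ∈ Γ.Om a := hg ▸ Γ.conj_mem_Om hy g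
  have hgy' : g * y' * g⁻¹ ∈ Γ.Om a := hg ▸ Γ.conj_mem_Om hy' g
  haveI := Γ.finite_of_le (K := Γ.Z v) ((Γ.Z_le_Q v).trans (Γ.Q_le_E (Γ.symm hv)))
  let T : Fin 3 → X := ![1, y, y']
  let U : Fin 3 → X := ![1, g * y * g⁻¹, g * y' * g⁻¹]
  have hT : ∀ i, T i ∈ Γ.Om w := by intro i; fin_cases i <;> simp [T, hy, hy', one_mem]
  have hU : ∀ i, U i ∈ Γ.Om a := by intro i; fin_cases i <;> simp [U, hgy, hgy', one_mem]
  have hTi : Function.Injective T := by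
    intro i j h
    fin_cases i <;> fin_cases j <;> simp_all [T, eq_comm]
  have hUi : Function.Injective U := by
    intro i j h
    fin_cases i <;> fin_cases j <;> simp_all [U, conj_eq_one_iff, eq_comm]
  let f : Fin 3 × Fin 3 → ↥(Γ.Z v) := fun p =>
    ⟨T p.1 * U p.2, mul_mem (Γ.Om_le_Z (Γ.symm hv) (hT _)) (Γ.Om_le_Z ha (hU _))⟩
  have hf : Function.Injective f := by
    rintro ⟨i, j⟩ ⟨i', j'⟩ h
    have h' : T i * U j = T i' * U j' := congrArg Subtype.val h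
    have e : (T i')⁻¹ * T i = U j' * (U j)⁻¹ := by
      rw [eq_mul_inv_iff_mul_eq, mul_assoc, h', inv_mul_cancel_left]
    have hone : (T i')⁻¹ * T i = 1 := Γ.om_inter (Γ.symm hv) ha (Ne.symm haw)
      (mul_mem (inv_mem (hT _)) (hT _)) (e ▸ mul_mem (hU _) (inv_mem (hU _)))
    have hi := hTi (inv_mul_eq_one.1 hone).symm
    subst hi
    rw [hUi (mul_left_cancel h')]
  have := Nat.card_le_card_of_injective f hf
  have := card_Z_le hb hvA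
  simp [Nat.card_prod] at *
  omega

end Amalgam

end Cfsg.Agent.Lib.Goldschmidt33
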