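import Cfsg.Agent.Lib.Goldschmidt33.Basic

/-!
# Paths, transitivity on paths, and rigidity of a first failure

Owner: helper54.
-/

set_option autoImplicit false
set_option linter.style.haveILetI false

namespace Cfsg.Agent.Lib.Goldschmidt33

universe u v

variable {X : Type u} {V : Type v} [Group X] [MulAction X V]

/-- Prefix a vertex to a sequence. -/
def cons (a : V) (p : ℕ → V) : ℕ → V
  | 0 => a
  | i + 1 => p i

/-- Replace the vertex in position `n`. -/
def snoc (p : ℕ → V) (n : ℕ) (a : V) : ℕ → V := fun i => if i < n then p i else a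

@[simp] theorem cons_zero (a : V) (p : ℕ → V) : cons a p 0 = a := rfl
@[simp] theorem cons_succ (a : V) (p : ℕ → V) (i : ℕ) : cons a p (i + 1) = p i := rfl

theorem snoc_lt {p : ℕ → V} {n : ℕ} {a : V} {i : ℕ} (h : i < n) : snoc p n a i = p i := if_pos h

theorem snoc_self {p : ℕ → V} {n : ℕ} {a : V} : snoc p n a n = a := if_neg (lt_irrefl n)

namespace Base

variable (Γ : Base X V)

/-- There is a walk of length at most `n` from `v` to `w`. -/
def Near : ℕ → V → V → Prop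
  | 0, v, w => v = w
  | n + 1, v, w => v = w ∨ ∃ m, Γ.Adj v m ∧ Near n m w

theorem Near.refl (n : ℕ) (v : V) : Γ.Near n v v := by
  cases n
  · rfl
  · exact Or.inl rfl

variable {Γ}

theorem Near.succ : ∀ {n : ℕ} {v w : V}, Γ.Near n v w → Γ.Near (n + 1) v w
  | 0, _, _, h => Or.inl h
  | n + 1, _, _, h => by
    rcases h with h | ⟨m, hm, h⟩
    · exact Or.inl h
    · exact Or.inr ⟨m, hm, Near.succ h⟩

theorem Near.mono {n m : ℕ} (hnm : n ≤ m) {v w : V} (h : Γ.Near n v w) : Γ.Near m v w := by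
  induction hnm with
  | refl => exact h
  | step _ ih => exact ih.succ

theorem Near.adj {v w : V} (h : Γ.Adj v w) : Γ.Near 1 v w := Or.inr ⟨w, h, rfl⟩

theorem Near.trans : ∀ {n m : ℕ} {a b c : V}, Γ.Near n a b → Γ.Near m b c → Γ.Near (n + m) a c
  | 0, m, a, b, c, h, h' => by
    rw [show a = b from h]
    exact h'.mono (Nat.le_add_left _ _)
  | n + 1, m, a, b, c, h, h' => by
    rcases h with h | ⟨x, hx, h⟩
    · rw [h]
      exact h'.mono (Nat.le_add_left _ _)
    · rw [Nat.add_right_comm]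
      exact Or.inr ⟨x, hx, Near.trans h h'⟩

theorem Near.symm : ∀ {n : ℕ} {a b : V}, Γ.Near n a b → Γ.Near n b a
  | 0, _, _, h => Eq.symm h
  | n + 1, a, b, h => by
    rcases h with h | ⟨x, hx, h⟩
    · exact Or.inl h.symm
    · exact Near.trans (Near.symm h) (Near.adj (Γ.symm hx))

theorem Near.smul (g : X) : ∀ {n : ℕ} {a b : V}, Γ.Near n a b → Γ.Near n (g • a) (g • b)
  | 0, _, _, h => congrArg _ h
  | n + 1, a, b, h => by
    rcases h with h | ⟨x, hx, h⟩
    · exact Or.inl (congrArg _ h)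
    · exact Or.inr ⟨g • x, Γ.smul g hx, Near.smul g h⟩

variable (Γ)

/-- `p 0, …, p n` is a path without backtracking. -/
def Path (p : ℕ → V) (n : ℕ) : Prop :=
  (∀ i, i < n → Γ.Adj (p i) (p (i + 1))) ∧ ∀ i, i + 2 ≤ n → p (i + 2) ≠ p i

/-- `g` fixes the vertices `p 0, …, p n`. -/
def Fixes (_Γ : Base X V) (g : X) (p : ℕ → V) (n : ℕ) : Prop := ∀ i, i ≤ n → g • p i = p i

/-- Every path of length `k` is fixed by some element moving both extensions at its end. -/
def Mov (k : ℕ) : Prop := ∀ p, Γ.Path p k → ∃ g : X, Γ.Fixes g p k ∧ g ∉ Γ.Q (p k)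

/-- The stabilizer of a path of length `k` starting in the class `τ` fixes all extensions at its end. -/
def Rule (k : ℕ) (τ : Prop) : Prop :=
  ∀ q, Γ.Path q k → (Γ.A (q 0) ↔ τ) → ∀ g : X, Γ.Fixes g q k → g ∈ Γ.Q (q k)

variable {Γ}

theorem Path.near {p : ℕ → V} {n : ℕ} (hp : Γ.Path p n) :
    ∀ {i j : ℕ}, i ≤ j → j ≤ n → Γ.Near (j - i) (p i) (p j) := by
  intro i j hij hj
  induction hij with
  | refl => simpa using Near.refl Γ 0 (p i)
  | @step m hm ih =>
    rw [Nat.succ_sub hm]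
    exact Near.trans (ih (by omega)) (Near.adj (hp.1 m (by omega)))

theorem Path.near_le {p : ℕ → V} {n d : ℕ} (hp : Γ.Path p n) {i j : ℕ} (hi : i ≤ n) (hj : j ≤ n)
    (h₁ : j - i ≤ d) (h₂ : i - j ≤ d) : Γ.Near d (p i) (p j) := by
  rcases le_total i j with h | h
  · exact (hp.near h hj).mono h₁
  · exact ((hp.near h hi).symm).mono h₂

theorem Path.mono {p : ℕ → V} {n m : ℕ} (hp : Γ.Path p n) (h : m ≤ n) : Γ.Path p m :=
  ⟨fun i hi => hp.1 i (by omega), fun i hi => hp.2 i (by omega)⟩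

theorem Path.shift {p : ℕ → V} {n j m : ℕ} (hp : Γ.Path p n) (h : j + m ≤ n) :
    Γ.Path (fun i => p (j + i)) m :=
  ⟨fun i hi => hp.1 (j + i) (by omega), fun i hi => hp.2 (j + i) (by omega)⟩

theorem Path.rev {p : ℕ → V} {n : ℕ} (hp : Γ.Path p n) : Γ.Path (fun i => p (n - i)) n := by
  refine ⟨fun i hi => ?_, fun i hi => ?_⟩
  · have := hp.1 (n - (i + 1)) (by omega)
    rw [show n - (i + 1) + 1 = n - i by omega] at this
    exact Γ.symm this
  · have := hp.2 (n - (i + 2)) (by omega)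
    rw [show n - (i + 2) + 2 = n - i by omega] at this
    exact this.symm

theorem Path.smul {p : ℕ → V} {n : ℕ} (hp : Γ.Path p n) (g : X) : Γ.Path (fun i => g • p i) n :=
  ⟨fun i hi => Γ.smul g (hp.1 i hi), fun i hi e => hp.2 i hi (MulAction.injective g e)⟩

theorem Path.congr {p q : ℕ → V} {n : ℕ} (hp : Γ.Path p n) (h : ∀ i, i ≤ n → q i = p i) :
    Γ.Path q n :=
  ⟨fun i hi => by rw [h i (by omega), h (i + 1) (by omega)]; exact hp.1 i hi,
    fun i hi => by rw [h i (by omega), h (i + 2) (by omega)]; exact hp.2 i hi⟩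

theorem Path.cons {p : ℕ → V} {n : ℕ} (hp : Γ.Path p n) {a : V} (ha : Γ.Adj a (p 0))
    (hne : n = 0 ∨ p 1 ≠ a) : Γ.Path (cons a p) (n + 1) := by
  refine ⟨fun i hi => ?_, fun i hi => ?_⟩
  · cases i with
    | zero => exact ha
    | succ i => exact hp.1 i (by omega)
  · cases i with
    | zero => exact hne.resolve_left (by omega)
    | succ i => exact hp.2 i (by omega)

theorem Path.snoc {p : ℕ → V} {n : ℕ} (hp : Γ.Path p n) {a : V} (ha : Γ.Adj (p n) a)
    (hne : n = 0 ∨ a ≠ p (n - 1)) : Γ.Path (snoc p (n + 1) a) (n + 1) := by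
  refine ⟨fun i hi => ?_, fun i hi => ?_⟩
  · rcases Nat.lt_or_eq_of_le (Nat.le_of_lt_succ hi) with h | h
    · rw [snoc_lt (by omega), snoc_lt (by omega)]
      exact hp.1 i h
    · subst h
      rw [snoc_lt (by omega), snoc_self]
      exact ha
  · rcases Nat.lt_or_eq_of_le hi with h | h
    · rw [snoc_lt (by omega), snoc_lt (by omega)]
      exact hp.2 i (by omega)
    · rw [h, snoc_self, snoc_lt (by omega)]
      have := hne.resolve_left (by omega)
      rwa [show n - 1 = i by omega] at this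

theorem Path.exists_ext {p : ℕ → V} {n : ℕ} (hp : Γ.Path p n) :
    ∃ q, Γ.Path q (n + 1) ∧ ∀ i, i ≤ n → q i = p i := by
  obtain ⟨a, ha, hne⟩ : ∃ a, Γ.Adj (p n) a ∧ (n = 0 ∨ a ≠ p (n - 1)) := by
    rcases Nat.eq_zero_or_pos n with h | h
    · obtain ⟨a, ha⟩ := Γ.exists_adj (p n)
      exact ⟨a, ha, Or.inl h⟩
    · have := hp.1 (n - 1) (by omega)
      rw [show n - 1 + 1 = n by omega] at this
      obtain ⟨a, ha, h'⟩ := Γ.exists_other (Γ.symm this)
      exact ⟨a, ha, Or.inr h'⟩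
  exact ⟨_, hp.snoc ha hne, fun i hi => snoc_lt (by omega)⟩

theorem Path.A_iff {p : ℕ → V} {n : ℕ} (hp : Γ.Path p n) :
    ∀ {i : ℕ}, i ≤ n → (Γ.A (p i) ↔ (Γ.A (p 0) ↔ Even i)) := by
  intro i hi
  induction i with
  | zero => simp
  | succ i ih =>
    have h1 := Γ.A_adj (hp.1 i (by omega))
    have h2 := ih (by omega)
    rw [Nat.even_add_one]
    tauto

theorem Path.A_add {p : ℕ → V} {n : ℕ} (hp : Γ.Path p n) {i j : ℕ} (hi : i ≤ n) (hj : j ≤ n)
    (h : Even (i + j)) : Γ.A (p i) ↔ Γ.A (p j) := by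
  rw [hp.A_iff hi, hp.A_iff hj, Nat.even_add.1 h]

variable (Γ)

theorem mov_zero : Γ.Mov 0 := by
  intro p _
  obtain ⟨u, hu⟩ := Γ.exists_adj (p 0)
  obtain ⟨g, hg, hgQ⟩ := Γ.exists_swap hu
  exact ⟨g, fun i hi => by rw [show i = 0 by omega]; exact hg.1, hgQ⟩

theorem mov_one : Γ.Mov 1 := by
  intro p hp
  obtain ⟨g, hg, hgQ⟩ := Γ.exists_swap (Γ.symm (hp.1 0 Nat.one_pos))
  refine ⟨g, fun i hi => ?_, hgQ⟩
  rcases Nat.le_one_iff_eq_zero_or_eq_one.1 hi with rfl | rfl
  · exact hg.2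
  · exact hg.1

/-- If `Mov j` for all `j < k`, paths of length `k` starting in the same class are conjugate. -/
theorem uniform : ∀ {k : ℕ}, (∀ j, j < k → Γ.Mov j) → ∀ {p q : ℕ → V}, Γ.Path p k → Γ.Path q k →
    (Γ.A (p 0) ↔ Γ.A (q 0)) → ∃ g : X, ∀ i, i ≤ k → g • p i = q i
  | 0, _, p, q, _, _, hA => by
    obtain ⟨g, hg⟩ := Γ.exists_smul hA
    exact ⟨g, fun i hi => by rw [show i = 0 by omega]; exact hg⟩
  | k + 1, hM, p, q, hp, hq, hA => by
    obtain ⟨g, hg⟩ := uniform (fun j hj => hM j (by omega)) (hp.mono k.le_succ) (hq.mono k.le_succ) hA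
    have ha : Γ.Adj (q k) (g • p (k + 1)) := hg k le_rfl ▸ Γ.smul g (hp.1 k (by omega))
    have hb : Γ.Adj (q k) (q (k + 1)) := hq.1 k (by omega)
    by_cases he : g • p (k + 1) = q (k + 1)
    · exact ⟨g, fun i hi => (Nat.lt_or_eq_of_le hi).elim (fun h => hg i (by omega)) fun h => h ▸ he⟩
    suffices ∃ h : X, (∀ i, i ≤ k → h • q i = q i) ∧ h • g • p (k + 1) = q (k + 1) by
      obtain ⟨h, h1, h2⟩ := this
      refine ⟨h * g, fun i hi => ?_⟩
      rw [mul_smul]
      rcases Nat.lt_or_eq_of_le hi with hi' | rfl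
      · rw [hg i (by omega), h1 i (by omega)]
      · exact h2
    cases k with
    | zero =>
      obtain ⟨h, h1, h2⟩ := Γ.trans_nbr ha hb
      exact ⟨h, fun i hi => by rw [show i = 0 by omega]; exact h1, h2⟩
    | succ k =>
      obtain ⟨h, h1, h2⟩ := hM (k + 1) (by omega) q (hq.mono (by omega))
      refine ⟨h, h1, ?_⟩
      have hprev : Γ.Adj (q (k + 1)) (q k) := Γ.symm (hq.1 k (by omega))
      refine Γ.swap_eq ⟨h1 _ le_rfl, h1 k (by omega)⟩ h2 hprev ha ?_ hb (hq.2 k (by omega)) (Ne.symm he)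
      rw [← hg k (by omega)]
      exact fun e => hp.2 k (by omega) (MulAction.injective g e)

theorem exists_rule {k : ℕ} (hM : ∀ j, j < k → Γ.Mov j) (h : ¬ Γ.Mov k) :
    ∃ p, Γ.Path p k ∧ Γ.Rule k (Γ.A (p 0)) := by
  simp only [Mov, not_forall, not_exists, not_and, not_not] at h
  obtain ⟨p, hp, hfail⟩ := h
  refine ⟨p, hp, fun q hq hA g hg => ?_⟩
  obtain ⟨c, hc⟩ := Γ.uniform hM hq hp hA
  rw [← Γ.conj_mem_Q_iff (h := c), hc k le_rfl]
  refine hfail _ fun i hi => ?_
  rw [← hc i hi, mul_smul, inv_smul_smul, mul_smul, hg i hi]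

variable {Γ}

theorem Rule.long {k : ℕ} {τ : Prop} (h : Γ.Rule k τ) {q : ℕ → V} {n : ℕ} (hq : Γ.Path q n)
    (hk : k ≤ n) (hA : Γ.A (q (n - k)) ↔ τ) {g : X} (hg : Γ.Fixes g q n) : g ∈ Γ.Q (q n) := by
  have := h _ (hq.shift (j := n - k) (m := k) (by omega)) hA g fun i hi => hg _ (by omega)
  simp only [show n - k + k = n by omega] at this
  exact this

variable (Γ)

/-- The least failure of transitivity on paths cannot have even length. -/
theorem eq_one_of_even_failure {k : ℕ} (hk : Even k) (h2 : 2 ≤ k) (hM : ∀ j, j < k → Γ.Mov j)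
    {τ : Prop} (hR : Γ.Rule k τ) {w : ℕ → V} (hw : Γ.Path w k) (hA : Γ.A (w 0) ↔ τ) {g : X}
    (hg : Γ.Fixes g w k) : g = 1 := by
  have stepA : ∀ q, Γ.Path q (k + 1) → (Γ.A (q 0) ↔ τ) →
      (Γ.Fixes g q k ↔ ∀ i, 1 ≤ i → i ≤ k + 1 → g • q i = q i) := by
    intro q hq hqA
    constructor
    · intro hf i _ hi
      rcases Nat.lt_or_eq_of_le hi with h | rfl
      · exact hf i (by omega)
      · exact (hR q (hq.mono (by omega)) hqA g hf).2 _ (hq.1 k (by omega))
    · intro hf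
      have h0 : g • q 0 = q 0 := by
        by_contra hne
        obtain ⟨h, hh, hhQ⟩ := hM (k - 1) (by omega) _ (hq.shift (j := 1) (m := k - 1) (by omega))
        simp only [show 1 + (k - 1) = k by omega] at hhQ
        have hh' : ∀ i, 1 ≤ i → i ≤ k → h • q i = q i := fun i h1 hi => by
          have : h • q (1 + (i - 1)) = q (1 + (i - 1)) := hh (i - 1) (by omega)
          rwa [show 1 + (i - 1) = i by omega] at this
        have ext : ∀ x : X, (∀ i, 1 ≤ i → i ≤ k → x • q i = q i) → x • q 0 = q 0 → x ∈ Γ.Q (q k) :=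
          fun x hx hx0 => hR q (hq.mono (by omega)) hqA x fun i hi => by
            cases i with
            | zero => exact hx0
            | succ i => exact hx _ (by omega) hi
        have hh0 : h • q 0 ≠ q 0 := fun e => hhQ (ext h hh' e)
        have h12 : Γ.Adj (q 1) (q 2) := hq.1 1 (by omega)
        have h10 : Γ.Adj (q 1) (q 0) := Γ.symm (hq.1 0 (by omega))
        have hgh : g * h ∈ Γ.Q (q 1) := Γ.mul_mem_Q h12
          ⟨hf 1 le_rfl (by omega), hf 2 (by omega) (by omega)⟩ (fun e => hne (e.2 _ h10))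
          ⟨hh' 1 le_rfl (by omega), hh' 2 (by omega) (by omega)⟩ (fun e => hh0 (e.2 _ h10))
        have h3 : g * h ∈ Γ.Q (q k) := ext _ (fun i h1 hi => by
          rw [mul_smul, hh' i h1 hi, hf i h1 (by omega)]) (hgh.2 _ h10)
        have hgQ : g ∈ Γ.Q (q k) := by
          have ha : Γ.Adj (q k) (q (k - 1)) := by
            have := hq.1 (k - 1) (by omega)
            rw [show k - 1 + 1 = k by omega] at this
            exact Γ.symm this
          refine Γ.mem_Q_of_fix_two (hf k (by omega) (by omega)) ha (hq.1 k (by omega)) ?_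
            (hf _ (by omega) (by omega)) (hf _ (by omega) le_rfl)
          have := hq.2 (k - 1) (by omega)
          rw [show k - 1 + 2 = k + 1 by omega] at this
          exact this.symm
        exact hhQ (by simpa using mul_mem (inv_mem hgQ) h3)
      intro i hi
      cases i with
      | zero => exact h0
      | succ i => exact hf _ (by omega) (by omega)
  have stepB : ∀ q, Γ.Path q (k + 2) → (Γ.A (q 0) ↔ τ) →
      (Γ.Fixes g q k ↔ Γ.Fixes g (fun i => q (2 + i)) k) := by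
    intro q hq hqA
    rw [stepA q (hq.mono (by omega)) hqA]
    have hr : Γ.Path (fun i => q (k + 2 - i)) (k + 1) := (hq.rev).mono (by omega)
    have hrA : Γ.A (q (k + 2 - 0)) ↔ τ := by
      rw [Nat.sub_zero, hq.A_add le_rfl (Nat.zero_le _) (by simpa [Nat.even_add] using hk), hqA]
    have e := stepA _ hr hrA
    constructor
    · intro hf i hi
      have := e.2 (fun j h1 hj => hf _ (by omega) (by omega)) (k - i) (by omega)
      simpa [show k + 2 - (k - i) = 2 + i by omega] using this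
    · intro hf i h1 hi
      have := e.1 (fun j hj => by
        have := hf (k - j) (by omega)
        simpa [show 2 + (k - j) = k + 2 - j by omega] using this) (k + 2 - i) (by omega) (by omega)
      simpa [show k + 2 - (k + 2 - i) = i by omega] using this
  have fwd : ∀ q, Γ.Path q k → (Γ.A (q 0) ↔ τ) → Γ.Fixes g q k →
      ∃ r, Γ.Path r k ∧ (Γ.A (r 0) ↔ τ) ∧ Γ.Fixes g r k ∧ r 0 = q 2 ∧ (3 ≤ k → r 1 = q 3) ∧
        r 1 ≠ q 1 := by
    intro q hq hqA hf
    obtain ⟨q', hq', he'⟩ := hq.exists_ext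
    obtain ⟨q'', hq'', he''⟩ := hq'.exists_ext
    have he : ∀ i, i ≤ k → q'' i = q i := fun i hi => by rw [he'' i (by omega), he' i hi]
    have h := (stepB q'' hq'' (by rwa [he 0 (Nat.zero_le _)])).1 fun i hi => by rw [he i hi]; exact hf i hi
    refine ⟨_, hq''.shift (j := 2) (m := k) (by omega), ?_, h, he 2 h2, fun h3 => he 3 h3, ?_⟩
    · show Γ.A (q'' 2) ↔ τ
      rw [hq''.A_add (i := 2) (j := 0) (by omega) (Nat.zero_le _) (by decide), he 0 (Nat.zero_le _), hqA]
    · show q'' 3 ≠ q 1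
      rw [← he 1 (by omega)]
      exact hq''.2 1 (by omega)
  have back : ∀ q, Γ.Path q k → (Γ.A (q 0) ↔ τ) → Γ.Fixes g q k → ∀ a c, Γ.Adj a (q 0) →
      Γ.Adj c a → q 1 ≠ a → q 0 ≠ c →
      ∃ r, Γ.Path r k ∧ (Γ.A (r 0) ↔ τ) ∧ Γ.Fixes g r k ∧ r 0 = c ∧ r 1 = a := by
    intro q hq hqA hf a c ha hc h1 h0
    have hp : Γ.Path (cons c (cons a q)) (k + 2) := (hq.cons ha (Or.inr h1)).cons hc (Or.inr h0)
    have hpA : Γ.A c ↔ τ := by
      have h1 := Γ.A_adj hc
      have h2 := Γ.A_adj ha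
      tauto
    refine ⟨_, hp.mono (by omega), hpA, (stepB _ hp hpA).2 ?_, rfl, rfl⟩
    intro i hi
    show g • cons c (cons a q) (2 + i) = cons c (cons a q) (2 + i)
    rw [show 2 + i = i + 2 by omega]
    exact hf i hi
  refine Γ.faithful g fun x => ?_
  suffices ∃ q, Γ.Path q k ∧ (Γ.A (q 0) ↔ τ) ∧ Γ.Fixes g q k ∧ (q 0 = x ∨ q 1 = x) by
    obtain ⟨q, -, -, hf, rfl | rfl⟩ := this
    exacts [hf 0 (Nat.zero_le _), hf 1 (by omega)]
  induction Γ.conn (w 0) x with
  | refl => exact ⟨w, hw, hA, hg, Or.inl rfl⟩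
  | @tail x y _ hxy ih =>
    obtain ⟨q, hq, hqA, hf, hx | hx⟩ := ih
    · subst hx
      by_cases hy : y = q 1
      · exact ⟨q, hq, hqA, hf, Or.inr hy.symm⟩
      obtain ⟨c, hc, hcx⟩ := Γ.exists_other (Γ.symm hxy)
      obtain ⟨r, hr, hrA, hrf, -, hr1⟩ :=
        back q hq hqA hf y c (Γ.symm hxy) (Γ.symm hc) (Ne.symm hy) (Ne.symm hcx)
      exact ⟨r, hr, hrA, hrf, Or.inr hr1⟩
    · subst hx
      by_cases hy : y = q 0
      · exact ⟨q, hq, hqA, hf, Or.inl hy.symm⟩
      obtain ⟨r, hr, hrA, hrf, hr0, -, hr1⟩ := fwd q hq hqA hf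
      by_cases hy2 : y = q 2
      · exact ⟨r, hr, hrA, hrf, Or.inl (hr0.trans hy2.symm)⟩
      have hadj : Γ.Adj (q 1) (r 0) := hr0 ▸ hq.1 1 (by omega)
      obtain ⟨r', hr', hrA', hrf', hr'0, -⟩ := back r hr hrA hrf (q 1) y hadj (Γ.symm hxy) hr1
        (fun e => hy2 (e.symm.trans hr0))
      exact ⟨r', hr', hrA', hrf', Or.inl hr'0⟩

/-- A first failure below the length of a nontrivially fixed path has odd length. -/
theorem odd_failure {k : ℕ} (hM : ∀ j, j < k → Γ.Mov j) (h : ¬ Γ.Mov k) {p : ℕ → V} {n : ℕ}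
    (hp : Γ.Path p n) (hkn : k + 1 ≤ n) {g : X} (hg : Γ.Fixes g p n) (hg1 : g ≠ 1) :
    Odd k ∧ 3 ≤ k := by
  have h0 : k ≠ 0 := fun e => h (e ▸ Γ.mov_zero)
  have h1 : k ≠ 1 := fun e => h (e ▸ Γ.mov_one)
  rcases Nat.even_or_odd k with he | ho
  · exfalso
    obtain ⟨q, -, hR⟩ := Γ.exists_rule hM h
    by_cases hA : Γ.A (p 0) ↔ Γ.A (q 0)
    · exact hg1 (Γ.eq_one_of_even_failure he (by omega) hM hR (hp.mono (by omega)) hA
        fun i hi => hg i (by omega))
    · refine hg1 (Γ.eq_one_of_even_failure he (by omega) hM hR (hp.shift (j := 1) (m := k) (by omega))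
        ?_ fun i hi => hg _ (by omega))
      have := Γ.A_adj (hp.1 0 (by omega))
      show Γ.A (p (1 + 0)) ↔ _
      tauto
  · refine ⟨ho, ?_⟩
    obtain ⟨m, hm⟩ := ho
    omega

end Base

end Cfsg.Agent.Lib.Goldschmidt33
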