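import Cfsg.Agent.Lib.Goldschmidt33.Zed

/-!
# Critical paths; critical distance at most two

Owner: helper54.
-/

set_option autoImplicit false
set_option linter.style.haveILetI false

namespace Cfsg.Agent.Lib.Goldschmidt33

universe u v

variable {X : Type u} {V : Type v} [Group X] [MulAction X V]

namespace Base

variable (Γ : Base X V)

theorem card_E_smul (g : X) (v u : V) :
    Nat.card ↥(Γ.E (g • v) (g • u)) = Nat.card ↥(Γ.E v u) := by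
  refine Nat.card_congr ⟨fun x => ⟨g⁻¹ * x * g, ?_, ?_⟩, fun x => ⟨g * x * g⁻¹, Γ.conj_mem_E x.2 g⟩,
    fun x => Subtype.ext (by group), fun x => Subtype.ext (by group)⟩
  · show (g⁻¹ * (x : X) * g) • v = v
    rw [mul_smul, mul_smul, x.2.1, inv_smul_smul]
  · show (g⁻¹ * (x : X) * g) • u = u
    rw [mul_smul, mul_smul, x.2.2, inv_smul_smul]

theorem card_E_eq {v u v' u' : V} (h : Γ.Adj v u) (h' : Γ.Adj v' u') (hA : Γ.A v ↔ Γ.A v') :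
    Nat.card ↥(Γ.E v' u') = Nat.card ↥(Γ.E v u) := by
  obtain ⟨g, hg, hg'⟩ := Γ.exists_smul_edge h h' hA
  rw [← hg, ← hg', Γ.card_E_smul]

/-- A subgroup fixing the neighbours of `u` and those of one of them has index at most 4 over
those fixing all neighbours' neighbours. -/
theorem card_le_four_mul {v u : V} (h : Γ.Adj u v) {K : Subgroup X} (hu : K ≤ Γ.Q u) (hv : K ≤ Γ.Q v) :
    Nat.card ↥K ≤ 4 * Nat.card ↥(K ⊓ Γ.C u) := by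
  obtain ⟨x, y, hx, hy, hxv, hyv, hxy, -⟩ := Γ.three h
  haveI := Γ.finite_Q u
  haveI : Finite ↥K := Finite.of_injective _ (Subgroup.inclusion_injective hu)
  haveI : Finite ↥(K ⊓ Γ.C u) :=
    Finite.of_injective _ (Subgroup.inclusion_injective (inf_le_left : K ⊓ Γ.C u ≤ K))
  have hxE : K ≤ Γ.E x u := fun k hk => by rw [Γ.E_comm]; exact Γ.Q_le_E hx (hu hk)
  have hyE : K ⊓ Γ.Q x ≤ Γ.E y u := fun k hk => by rw [Γ.E_comm]; exact Γ.Q_le_E hy (hu hk.1)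
  have h1 := Γ.card_inf_Q (Γ.symm hx) hxE
  have h2 := Γ.card_inf_Q (Γ.symm hy) hyE
  have h3 : Nat.card ↥(K ⊓ Γ.Q x ⊓ Γ.Q y) ≤ Nat.card ↥(K ⊓ Γ.C u) :=
    Subgroup.card_le_of_le fun k hk => ⟨hk.1.1, hu hk.1.1, fun w hw => by
      rcases Γ.cases3 h hx hy (Ne.symm hxv) (Ne.symm hyv) hxy hw with rfl | rfl | rfl
      exacts [hv hk.1.1, hk.1.2, hk.2]⟩
  omega

theorem card_Q_le_eight_mul {v u : V} (h : Γ.Adj u v) :
    Nat.card ↥(Γ.Q u) ≤ 8 * Nat.card ↥(Γ.C u) := by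
  have h0 : Γ.Q u ≤ Γ.E v u := fun k hk => by rw [Γ.E_comm]; exact Γ.Q_le_E h hk
  have h1 := Γ.card_inf_Q (Γ.symm h) h0
  have h2 := Γ.card_le_four_mul h (K := Γ.Q u ⊓ Γ.Q v) inf_le_left inf_le_right
  haveI := Γ.finite_Q u
  haveI : Finite ↥(Γ.C u) := Finite.of_injective _ (Subgroup.inclusion_injective (fun g hg => hg.1 : Γ.C u ≤ Γ.Q u))
  have h3 : Nat.card ↥(Γ.Q u ⊓ Γ.Q v ⊓ Γ.C u) ≤ Nat.card ↥(Γ.C u) :=
    Subgroup.card_le_of_le inf_le_right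
  omega

end Base

namespace Amalgam

variable {Γ : Amalgam X V} [Nonempty V]

theorem Crit.path {p : ℕ → V} (hp : Γ.Crit p) : Γ.Path p Γ.b := hp.1

theorem Crit.smul {p : ℕ → V} (hp : Γ.Crit p) (g : X) : Γ.Crit (fun i => g • p i) :=
  ⟨hp.1.smul g, (Γ.A_smul g _).2 hp.2.1, fun hle => hp.2.2 fun _ hz =>
    Γ.conj_mem_Q_iff.1 (hle (Γ.conj_mem_Z hz g))⟩

theorem Crit.congr {p q : ℕ → V} (hp : Γ.Crit p) (h : ∀ i, i ≤ Γ.b → q i = p i) : Γ.Crit q :=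
  ⟨hp.1.congr h, by rw [h 0 (Nat.zero_le _)]; exact hp.2.1,
    by rw [h 0 (Nat.zero_le _), h Γ.b le_rfl]; exact hp.2.2⟩

theorem crit_of_mov (hM : ∀ j, j < Γ.b → Γ.Mov j) {q : ℕ → V} (hq : Γ.Path q Γ.b) (hA : Γ.A (q 0)) :
    Γ.Crit q := by
  obtain ⟨p, hp⟩ := Γ.exists_crit
  obtain ⟨g, hg⟩ := Γ.uniform hM hp.1 hq (iff_of_true hp.2.1 hA)
  exact (hp.smul g).congr fun i hi => (hg i hi).symm

theorem fix_path {p : ℕ → V} {n : ℕ} (hp : Γ.Path p n) {i j : ℕ} (hi : i ≤ n) (hj : j ≤ n)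
    (hA : Γ.A (p i)) (h₁ : j - i ≤ Γ.b) (h₂ : i - j ≤ Γ.b) : ∀ z ∈ Γ.Z (p i), z • p j = p j :=
  Γ.fix_of_near hA (hp.near_le hi hj h₁ h₂) le_rfl

theorem path_le_Q {p : ℕ → V} {n : ℕ} (hp : Γ.Path p n) {i j : ℕ} (hi : i ≤ n) (hj : j ≤ n)
    (hA : Γ.A (p i)) (h₁ : j - i < Γ.b) (h₂ : i - j < Γ.b) : Γ.Z (p i) ≤ Γ.Q (p j) :=
  Γ.le_Q hA (hp.near_le hi hj (d := Γ.b - 1) (by omega) (by omega)) (by omega)

theorem path_comm {p : ℕ → V} {n : ℕ} (hp : Γ.Path p n) {i j : ℕ} (hi : i ≤ n) (hj : j ≤ n)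
    (hA : Γ.A (p i)) (h₁ : j - i < Γ.b) (h₂ : i - j < Γ.b) {x y : X} (hx : x ∈ Γ.Z (p i))
    (hy : y ∈ Γ.Z (p j)) : x * y = y * x :=
  Γ.Q_comm_Z (path_le_Q hp hi hj hA h₁ h₂ hx) hy

theorem card_le_of_b_one (hb : Γ.b = 1) {v u : V} (hvu : Γ.Adj v u) (hv : Γ.A v) :
    Nat.card ↥(Γ.E v u) ≤ 128 := by
  obtain ⟨p, hp⟩ := Γ.exists_crit
  have hp01 : Γ.Adj (p 0) (p 1) := hp.1.1 0 (by omega)
  have hnot : ∀ {a c : V}, Γ.Adj a c → Γ.A a → ¬ Γ.Z a ≤ Γ.Q c := by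
    intro a c hac ha
    obtain ⟨g, hg, hg'⟩ := Γ.exists_smul_edge hp01 hac (iff_of_true hp.2.1 ha)
    have := (hp.smul g).2.2
    simp only [hb, hg, hg'] at this
    exact this
  have hC : ∀ {w : V}, Γ.Adj v w → ∀ {K : Subgroup X}, K ≤ Γ.Q v →
      Nat.card ↥K ≤ 4 * Nat.card ↥(K ⊓ Γ.C w) := by
    intro w hw K hK
    obtain ⟨x, y, hx, hy, hxv, hyv, hxy, -⟩ := Γ.three (Γ.symm hw)
    obtain ⟨t, ht, htQ⟩ := SetLike.not_le_iff_exists.1 (hnot hw hv)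
    have htE : t ∈ Γ.E w v := by rw [Γ.E_comm]; exact Γ.Q_le_E hw (Γ.Z_le_Q v ht)
    have htx : t • x = y := Γ.swap_eq htE htQ (Γ.symm hw) hx hxv hy hyv (Ne.symm hxy)
    haveI := Γ.finite_Q v
    haveI : Finite ↥K := Finite.of_injective _ (Subgroup.inclusion_injective hK)
    haveI : Finite ↥(K ⊓ Γ.C w) :=
      Finite.of_injective _ (Subgroup.inclusion_injective (inf_le_left : K ⊓ Γ.C w ≤ K))
    have h1E : K ≤ Γ.E w v := fun k hk => by rw [Γ.E_comm]; exact Γ.Q_le_E hw (hK hk)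
    have h2E : K ⊓ Γ.Q w ≤ Γ.E x w := fun k hk => by rw [Γ.E_comm]; exact Γ.Q_le_E hx hk.2
    have h1 := Γ.card_inf_Q (Γ.symm hw) h1E
    have h2 := Γ.card_inf_Q (Γ.symm hx) h2E
    have h3 : Nat.card ↥(K ⊓ Γ.Q w ⊓ Γ.Q x) ≤ Nat.card ↥(K ⊓ Γ.C w) :=
      Subgroup.card_le_of_le fun k hk => ⟨hk.1.1, hk.1.2, fun z hz => by
        rcases Γ.cases3 (Γ.symm hw) hx hy (Ne.symm hxv) (Ne.symm hyv) hxy hz with rfl | rfl | rfl
        · exact hK hk.1.1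
        · exact hk.2
        · have := Γ.conj_mem_Q hk.2 t
          rwa [← Γ.Q_comm_Z (hK hk.1.1) ht, mul_inv_cancel_right, htx] at this⟩
    omega
  obtain ⟨a, c, ha, hc, hau, hcu, hac, -⟩ := Γ.three hvu
  have hR : Γ.Q v ⊓ Γ.C u ⊓ Γ.C a ⊓ Γ.C c = ⊥ := by
    obtain ⟨x, hx, hxv⟩ := Γ.exists_other (Γ.symm hvu)
    have hxA : Γ.A x := Γ.A_of_adj hx (Γ.not_A hvu hv)
    obtain ⟨t, ht, htQ⟩ := SetLike.not_le_iff_exists.1 (hnot (Γ.symm hx) hxA)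
    have htE : t ∈ Γ.E u x := by rw [Γ.E_comm]; exact Γ.Q_le_E (Γ.symm hx) (Γ.Z_le_Q x ht)
    refine Γ.eq_bot_of_mover hvu (fun k hk => Γ.Q_le_E hvu hk.1.1.1) ?_ htE.1
      (Γ.smul_ne htE htQ hx (Γ.symm hvu) (Ne.symm hxv)).1 fun k hk => ?_
    · intro g hg k hk
      have hall : ∀ w, Γ.Adj v w → k ∈ Γ.C w := fun w hw => by
        rcases Γ.cases3 hvu ha hc (Ne.symm hau) (Ne.symm hcu) hac hw with rfl | rfl | rfl
        exacts [hk.1.1.2, hk.1.2, hk.2]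
      have hC' : ∀ w, Γ.Adj v w → g * k * g⁻¹ ∈ Γ.C w := fun w hw => by
        have hw' : Γ.Adj v (g⁻¹ • w) := Γ.adj_fix (inv_smul_eq_iff.2 hg.symm) hw
        have := Γ.conj_mem_C (hall _ hw') g
        rwa [smul_inv_smul] at this
      exact ⟨⟨⟨Γ.conj_mem_Q' hg hk.1.1.1, hC' u hvu⟩, hC' a ha⟩, hC' c hc⟩
    · rwa [← Γ.Q_comm_Z (Γ.C_le_Q hx hk.1.1.2) ht, mul_inv_cancel_right]
  have e1 := hC hvu (K := Γ.Q v) le_rfl
  have e2 := hC ha (K := Γ.Q v ⊓ Γ.C u) inf_le_left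
  have e3 := hC hc (K := Γ.Q v ⊓ Γ.C u ⊓ Γ.C a) (inf_le_left.trans inf_le_left)
  rw [hR, Subgroup.card_bot] at e3
  have := Γ.card_E hvu
  omega

theorem card_le_of_b_two (hb : Γ.b = 2) {v u : V} (hvu : Γ.Adj v u) (hv : Γ.A v) :
    Nat.card ↥(Γ.E v u) ≤ 128 := by
  have hM : ∀ j, j < Γ.b → Γ.Mov j := fun j hj => by
    rcases (show j = 0 ∨ j = 1 by omega) with rfl | rfl
    exacts [Γ.mov_zero, Γ.mov_one]
  obtain ⟨x, hx, hxv⟩ := Γ.exists_other (Γ.symm hvu)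
  have hxA : Γ.A x := Γ.A_of_adj hx (Γ.not_A hvu hv)
  obtain ⟨a, c, ha, hc, hau, hcu, hac, -⟩ := Γ.three hvu
  have hq : Γ.Path (cons x (cons u (fun _ => v))) 2 := by
    refine ((?_ : Γ.Path (fun _ => v) 0).cons (a := u) (Γ.symm hvu) (Or.inl rfl)).cons (a := x)
      (Γ.symm hx) (Or.inr (Ne.symm hxv))
    exact ⟨fun i hi => absurd hi (by omega), fun i hi => absurd hi (by omega)⟩
  have hcrit := crit_of_mov hM (q := cons x (cons u (fun _ => v))) (by rw [hb]; exact hq) hxA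
  obtain ⟨t, ht, htQ⟩ := SetLike.not_le_iff_exists.1 hcrit.2.2
  simp only [hb] at htQ
  change t ∉ Γ.Q v at htQ
  change t ∈ Γ.Z x at ht
  have htu : t ∈ Γ.Q u := Γ.le_Q hxA (Base.Near.adj (Γ.symm hx)) (by omega) ht
  have htE : t ∈ Γ.E v u := by rw [Γ.E_comm]; exact Γ.Q_le_E (Γ.symm hvu) htu
  have htac : t • a = c := Γ.swap_eq htE htQ hvu ha hau hc hcu (Ne.symm hac)
  have hcomm : ∀ k ∈ Γ.C u, t * k = k * t := fun k hk => (Γ.Q_comm_Z (Γ.C_le_Q hx hk) ht).symm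
  have hR : Γ.C u ⊓ Γ.C a = ⊥ := by
    by_contra hne
    have hall : ∀ k ∈ Γ.C u ⊓ Γ.C a, ∀ w, Γ.Adj v w → k ∈ Γ.C w := fun k hk w hw => by
      rcases Γ.cases3 hvu ha hc (Ne.symm hau) (Ne.symm hcu) hac hw with rfl | rfl | rfl
      · exact hk.1
      · exact hk.2
      · have := Γ.conj_mem_C hk.2 t
        rwa [hcomm k hk.1, mul_inv_cancel_right, htac] at this
    obtain ⟨z, hz, hz1, hz2, hzc⟩ := Γ.exists_central ha (K := Γ.C u ⊓ Γ.C a)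
      (fun k hk => Γ.Q_le_E ha (Γ.C_le_Q (Γ.symm ha) hk.2)) hne fun g hg k hk => by
        have hC' : ∀ w, Γ.Adj v w → g * k * g⁻¹ ∈ Γ.C w := fun w hw => by
          have := Γ.conj_mem_C (hall k hk _ (Γ.adj_fix (inv_smul_eq_iff.2 hg.1.symm) hw)) g
          rwa [smul_inv_smul] at this
        exact ⟨hC' u hvu, hC' a ha⟩
    have hzO : z ∈ Γ.Om a := by
      have hzE : z ∈ Γ.E v a := Γ.Q_le_E ha (Γ.C_le_Q (Γ.symm ha) hz.2)
      exact ⟨hzE.2, hz2, Γ.omega ha hv z hzE hz2 hzc⟩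
    exact hz1 (Γ.om_eq_one ha hzO htE.1 (by rw [htac]; exact Ne.symm hac) (hcomm z hz.1))
  have e1 : Nat.card ↥(Γ.C u) ≤ 8 := by
    have h1E : Γ.C u ≤ Γ.E a v := fun k hk => by
      rw [Γ.E_comm]; exact Γ.Q_le_E ha (Γ.C_le_Q (Γ.symm hvu) hk)
    have h1 := Γ.card_inf_Q (Γ.symm ha) h1E
    have h2 := Γ.card_le_four_mul (Γ.symm ha) (K := Γ.C u ⊓ Γ.Q a) inf_le_right
      (inf_le_left.trans (Γ.C_le_Q (Γ.symm hvu)))
    have h3 : Nat.card ↥(Γ.C u ⊓ Γ.Q a ⊓ Γ.C a) ≤ 1 := by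
      rw [← Subgroup.card_bot (G := X), ← hR]
      haveI := Γ.finite_Q u
      haveI : Finite ↥(Γ.C u ⊓ Γ.C a) :=
        Finite.of_injective _ (Subgroup.inclusion_injective (fun g hg => hg.1.1 : Γ.C u ⊓ Γ.C a ≤ Γ.Q u))
      exact Subgroup.card_le_of_le (fun k hk => ⟨hk.1.1, hk.2⟩)
    omega
  have e2 := Γ.card_Q_le_eight_mul (Γ.symm hvu)
  have e3 := Γ.card_E (Γ.symm hvu)
  rw [Γ.E_comm u v] at e3
  omega

end Amalgam

end Cfsg.Agent.Lib.Goldschmidt33
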