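import Cfsg.Agent.Lib.Goldschmidt33.NoLong

/-!
# Critical distance three: edge stabilizers have order at most 128

Owner: helper54.
-/

set_option autoImplicit false
set_option linter.style.haveILetI false
set_option linter.unusedSectionVars false

namespace Cfsg.Agent.Lib.Goldschmidt33

universe u v

variable {X : Type u} {V : Type v} [Group X] [MulAction X V]

namespace Amalgam

variable {Γ : Amalgam X V} [Nonempty V]

/-- The elements of the stabilizer of `v` centralizing every `zz y` with `y` within distance `n`. -/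
def Fix (Γ : Amalgam X V) (n : ℕ) (v : V) : Subgroup X where
  carrier := {g | g • v = v ∧ ∀ y, ¬ Γ.A y → Γ.Near n v y → Commute g (Γ.zz y)}
  one_mem' := ⟨one_smul _ _, fun _ _ _ => Commute.one_left _⟩
  mul_mem' := fun ha hb => ⟨by rw [mul_smul, hb.1, ha.1],
    fun y hy hn => (ha.2 y hy hn).mul_left (hb.2 y hy hn)⟩
  inv_mem' := fun ha => ⟨inv_smul_eq_iff.2 ha.1.symm, fun y hy hn => (ha.2 y hy hn).inv_left⟩

theorem conj_mem_Fix (hb : Γ.OddB) {n : ℕ} {v : V} {r : X} (hr : r ∈ Γ.Fix n v) (g : X) :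
    g * r * g⁻¹ ∈ Γ.Fix n (g • v) := by
  refine ⟨by rw [mul_smul, inv_smul_smul, mul_smul, hr.1], fun y hy hn => ?_⟩
  have hy' : ¬ Γ.A (g⁻¹ • y) := fun h => hy ((Γ.A_smul _ _).1 h)
  have := hr.2 _ hy' (by simpa using Base.Near.smul g⁻¹ hn)
  have e : Γ.zz y = g * Γ.zz (g⁻¹ • y) * g⁻¹ := by rw [zz_conj hb g hy', smul_inv_smul]
  rw [e]
  exact Commute.conj_iff g |>.2 this

theorem mov_three (h3 : Γ.b = 3) (hb : Γ.OddB) : ∀ j, j < Γ.b → Γ.Mov j :=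
  (dichotomy hb).resolve_right fun ⟨k, _, hk3, hkb, _, _⟩ => by omega

theorem chain_of_path (h3 : Γ.b = 3) (hb : Γ.OddB) {s : ℕ → V} (hs : Γ.Path s 6) (h0 : ¬ Γ.A (s 0)) :
    Γ.Chain s := by
  refine ⟨by rw [h3]; exact hs, crit_of_mov (mov_three h3 hb) ?_ (Γ.A_of_adj (hs.1 0 (by omega)) h0)⟩
  rw [h3]
  exact (hs.shift (j := 1) (m := 3) (by omega)).congr fun i _ => congrArg s (Nat.add_comm i 1)

theorem exists_chain_nbrs (h3 : Γ.b = 3) (hb : Γ.OddB) {v x y : V} (hx : Γ.Adj v x) (hy : Γ.Adj v y)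
    (hv : ¬ Γ.A v) (hxy : x ≠ y) : ∃ s, Γ.Chain s ∧ s 1 = x ∧ s 2 = v ∧ s 3 = y := by
  have h0 : Γ.Path (fun _ => y) 0 :=
    ⟨fun i hi => absurd hi (by omega), fun i hi => absurd hi (by omega)⟩
  obtain ⟨p, hp, hpe⟩ :=
    ((h0.cons hy (Or.inl rfl)).cons (Γ.symm hx) (Or.inr (Ne.symm hxy))).exists_ext
  have hA : Γ.A (p 0) := by rw [hpe 0 (Nat.zero_le _)]; exact Γ.A_of_adj hx hv
  obtain ⟨q, hq, hqp⟩ := exists_chain hb (crit_of_mov (mov_three h3 hb) (q := p) (h3 ▸ hp) hA)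
  exact ⟨q, hq, by rw [hqp 0 (by omega), hpe 0 (by omega)]; rfl,
    by rw [hqp 1 (by omega), hpe 1 (by omega)]; rfl, by rw [hqp 2 (by omega), hpe 2 (by omega)]; rfl⟩

theorem Chain.w_eq_prod (h3 : Γ.b = 3) (hb : Γ.OddB) {q : ℕ → V} (hq : Γ.Chain q) :
    Γ.w q = Γ.zz (q 2) * Γ.zz (q 4) := by
  have hc : Γ.zz (q 2) * Γ.zz (q 4) = Γ.zz (q 4) * Γ.zz (q 2) :=
    Γ.Z_comm (v := q 3) (Γ.zz_mem_Z (Γ.symm (hq.1.1 2 (by omega)))) (Γ.zz_mem_Z (hq.1.1 3 (by omega)))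
  have h := Chain.mid hb (Chain.rev hb hq)
  rw [Chain.w_rev hb hq] at h
  simp only [h3] at h
  rcases h with h | h
  · exact absurd h (Chain.w_ne_z hb hq)
  · rw [hc]; exact h

theorem Chain.parity (h3 : Γ.b = 3) (hb : Γ.OddB) {q : ℕ → V} (hq : Γ.Chain q) {g : X}
    (hg : g ∈ Γ.Q (q 2)) :
    (g ∈ Γ.Q (q 1) ↔ g ∈ Γ.Q (Γ.zz (q (Γ.b + 3)) • q 1)) ↔ g ∈ Γ.Q (q 3) := by
  have hA3 : Γ.A (q 3) := by rw [Chain.A_iff hb hq (by omega)]; decide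
  have h32 : Γ.Adj (q 3) (q 2) := Γ.symm (hq.1.1 2 (by omega))
  have k := zz_conj_mem hb hA3 (hq.1.1 3 (by omega)) h32 (hq.1.2 2 (by omega)) (g := g)
    ⟨hg.2 _ (Γ.symm h32), hg.1⟩
  have hz2 : g * Γ.zz (q 2) * g⁻¹ = Γ.zz (q 2) := by
    rw [(Γ.zz_mem (q 2)).2.2 g hg.1, mul_inv_cancel_right]
  have hw : g * Γ.w q * g⁻¹ = Γ.zz (q 2) * (g * Γ.zz (q 4) * g⁻¹) := by
    rw [Chain.w_eq_prod h3 hb hq]
    conv_rhs => rw [← hz2]
    group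
  have hz1 := Γ.zz_ne_one (Γ.not_A h32 hA3)
  constructor
  · intro hbit
    by_contra hn
    rw [Chain.conj_start_iff hb hq hg hbit, k.2 hn, ← mul_assoc, ← Chain.w_eq_prod h3 hb hq,
      left_eq_mul] at hw
    exact hz1 hw
  · intro hin
    by_contra hbit
    rw [Chain.conj_w_of_ne hb hq hg hbit, k.1 hin, ← Chain.w_eq_prod h3 hb hq, mul_eq_left] at hw
    exact hz1 hw

theorem C_of_two (h3 : Γ.b = 3) (hb : Γ.OddB) {v x y : V} (hx : Γ.Adj v x) (hy : Γ.Adj v y)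
    (hv : ¬ Γ.A v) (hxy : x ≠ y) {g : X} (hgv : g ∈ Γ.Q v) (hgx : g ∈ Γ.Q x) (hgy : g ∈ Γ.Q y) :
    g ∈ Γ.C v := by
  obtain ⟨s, hs, e1, e2, e3⟩ := exists_chain_nbrs h3 hb hx hy hv hxy
  have hfix := Chain.end_fix hb hs (i := 2) le_rfl (by omega)
  have hne := Chain.end_moves hb hs
  have h' := Chain.parity h3 hb hs (g := g) (e2 ▸ hgv)
  have hfix3 := Chain.end_fix hb hs (i := 3) (by omega) (by omega)
  rw [e2] at hfix
  rw [e1] at hne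
  rw [e1, e3] at h'
  rw [e3] at hfix3
  refine ⟨hgv, fun w hw => ?_⟩
  have hne' : Γ.zz (s (Γ.b + 3)) • x ≠ y := fun e =>
    hxy (MulAction.injective (Γ.zz (s (Γ.b + 3))) (e.trans hfix3.symm))
  rcases Γ.cases3 hx hy (Γ.adj_fix hfix hx) hxy (Ne.symm hne) (Ne.symm hne') hw with rfl | rfl | rfl
  exacts [hgx, hgy, (h'.2 hgy).1 hgx]

theorem Chain.C_end (h3 : Γ.b = 3) (hb : Γ.OddB) {q : ℕ → V} (hq : Γ.Chain q) {c : X}
    (hc : c ∈ Γ.C (q 2)) :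
    c * Γ.zz (q (Γ.b + 3)) * c⁻¹ * Γ.zz (q (Γ.b + 3)) ∈ Γ.Z (q 3) := by
  have h23 : Γ.Adj (q 2) (q 3) := hq.1.1 2 (by omega)
  have h32 := Γ.symm h23
  have h34 : Γ.Adj (q 3) (q 4) := hq.1.1 3 (by omega)
  obtain ⟨d, hd, -, hdu, -, -, hdK⟩ := Chain.start_change hb (Chain.rev hb hq)
    (Chain.rev hb (Chain.smul hb hq c)) (fun i hi hi' => by
      show c • q (Γ.b + 3 - i) = q (Γ.b + 3 - i)
      rcases (show i = 2 ∨ i = 3 ∨ i = 4 by omega) with rfl | rfl | rfl <;>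
        simp only [h3, Nat.reduceAdd, Nat.reduceSub]
      exacts [(hc.2 _ h23).2 _ h34, (hc.2 _ h23).1, hc.1.1])
  simp only [Nat.sub_zero, Chain.w_rev hb hq] at hd hdu hdK
  have hend : ¬ Γ.A (q (Γ.b + 3)) := by simpa using Chain.not_A0 hb (Chain.rev hb hq)
  rw [zz_conj hb c hend, hd, mul_assoc, hdu.eq, ← mul_assoc, Γ.zz_sq, one_mul]
  refine hdK _ ?_ (Chain.natural hb hq)
  rw [show Γ.b + 3 - 2 = 4 by omega]
  exact Γ.zz_mem_Z h34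

theorem exists_g (h3 : Γ.b = 3) (hb : Γ.OddB) {s : ℕ → V} (hs : Γ.Path s 2) (hA : Γ.A (s 0)) :
    ∃ g ∈ Γ.Q (s 1), g ∉ Γ.Q (s 0) ∧ ∀ c ∈ Γ.C (s 1), c * g * c⁻¹ * g⁻¹ ∈ Γ.Z (s 2) := by
  obtain ⟨p, hp⟩ := Γ.exists_crit
  obtain ⟨q, hq, -⟩ := exists_chain hb hp
  obtain ⟨h, hh, hh'⟩ := Chain.exists_bit_ne hb hq
  set u := Γ.zz (q (Γ.b + 3)) with hu
  have h21 : Γ.Adj (q 2) (q 1) := Γ.symm (hq.1.1 1 (by omega))
  have h23 : Γ.Adj (q 2) (q 3) := hq.1.1 2 (by omega)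
  have hu2 : u • q 2 = q 2 := Chain.end_fix hb hq le_rfl (by omega)
  have huh : u * h⁻¹ * u⁻¹ ∈ Γ.Q (q 2) := Γ.conj_mem_Q' hu2 (inv_mem hh)
  set g := h * (u * h⁻¹ * u⁻¹) with hg
  have hgQ : g ∈ Γ.Q (q 2) := mul_mem hh huh
  have hg1 : g ∉ Γ.Q (q 1) := by
    rw [hg, Γ.mul_mem_Q_iff (Γ.symm h21) ⟨hh.2 _ h21, hh.1⟩ ⟨huh.2 _ h21, huh.1⟩]
    have e : q 1 = u • u • q 1 := by rw [← mul_smul, Γ.zz_sq, one_smul]
    have hiff : u * h⁻¹ * u⁻¹ ∈ Γ.Q (q 1) ↔ h ∈ Γ.Q (u • q 1) := by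
      conv_lhs => rw [e]
      rw [Γ.conj_mem_Q_iff, inv_mem_iff]
    rw [hiff]
    exact hh'
  have hgC : ∀ c ∈ Γ.C (q 2), c * g * c⁻¹ * g⁻¹ ∈ Γ.Z (q 3) := by
    intro c hc
    have hU3 : (h * u * h⁻¹) • q 3 = q 3 := by
      rw [mul_smul, mul_smul, inv_smul_eq_iff.2 (hh.2 _ h23).symm,
        Chain.end_fix hb hq (i := 3) (by omega) (by omega), hh.2 _ h23]
    have hc' : h⁻¹ * c * h ∈ Γ.C (q 2) := by
      have := Γ.conj_mem_C' (h := h⁻¹) (inv_smul_eq_iff.2 hh.1.symm) hc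
      rwa [inv_inv] at this
    have h1 := Γ.conj_mem_Z' (hh.2 _ h23) (Chain.C_end h3 hb hq hc')
    have h2 := Γ.conj_mem_Z' hU3 (Chain.C_end h3 hb hq hc)
    have e : c * g * c⁻¹ * g⁻¹ = h * (h⁻¹ * c * h * u * (h⁻¹ * c * h)⁻¹ * u) * h⁻¹ *
        (h * u * h⁻¹ * (c * u * c⁻¹ * u) * (h * u * h⁻¹)⁻¹) := by
      have huu : u * u = 1 := Γ.zz_sq _
      have hui : u⁻¹ = u := Γ.zz_inv _
      rw [hg]
      calc _ = c * h * u * h⁻¹ * u⁻¹ * c⁻¹ * (u * h * u⁻¹ * h⁻¹) := by group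
        _ = c * h * u * h⁻¹ * c⁻¹ * (h * (u * u) * h⁻¹) * c * u * c⁻¹ * u * (h * u⁻¹ * h⁻¹) := by
            rw [huu, hui]; group
        _ = _ := by group
    rw [e]
    exact mul_mem h1 h2
  have hp2 : Γ.Path (fun i => q (1 + i)) 2 := hq.1.shift (by omega)
  obtain ⟨σ, hσ⟩ := Γ.uniform (fun j hj => mov_three h3 hb j (by omega)) hp2 hs
    (iff_of_true (Chain.A1 hb hq) hA)
  have e0 : σ • q 1 = s 0 := hσ 0 (Nat.zero_le _)
  have e1 : σ • q 2 = s 1 := hσ 1 (by omega)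
  have e2 : σ • q 3 = s 2 := hσ 2 le_rfl
  refine ⟨σ * g * σ⁻¹, e1 ▸ Γ.conj_mem_Q hgQ σ, fun h' => hg1 (Γ.conj_mem_Q_iff.1 (e0 ▸ h')),
    fun c hc => ?_⟩
  have hc' : σ⁻¹ * c * σ ∈ Γ.C (q 2) := by
    have := Γ.conj_mem_C hc σ⁻¹
    rwa [← e1, inv_smul_smul, inv_inv] at this
  have := Γ.conj_mem_Z (hgC _ hc') σ
  rw [e2] at this
  convert this using 1
  group

theorem far_cases (h3 : Γ.b = 3) (hb : Γ.OddB) {v a b' e : V} (hv : Γ.A v) (ha : Γ.Adj v a)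
    (hb' : Γ.Adj v b') (he : Γ.Adj v e) (hab : a ≠ b') (hea : e ≠ a) (heb : e ≠ b') {c : X}
    (hca : c ∈ Γ.C a) (hcb : c ∈ Γ.C b') {m y : V} (hm : Γ.Adj e m) (hmv : m ≠ v) (hy : Γ.Adj m y)
    (hye : y ≠ e) :
    c * Γ.zz y * c⁻¹ * Γ.zz y = 1 ∨ c * Γ.zz y * c⁻¹ * Γ.zz y = Γ.zz b' := by
  obtain ⟨v₀, hv₀, hv₀v⟩ := Γ.exists_other (Γ.symm ha)
  obtain ⟨a₀, ha₀, ha₀a⟩ := Γ.exists_other (Γ.symm hv₀)
  have hA0 : Γ.A v₀ := Γ.A_of_adj hv₀ (Γ.not_A ha hv)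
  have hmA : Γ.A m := Γ.A_of_adj hm (Γ.not_A he hv)
  have hyA : ¬ Γ.A y := Γ.not_A hy hmA
  have hp0 : Γ.Path (fun _ => v₀) 0 :=
    ⟨fun i hi => absurd hi (by omega), fun i hi => absurd hi (by omega)⟩
  obtain ⟨g, hgQ, hgv, hgc⟩ := exists_g h3 hb (s := cons v (cons a fun _ => v₀))
    ((hp0.cons hv₀ (Or.inl rfl)).cons ha (Or.inr hv₀v)) hv
  change g ∈ Γ.Q a at hgQ
  change g ∉ Γ.Q v at hgv
  change ∀ c ∈ Γ.C a, c * g * c⁻¹ * g⁻¹ ∈ Γ.Z v₀ at hgc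
  have hge : g • b' = e := Γ.swap_eq ⟨hgQ.2 _ (Γ.symm ha), hgQ.1⟩ hgv ha hb' (Ne.symm hab) he hea heb
  set ζ := c * g * c⁻¹ * g⁻¹ with hζdef
  have hζ : ζ ∈ Γ.Z v₀ := hgc c hca
  have hm' : Γ.Adj b' (g⁻¹ • m) := by
    have := Γ.smul g⁻¹ hm
    rwa [← hge, inv_smul_smul] at this
  have hy' : Γ.Adj (g⁻¹ • m) (g⁻¹ • y) := Γ.smul g⁻¹ hy
  have hfix : c * Γ.zz (g⁻¹ • y) * c⁻¹ = Γ.zz (g⁻¹ • y) :=
    Γ.conj_Q_Z (hcb.2 _ hm') (Γ.zz_mem_Z hy')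
  have hx : Γ.zz y = g * Γ.zz (g⁻¹ • y) * g⁻¹ := by
    rw [zz_conj hb g (fun h => hyA ((Γ.A_smul _ _).1 h)), smul_inv_smul]
  have hcx : c * Γ.zz y * c⁻¹ = ζ * Γ.zz y * ζ⁻¹ := by
    rw [hx]
    conv_rhs => rw [← hfix]
    rw [hζdef]
    group
  have hp : Γ.Path (cons a₀ (cons v₀ (cons a (cons v (cons e (cons m fun _ => y)))))) 6 := by
    have h0 : Γ.Path (fun _ => y) 0 :=
      ⟨fun i hi => absurd hi (by omega), fun i hi => absurd hi (by omega)⟩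
    exact (((((h0.cons hy (Or.inl rfl)).cons hm (Or.inr hye)).cons he (Or.inr hmv)).cons
      (Γ.symm ha) (Or.inr hea)).cons (Γ.symm hv₀) (Or.inr (Ne.symm hv₀v))).cons (Γ.symm ha₀)
      (Or.inr (Ne.symm ha₀a))
  have hc := chain_of_path h3 hb hp (Γ.not_A ha₀ hA0)
  have hw := Chain.w_eq_prod h3 hb hc
  simp only [w, h3] at hw
  change Γ.zz a₀ * Γ.zz y * Γ.zz a₀ * Γ.zz y = Γ.zz a * Γ.zz e at hw
  rw [zz_mul hb hv ha he hb' (Ne.symm hea) (Ne.symm hab) (Ne.symm heb)] at hw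
  have hcom : Commute (Γ.zz a) (Γ.zz y) :=
    zz_comm (Γ.not_A ha hv) (n := 1 + 1 + 1 + 1) (Base.Near.trans (Base.Near.trans (Base.Near.trans
      (Base.Near.adj (Γ.symm ha)) (Base.Near.adj he)) (Base.Near.adj hm)) (Base.Near.adj hy)) (by omega)
  rw [hcx]
  rcases Z_cases hb hA0 ha₀ (Γ.symm hv₀) ha₀a hζ with e' | e' | e' | e' <;> rw [e']
  · left; simp [Γ.zz_sq]
  · right; rw [Γ.zz_inv]; exact hw
  · left; rw [hcom.eq, mul_inv_cancel_right, Γ.zz_sq]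
  · right
    calc Γ.zz a₀ * Γ.zz a * Γ.zz y * (Γ.zz a₀ * Γ.zz a)⁻¹ * Γ.zz y
        = Γ.zz a₀ * (Γ.zz a * Γ.zz y * (Γ.zz a)⁻¹) * (Γ.zz a₀)⁻¹ * Γ.zz y := by group
      _ = Γ.zz b' := by rw [hcom.eq, mul_inv_cancel_right, Γ.zz_inv]; exact hw

theorem C_inf_le (h3 : Γ.b = 3) (hb : Γ.OddB) {v a b' e : V} (hv : Γ.A v) (ha : Γ.Adj v a)
    (hb' : Γ.Adj v b') (he : Γ.Adj v e) (hab : a ≠ b') (hea : e ≠ a) (heb : e ≠ b') :
    Γ.C a ⊓ Γ.C b' ≤ Γ.Fix 3 v := by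
  rintro c ⟨hca, hcb⟩
  have hcv : c ∈ Γ.Q v := hca.2 v (Γ.symm ha)
  refine ⟨hcv.1, fun y hy hn => ?_⟩
  rcases hn with rfl | ⟨m₁, h1, h'⟩
  · exact absurd hv hy
  rcases h' with rfl | ⟨m₂, h2, h'⟩
  · exact Γ.Q_comm_Z hcv (Γ.zz_mem_Z h1)
  have hA2 : Γ.A m₂ := Γ.A_of_adj h2 (Γ.not_A h1 hv)
  rcases h' with rfl | ⟨y', h4, h'⟩
  · exact absurd hA2 hy
  obtain rfl : y' = y := h'
  by_cases hm2 : m₂ = v
  · exact Γ.Q_comm_Z hcv (Γ.zz_mem_Z (hm2 ▸ h4))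
  rcases Γ.cases3 ha hb' he hab (Ne.symm hea) (Ne.symm heb) h1 with rfl | rfl | rfl
  · exact Γ.Q_comm_Z (hca.2 _ h2) (Γ.zz_mem_Z h4)
  · exact Γ.Q_comm_Z (hcb.2 _ h2) (Γ.zz_mem_Z h4)
  by_cases hye : y' = m₁
  · exact Γ.Q_comm_Z hcv (Γ.zz_mem_Z (hye ▸ he))
  have k1 := far_cases h3 hb hv ha hb' he hab hea heb hca hcb h2 hm2 h4 hye
  have k2 := far_cases h3 hb hv hb' ha he (Ne.symm hab) heb hea hcb hca h2 hm2 h4 hye
  have hone : c * Γ.zz y' * c⁻¹ * Γ.zz y' = 1 := by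
    rcases k1 with h | h
    · exact h
    rcases k2 with h' | h'
    · exact h'
    exact absurd (h'.symm.trans h) (zz_inj ha hb' hv hab)
  have := eq_inv_of_mul_eq_one_left hone
  rw [Γ.zz_inv] at this
  exact mul_inv_eq_iff_eq_mul.1 this

theorem Fix_le_Q (hb : Γ.OddB) {v : V} (hv : Γ.A v) : Γ.Fix 3 v ≤ Γ.Q v := by
  intro r hr
  obtain ⟨a, ha⟩ := Γ.exists_adj v
  obtain ⟨c, hc, hca⟩ := Γ.exists_other ha
  refine Γ.mem_Q_of_comm hv hr.1 fun z hz => ?_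
  have hla := hr.2 a (Γ.not_A ha hv) ((Base.Near.adj ha).mono (by omega))
  have hlc := hr.2 c (Γ.not_A hc hv) ((Base.Near.adj hc).mono (by omega))
  rcases Z_cases hb hv ha hc (Ne.symm hca) hz with rfl | rfl | rfl | rfl
  exacts [Commute.one_right _, hla, hlc, hla.mul_right hlc]

theorem Fix_le_C (hb : Γ.OddB) {v a : V} (hv : Γ.A v) (ha : Γ.Adj v a) : Γ.Fix 3 v ≤ Γ.C a := by
  intro r hr
  have hrQ := Fix_le_Q hb hv hr
  have hra : r • a = a := hrQ.2 a ha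
  have key : ∀ x, Γ.Adj a x → ∀ z ∈ Γ.Z x, Commute r z := by
    intro x hx z hz
    have hxA := Γ.A_of_adj hx (Γ.not_A ha hv)
    obtain ⟨x₂, hx₂, hne⟩ := Γ.exists_other (Γ.symm hx)
    have h1 := hr.2 a (Γ.not_A ha hv) ((Base.Near.adj ha).mono (by omega))
    have h2 := hr.2 x₂ (Γ.not_A hx₂ hxA) (Base.Near.trans (n := 1) (m := 2) (Base.Near.adj ha)
      (Base.Near.trans (Base.Near.adj hx) (Base.Near.adj hx₂)))
    rcases Z_cases hb hxA (Γ.symm hx) hx₂ (Ne.symm hne) hz with rfl | rfl | rfl | rfl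
    exacts [Commute.one_right _, h1, h2, h1.mul_right h2]
  have hfix : ∀ x, Γ.Adj a x → r • x = x := fun x hx => by
    by_contra hne
    refine Γ.not_normalize (Γ.symm hx) (Γ.A_of_adj hx (Γ.not_A ha hv)) hra hne fun z hz => ?_
    rwa [(key x hx z hz).eq, mul_inv_cancel_right]
  exact ⟨⟨hra, hfix⟩, fun x hx =>
    Γ.mem_Q_of_comm (Γ.A_of_adj hx (Γ.not_A ha hv)) (hfix x hx) fun z hz => key x hx z hz⟩

theorem Fix_split (h3 : Γ.b = 3) (hb : Γ.OddB) {v a e : V} (hv : Γ.A v) (ha : Γ.Adj v a)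
    (he : Γ.Adj v e) (hea : e ≠ a) {r : X} (hr : r ∈ Γ.Fix 3 v) :
    r ∈ Γ.Fix 4 a ∨ r * Γ.zz e ∈ Γ.Fix 4 a := by
  have haA := Γ.not_A ha hv
  have hav := Γ.symm ha
  obtain ⟨x, hx, hxv⟩ := Γ.exists_other hav
  have hxA : Γ.A x := Γ.A_of_adj hx haA
  obtain ⟨d, hd, hdx, hdv⟩ := Γ.exists_third hx hav
  obtain ⟨s₀, hs₀, e1, e2, e3⟩ := exists_chain_nbrs h3 hb hx hav haA hxv
  -- move the end of the chain to pass through `e`
  obtain ⟨q, hq, hq1, hq2, hq3, hq4⟩ :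
      ∃ q, Γ.Chain q ∧ q 1 = x ∧ q 2 = a ∧ q 3 = v ∧ q 4 = e := by
    obtain ⟨m, hm, hmv⟩ := Γ.exists_other (Γ.symm he)
    obtain ⟨y, hy, hye⟩ := Γ.exists_other (Γ.symm hm)
    obtain ⟨x₀, hx₀, hx₀a⟩ := Γ.exists_other (Γ.symm hx)
    have h0 : Γ.Path (fun _ => y) 0 :=
      ⟨fun i hi => absurd hi (by omega), fun i hi => absurd hi (by omega)⟩
    refine ⟨cons x₀ (cons x (cons a (cons v (cons e (cons m fun _ => y))))),
      chain_of_path h3 hb ?_ (Γ.not_A hx₀ hxA), rfl, rfl, rfl, rfl⟩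
    exact (((((h0.cons hy (Or.inl rfl)).cons hm (Or.inr hye)).cons he (Or.inr hmv)).cons
      hav (Or.inr hea)).cons (Γ.symm hx) (Or.inr (Ne.symm hxv))).cons (Γ.symm hx₀) (Or.inr (Ne.symm hx₀a))
  set u := Γ.zz (q (Γ.b + 3)) with hu
  set t := Γ.zz (q 0) with ht
  have hu2 : u • a = a := hq2 ▸ Chain.end_fix hb hq (i := 2) le_rfl (by omega)
  have huv : u • v = v := hq3 ▸ Chain.end_fix hb hq (i := 3) (by omega) (by omega)
  have huQ : u ∉ Γ.Q a := hq2 ▸ Chain.end_not_Q hb hq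
  have hud : u • x = d := Γ.swap_eq ⟨hu2, huv⟩ huQ hav hx hxv hd hdv hdx
  -- an involution fixing `d` and exchanging `x` and `v`
  obtain ⟨q', hq', e1', e2', e3'⟩ := exists_chain_nbrs h3 hb hx hd haA (Ne.symm hdx)
  set U := Γ.zz (q' (Γ.b + 3)) with hU
  have hUE : U ∈ Γ.E a d := by
    rw [← e2', ← e3']
    exact Chain.end_mem_E hb hq'
  have hUQ : U ∉ Γ.Q a := e2' ▸ Chain.end_not_Q hb hq'
  have hUv : U • v = x := Γ.swap_eq hUE hUQ hd hav (Ne.symm hdv) hx (Ne.symm hdx) hxv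
  have hrC : r ∈ Γ.C a := Fix_le_C hb hv ha hr
  obtain ⟨ζ, hζdef⟩ : ∃ ζ, ζ = r⁻¹ * U * r⁻¹⁻¹ * U := ⟨_, rfl⟩
  have hζ : ζ ∈ Γ.Z d := by
    rw [hζdef, ← e3']
    exact Chain.C_end h3 hb hq' (e2' ▸ inv_mem hrC)
  have hs : r * ζ ∈ Γ.Fix 3 x := by
    have := conj_mem_Fix hb hr U
    rw [hUv] at this
    convert this using 1
    rw [hζdef, inv_inv, hU, Γ.zz_inv]
    group
  -- the elements `zz a` and `t` belong to `Fix 3 x`
  have hzx : ∀ z, ¬ Γ.A z → Γ.Near 1 z x → Γ.zz z ∈ Γ.Fix 3 x := fun z hz hn =>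
    ⟨zz_fix hz hn (by omega), fun y _ hy => zz_comm hz (n := 1 + 3) (Base.Near.trans hn hy) (by omega)⟩
  have hzaR : Γ.zz a ∈ Γ.Fix 3 x := hzx a haA (Base.Near.adj hx)
  have htR : t ∈ Γ.Fix 3 x := hzx _ (Chain.not_A0 hb hq) (hq1 ▸ Base.Near.adj (hq.1.1 0 (by omega)))
  have hzeV : Γ.zz e ∈ Γ.Fix 3 v :=
    ⟨(zz_fix (Γ.not_A he hv) (Base.Near.adj (Γ.symm he)) (by omega)),
      fun y _ hy => zz_comm (Γ.not_A he hv) (n := 1 + 3)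
        (Base.Near.trans (Base.Near.adj (Γ.symm he)) hy) (by omega)⟩
  have hx0 : Γ.Adj x (q 0) := hq1 ▸ Γ.symm (hq.1.1 0 (by omega))
  have hrt : Commute r t := hr.2 _ (Chain.not_A0 hb hq) (Base.Near.trans (n := 2) (m := 1)
    (Base.Near.trans (Base.Near.adj ha) (Base.Near.adj hx)) (Base.Near.adj hx0))
  have hra : Commute r (Γ.zz a) := hr.2 _ haA ((Base.Near.adj ha).mono (by omega))
  -- the third involution of `Z d`
  have hutu : u * t * u = t * (Γ.zz a * Γ.zz e) := by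
    have := Chain.w_eq hb hq
    rw [Chain.w_eq_prod h3 hb hq, hq2, hq4] at this
    rw [this, ← mul_assoc, Γ.zz_sq, one_mul]
  have hdR : r ∈ Γ.Fix 3 x ∨ r * Γ.zz e ∈ Γ.Fix 3 x := by
    have hdadj : Γ.Adj d (u • q 0) := hud ▸ Γ.smul u hx0
    have hne : u • q 0 ≠ a := fun h' =>
      hq.1.2 0 (by omega) (by rw [hq2]; exact MulAction.injective u (hu2.trans h'.symm))
    rcases Z_cases hb (Γ.A_of_adj hd haA) (Γ.symm hd) hdadj (Ne.symm hne) hζ with h | h | h | h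
    all_goals rw [h] at hs
    · left; simpa using hs
    · left; simpa using mul_mem hs (inv_mem hzaR)
    all_goals rw [← Chain.conj_start hb hq, ← hu, ← ht, hutu] at hs
    · right
      have e' : r * (t * (Γ.zz a * Γ.zz e)) = (t * Γ.zz a) * (r * Γ.zz e) := by
        rw [← mul_assoc t, ← mul_assoc r, (hrt.mul_right hra).eq, mul_assoc]
      rw [e'] at hs
      have := mul_mem (inv_mem (mul_mem htR hzaR)) hs
      rwa [inv_mul_cancel_left] at this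
    · right
      have hat : Commute (Γ.zz a) t := hq2 ▸ Chain.z_comm_start hb hq
      have e' : r * (Γ.zz a * (t * (Γ.zz a * Γ.zz e))) = t * (r * Γ.zz e) := by
        rw [← mul_assoc (Γ.zz a) t, hat.eq, mul_assoc, ← mul_assoc (Γ.zz a) (Γ.zz a), Γ.zz_sq,
          one_mul, ← mul_assoc, hrt.eq, mul_assoc]
      rw [e'] at hs
      simpa using mul_mem (inv_mem htR) hs
  have fin : ∀ r', r' ∈ Γ.Fix 3 v → r' ∈ Γ.Fix 3 x → r' ∈ Γ.Fix 4 a := by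
    intro r' h1 h2
    have hc : Commute r' u := by
      refine h1.2 _ ?_ ?_
      · simpa using Chain.not_A0 hb (Chain.rev hb hq)
      · rw [← hq3]
        exact hq.1.near_le (by omega) le_rfl (by omega) (by omega)
    have h3' : r' ∈ Γ.Fix 3 d := by
      have := conj_mem_Fix hb h2 u
      rwa [hud, ← hc.eq, mul_inv_cancel_right] at this
    refine ⟨(Fix_le_Q hb hv h1).2 a ha, fun y hy hn => ?_⟩
    rcases hn with rfl | ⟨m, hm, hn⟩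
    · exact h1.2 _ hy ((Base.Near.adj ha).mono (by omega))
    rcases Γ.cases3 hx hd hav (Ne.symm hdx) hxv hdv hm with rfl | rfl | rfl
    exacts [h2.2 y hy hn, h3'.2 y hy hn, h1.2 y hy hn]
  rcases hdR with h | h
  · exact Or.inl (fin r hr h)
  · exact Or.inr (fin _ (mul_mem hr hzeV) h)

theorem card_Fix_le (h3 : Γ.b = 3) (hb : Γ.OddB) {v a b' e : V} (hv : Γ.A v) (ha : Γ.Adj v a)
    (hb' : Γ.Adj v b') (he : Γ.Adj v e) (hab : a ≠ b') (hea : e ≠ a) (heb : e ≠ b') :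
    Nat.card ↥(Γ.Fix 3 v) ≤ 4 := by
  have step : ∀ {a c : V}, Γ.Adj v a → Γ.Adj v c → c ≠ a → ∀ {K : Subgroup X}, K ≤ Γ.Fix 3 v →
      Nat.card ↥K ≤ 2 * Nat.card ↥(K ⊓ Γ.Fix 4 a) := by
    intro a c ha hc hca K hK
    haveI := Γ.finite_of_le (hK.trans ((Fix_le_Q hb hv).trans (Γ.Q_le_E ha)))
    refine Base.card_le_two_mul fun r hr s hs hr' hs' => ?_
    have h1 := (Fix_split h3 hb hv ha hc hca (hK hr)).resolve_left hr'
    have h2 := (Fix_split h3 hb hv ha hc hca (hK hs)).resolve_left hs'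
    have := mul_mem h1 h2
    have hcs : Commute (Γ.zz c) s :=
      ((hK hs).2 c (Γ.not_A hc hv) ((Base.Near.adj hc).mono (by omega))).symm
    rwa [hcs.mul_mul_mul_comm, Γ.zz_sq, mul_one] at this
  have hbot : Γ.Fix 3 v ⊓ Γ.Fix 4 a ⊓ Γ.Fix 4 b' = ⊥ := by
    by_contra hne
    obtain ⟨z, hz, hz1, hz2, hzc⟩ := Γ.exists_central he
      ((inf_le_left.trans inf_le_left).trans ((Fix_le_Q hb hv).trans (Γ.Q_le_E he))) hne
      fun g hg k hk => by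
        have k1 := conj_mem_Fix hb hk.1.2 g
        have k2 := conj_mem_Fix hb hk.2 g
        refine ⟨⟨?_, ?_⟩, ?_⟩
        · have := conj_mem_Fix hb hk.1.1 g
          rwa [hg.1] at this
        all_goals
          by_cases hgQ : g ∈ Γ.Q v
        · rwa [hgQ.2 a ha] at k1
        · rwa [Γ.swap_eq hg hgQ he hb' (Ne.symm heb) ha (Ne.symm hea) hab] at k2
        · rwa [hgQ.2 b' hb'] at k2
        · rwa [Γ.swap_eq hg hgQ he ha (Ne.symm hea) hb' (Ne.symm heb) (Ne.symm hab)] at k1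
    have heA := Γ.not_A he hv
    have hzE := Γ.Q_le_E he (Fix_le_Q hb hv hz.1.1)
    rcases om_cases hb heA ⟨hzE.2, hz2, Γ.omega he hv z hzE hz2 hzc⟩ with h | h
    · exact hz1 h
    subst h
    have haA := Γ.not_A ha hv
    obtain ⟨x, hx, hxv⟩ := Γ.exists_other (Γ.symm ha)
    obtain ⟨s, hs, e1, e2, e3⟩ := exists_chain_nbrs h3 hb (Γ.symm ha) hx haA (Ne.symm hxv)
    have hp : Γ.Path (cons e fun i => s (1 + i)) 6 :=
      (hs.1.shift (j := 1) (m := 5) (by omega)).cons (show Γ.Adj e (s (1 + 0)) from e1 ▸ Γ.symm he)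
        (Or.inr (show s (1 + 1) ≠ e by rw [show 1 + 1 = 2 from rfl, e2]; exact Ne.symm hea))
    have hc := chain_of_path h3 hb hp heA
    refine Chain.w_ne_one hb hc ?_
    have hn : Γ.Near 4 a (s 6) := by
      rw [← e2]
      exact hs.1.near_le (by omega) (by omega) (by omega) (by omega)
    have hend : ¬ Γ.A (s 6) := by
      rw [Chain.A_iff hb hs (by omega)]
      decide
    have hcomm := hz.1.2.2 (s 6) hend hn
    simp only [w, h3]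
    change Γ.zz e * Γ.zz (s 6) * Γ.zz e * Γ.zz (s 6) = 1
    rw [hcomm.eq, mul_assoc (Γ.zz (s 6)), Γ.zz_sq, mul_one, Γ.zz_sq]
  have e1 := step ha hb' (Ne.symm hab) (K := Γ.Fix 3 v) le_rfl
  have e2 := step hb' ha hab (K := Γ.Fix 3 v ⊓ Γ.Fix 4 a) inf_le_left
  rw [hbot, Subgroup.card_bot] at e2
  omega

theorem card_le_of_b_three (h3 : Γ.b = 3) (hb : Γ.OddB) {v u : V} (hvu : Γ.Adj v u) (hv : Γ.A v) :
    Nat.card ↥(Γ.E v u) ≤ 128 := by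
  have huA := Γ.not_A hvu hv
  obtain ⟨c, e, hc, he, hcu, heu, hce, -⟩ := Γ.three hvu
  have huv := Γ.symm hvu
  obtain ⟨x, hx, hxv⟩ := Γ.exists_other huv
  have hcA := Γ.not_A hc hv
  have hcv := Γ.symm hc
  obtain ⟨y, hy, hyv⟩ := Γ.exists_other hcv
  haveI := Γ.finite_Q u
  have h1 : Nat.card ↥(Γ.Q u) ≤ 4 * Nat.card ↥(Γ.C u) := by
    have a1 := Γ.card_inf_Q (Γ.symm huv) (A := Γ.Q u) fun k hk => ⟨hk.2 _ huv, hk.1⟩
    have a2 := Γ.card_inf_Q (Γ.symm hx) (A := Γ.Q u ⊓ Γ.Q v) fun k hk => ⟨hk.1.2 _ hx, hk.1.1⟩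
    haveI : Finite ↥(Γ.C u) :=
      Finite.of_injective _ (Subgroup.inclusion_injective (fun g hg => hg.1 : Γ.C u ≤ Γ.Q u))
    have a3 : Nat.card ↥(Γ.Q u ⊓ Γ.Q v ⊓ Γ.Q x) ≤ Nat.card ↥(Γ.C u) :=
      Subgroup.card_le_of_le fun k hk => C_of_two h3 hb huv hx huA (Ne.symm hxv) hk.1.1 hk.1.2 hk.2
    omega
  have h2 : Nat.card ↥(Γ.C u) ≤ 4 * Nat.card ↥(Γ.C u ⊓ Γ.C c) := by
    have a1 := Γ.card_inf_Q hcv (A := Γ.C u) fun k hk => ⟨(hk.2 v huv).2 _ hc, (hk.2 v huv).1⟩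
    have a2 := Γ.card_inf_Q (Γ.symm hy) (A := Γ.C u ⊓ Γ.Q c) fun k hk => ⟨hk.2.2 _ hy, hk.2.1⟩
    haveI : Finite ↥(Γ.C u ⊓ Γ.C c) := Finite.of_injective _
      (Subgroup.inclusion_injective (fun g hg => hg.1.1 : Γ.C u ⊓ Γ.C c ≤ Γ.Q u))
    have a3 : Nat.card ↥(Γ.C u ⊓ Γ.Q c ⊓ Γ.Q y) ≤ Nat.card ↥(Γ.C u ⊓ Γ.C c) :=
      Subgroup.card_le_of_le fun k hk =>
        ⟨hk.1.1, C_of_two h3 hb hcv hy hcA (Ne.symm hyv) hk.1.2 (hk.1.1.2 v huv) hk.2⟩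
    omega
  have h3' : Nat.card ↥(Γ.C u ⊓ Γ.C c) ≤ 4 := by
    haveI := Γ.finite_of_le ((Fix_le_Q hb hv).trans (Γ.Q_le_E hvu))
    exact (Subgroup.card_le_of_le (C_inf_le h3 hb hv hvu hc he (Ne.symm hcu) heu (Ne.symm hce))).trans
      (card_Fix_le h3 hb hv hvu hc he (Ne.symm hcu) heu (Ne.symm hce))
  have h4 := Γ.card_E huv
  rw [Γ.E_comm u v] at h4
  omega

end Amalgam

end Cfsg.Agent.Lib.Goldschmidt33
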