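import Cfsg.Agent.Lib.Goldschmidt33.Paths

/-!
# The modules `Z_v` and the critical distance

Owner: helper54. `Ω u` is the group of central involutions of `G_u` (`u` outside the class `A`), and
`Z v` (`v` in `A`) is generated by the `Ω u`, `u` adjacent to `v`.
-/

set_option autoImplicit false
set_option linter.style.haveILetI false

namespace Cfsg.Agent.Lib.Goldschmidt33

universe u v

/-- The standing hypotheses: characteristic 2, and `Ω₁Z` of an edge is central at its end outside `A`. -/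
structure Amalgam (X : Type u) (V : Type v) [Group X] [MulAction X V] extends Base X V where
  charTwo : ∀ (v : V) (g : X), g • v = v → (∀ q ∈ toBase.Q v, g * q = q * g) → g ∈ toBase.Q v
  omega : ∀ {v u : V}, Adj v u → A v → ∀ z ∈ toBase.E v u, z * z = 1 →
    (∀ g ∈ toBase.E v u, g * z = z * g) → ∀ g : X, g • u = u → g * z = z * g

variable {X : Type u} {V : Type v} [Group X] [MulAction X V]

namespace Amalgam

variable (Γ : Amalgam X V)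

theorem not_A {v u : V} (h : Γ.Adj v u) (hv : Γ.A v) : ¬ Γ.A u := (Γ.A_adj h).1 hv

theorem A_of_adj {u v : V} (h : Γ.Adj u v) (hu : ¬ Γ.A u) : Γ.A v := by
  have := Γ.A_adj h
  tauto

/-- The central involutions of a vertex stabilizer, with `1`. -/
def Om (_Γ : Amalgam X V) (u : V) : Subgroup X where
  carrier := {z | z • u = u ∧ z * z = 1 ∧ ∀ g : X, g • u = u → g * z = z * g}
  one_mem' := ⟨one_smul _ _, one_mul _, fun g _ => by simp⟩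
  mul_mem' := by
    rintro a b ⟨ha, ha2, hac⟩ ⟨hb, hb2, hbc⟩
    refine ⟨by rw [mul_smul, hb, ha], ?_, fun g hg => ?_⟩
    · rw [mul_assoc, ← mul_assoc b a b, hac b hb, mul_assoc a b b, hb2, mul_one, ha2]
    · rw [← mul_assoc, hac g hg, mul_assoc, hbc g hg, ← mul_assoc]
  inv_mem' := by
    rintro a ⟨ha, ha2, hac⟩
    rw [inv_eq_of_mul_eq_one_left ha2]
    exact ⟨ha, ha2, hac⟩

theorem conj_mem_Om {u : V} {z : X} (hz : z ∈ Γ.Om u) (h : X) : h * z * h⁻¹ ∈ Γ.Om (h • u) := by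
  obtain ⟨h1, h2, h3⟩ := hz
  refine ⟨by rw [mul_smul, inv_smul_smul, mul_smul, h1], ?_, fun g hg => ?_⟩
  · calc h * z * h⁻¹ * (h * z * h⁻¹) = h * (z * z) * h⁻¹ := by group
      _ = 1 := by rw [h2]; group
  · have := h3 (h⁻¹ * g * h) (by rw [mul_smul, mul_smul, hg, inv_smul_smul])
    calc g * (h * z * h⁻¹) = h * ((h⁻¹ * g * h) * z) * h⁻¹ := by group
      _ = h * (z * (h⁻¹ * g * h)) * h⁻¹ := by rw [this]
      _ = h * z * h⁻¹ * g := by group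

theorem Om_le_Q_self {u : V} : Γ.Om u ≤ Γ.Q u := by
  intro z hz
  refine ⟨hz.1, fun w hw => ?_⟩
  by_contra hne
  obtain ⟨s, hs, hsQ⟩ := Γ.exists_swap hw
  have h1 : s • z • w = z • w := by rw [← mul_smul, hz.2.2 s hs.1, mul_smul, hs.2]
  exact (Γ.smul_ne hs hsQ hw (Γ.adj_fix hz.1 hw) hne).1 h1

theorem Om_le_Q {v u : V} (h : Γ.Adj v u) : Γ.Om u ≤ Γ.Q v := by
  intro z hz
  have hzv : z • v = v := (Γ.Om_le_Q_self hz).2 v (Γ.symm h)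
  exact Γ.charTwo v z hzv fun q hq => (hz.2.2 q (hq.2 u h)).symm

theorem om_eq_one {v u : V} (h : Γ.Adj v u) {z g : X} (hz : z ∈ Γ.Om u) (hgv : g • v = v)
    (hgu : g • u ≠ u) (hc : g * z = z * g) : z = 1 := by
  have hK : Subgroup.zpowers z ≤ Γ.E u v :=
    Subgroup.zpowers_le.2 ⟨hz.1, (Γ.Om_le_Q_self hz).2 v (Γ.symm h)⟩
  have := Γ.eq_bot_of_mover (Γ.symm h) hK (fun a ha k hk => by
    obtain ⟨n, rfl⟩ := hk
    rw [(show Commute a z from hz.2.2 a ha).zpow_right n, mul_inv_cancel_right]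
    exact ⟨n, rfl⟩) hgv hgu (fun k hk => by
    obtain ⟨n, rfl⟩ := hk
    rw [(show Commute g z from hc).zpow_right n, mul_inv_cancel_right]
    exact ⟨n, rfl⟩)
  simpa using this

theorem om_inter {v u a : V} (hu : Γ.Adj v u) (ha : Γ.Adj v a) (hne : u ≠ a) {z : X}
    (h1 : z ∈ Γ.Om u) (h2 : z ∈ Γ.Om a) : z = 1 := by
  obtain ⟨s, hs, hsQ⟩ := Γ.exists_swap ha
  exact Γ.om_eq_one hu h1 hs.1 (Γ.smul_ne hs hsQ ha hu hne).1 (h2.2.2 s hs.2)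

theorem exists_om {v u : V} (h : Γ.Adj v u) (hv : Γ.A v) : ∃ z ∈ Γ.Om u, z ≠ 1 := by
  obtain ⟨g, hg, hgQ⟩ := Γ.exists_swap h
  obtain ⟨z, hzE, hz1, hz2, hzc⟩ := Γ.exists_central h (K := Γ.E v u) le_rfl
    (fun e => hgQ (by rw [show g = 1 from (Subgroup.eq_bot_iff_forall _).1 e g hg]; exact one_mem _))
    (fun a ha k hk => mul_mem (mul_mem ha hk) (inv_mem ha))
  exact ⟨z, ⟨hzE.2, hz2, Γ.omega h hv z hzE hz2 hzc⟩, hz1⟩

/-- `Z v` is generated by the `Ω u`, `u` adjacent to `v`. -/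
def Z (v : V) : Subgroup X := Subgroup.closure {z | ∃ u, Γ.Adj v u ∧ z ∈ Γ.Om u}

theorem Om_le_Z {v u : V} (h : Γ.Adj v u) : Γ.Om u ≤ Γ.Z v := fun _ hz =>
  Subgroup.subset_closure ⟨u, h, hz⟩

theorem Z_le_Q (v : V) : Γ.Z v ≤ Γ.Q v :=
  (Subgroup.closure_le _).2 fun _ ⟨_, hu, hz⟩ => Γ.Om_le_Q hu hz

theorem Q_comm_Z {v : V} {q z : X} (hq : q ∈ Γ.Q v) (hz : z ∈ Γ.Z v) : q * z = z * q := by
  have : Γ.Z v ≤ Subgroup.centralizer ({q} : Set X) := (Subgroup.closure_le _).2 fun x ⟨u, hu, hx⟩ =>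
    Subgroup.mem_centralizer_iff.2 fun y hy => by rw [Set.mem_singleton_iff.1 hy]; exact hx.2.2 q (hq.2 u hu)
  exact Subgroup.mem_centralizer_iff.1 (this hz) q rfl

theorem Z_comm {v : V} {x y : X} (hx : x ∈ Γ.Z v) (hy : y ∈ Γ.Z v) : x * y = y * x :=
  Γ.Q_comm_Z (Γ.Z_le_Q v hx) hy

theorem Z_sq {v : V} {z : X} (hz : z ∈ Γ.Z v) : z * z = 1 := by
  induction hz using Subgroup.closure_induction with
  | mem x hx => exact hx.choose_spec.2.2.1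
  | one => exact one_mul _
  | mul x y hx hy ex ey =>
    rw [mul_assoc, ← mul_assoc y x y, Γ.Z_comm hy hx, mul_assoc x y y, ey, mul_one, ex]
  | inv x _ ex => rw [← mul_inv_rev, ex, inv_one]

theorem conj_mem_Z {v : V} {z : X} (hz : z ∈ Γ.Z v) (h : X) : h * z * h⁻¹ ∈ Γ.Z (h • v) := by
  have : Γ.Z v ≤ (Γ.Z (h • v)).comap (MulAut.conj h).toMonoidHom :=
    (Subgroup.closure_le _).2 fun x ⟨u, hu, hx⟩ => Γ.Om_le_Z (Γ.smul h hu) (Γ.conj_mem_Om hx h)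
  exact this hz

theorem conj_mem_Z' {v : V} {z h : X} (hh : h • v = v) (hz : z ∈ Γ.Z v) : h * z * h⁻¹ ∈ Γ.Z v := by
  have := Γ.conj_mem_Z hz h
  rwa [hh] at this

theorem conj_Q_Z {v : V} {q z : X} (hq : q ∈ Γ.Q v) (hz : z ∈ Γ.Z v) : q * z * q⁻¹ = z := by
  rw [Γ.Q_comm_Z hq hz, mul_inv_cancel_right]

theorem pair_mem_om {v u : V} (h : Γ.Adj v u) (hv : Γ.A v) {z g : X} (hz : z ∈ Γ.Z v)
    (hg : g ∈ Γ.E v u) : z * (g * z * g⁻¹) ∈ Γ.Om u := by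
  have hπ : z * (g * z * g⁻¹) ∈ Γ.Z v := mul_mem hz (Γ.conj_mem_Z' hg.1 hz)
  by_cases hgQ : g ∈ Γ.Q v
  · rw [Γ.conj_Q_Z hgQ hz, Γ.Z_sq hz]
    exact one_mem _
  refine ⟨(Γ.Q_le_E h (Γ.Z_le_Q v hπ)).2, Γ.Z_sq hπ,
    Γ.omega h hv _ (Γ.Q_le_E h (Γ.Z_le_Q v hπ)) (Γ.Z_sq hπ) fun k hk => ?_⟩
  set π := z * (g * z * g⁻¹) with hπdef
  have hg2 : g * g * z * (g * g)⁻¹ = z := Γ.conj_Q_Z (Γ.mul_mem_Q h hg hgQ hg hgQ) hz
  have hgπ : g * π = π * g := by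
    have e : g * π * g⁻¹ = π := by
      calc g * π * g⁻¹ = (g * z * g⁻¹) * (g * g * z * (g * g)⁻¹) := by rw [hπdef]; group
        _ = π := by rw [hg2, hπdef, Γ.Z_comm (Γ.conj_mem_Z' hg.1 hz) hz]
    exact mul_inv_eq_iff_eq_mul.1 e
  by_cases hkQ : k ∈ Γ.Q v
  · exact Γ.Q_comm_Z hkQ hπ
  · have hkg : k * g⁻¹ ∈ Γ.Q v := Γ.mul_mem_Q h hk hkQ (inv_mem hg) (fun e => hgQ (by simpa using inv_mem e))
    calc k * π = (k * g⁻¹) * (g * π) := by group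
      _ = (k * g⁻¹) * π * g := by rw [hgπ]; simp [mul_assoc]
      _ = π * (k * g⁻¹) * g := by rw [Γ.Q_comm_Z hkg hπ]
      _ = π * k := by group

theorem fixed_mem_om {v u : V} (h : Γ.Adj v u) (hv : Γ.A v) {z g : X} (hz : z ∈ Γ.Z v)
    (hg : g ∈ Γ.E v u) (hgQ : g ∉ Γ.Q v) (hc : g * z = z * g) : z ∈ Γ.Om u := by
  refine ⟨(Γ.Q_le_E h (Γ.Z_le_Q v hz)).2, Γ.Z_sq hz,
    Γ.omega h hv _ (Γ.Q_le_E h (Γ.Z_le_Q v hz)) (Γ.Z_sq hz) fun k hk => ?_⟩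
  by_cases hkQ : k ∈ Γ.Q v
  · exact Γ.Q_comm_Z hkQ hz
  · have hkg : k * g⁻¹ ∈ Γ.Q v := Γ.mul_mem_Q h hk hkQ (inv_mem hg) (fun e => hgQ (by simpa using inv_mem e))
    calc k * z = (k * g⁻¹) * (g * z) := by group
      _ = (k * g⁻¹) * z * g := by rw [hc]; simp [mul_assoc]
      _ = z * (k * g⁻¹) * g := by rw [Γ.Q_comm_Z hkg hz]
      _ = z * k := by group

theorem exists_decomp {v u a c : V} (hv : Γ.A v) (hu : Γ.Adj v u) (ha : Γ.Adj v a) (hc : Γ.Adj v c)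
    (hua : u ≠ a) (huc : u ≠ c) (hac : a ≠ c) {x : X} (hx : x ∈ Γ.Om u) :
    ∃ y ∈ Γ.Om a, ∃ y' ∈ Γ.Om c, x = y * y' := by
  obtain ⟨s, hs, hsQ⟩ := Γ.exists_swap ha
  have e : s • u = c := Γ.swap_eq hs hsQ ha hu hua hc (Ne.symm hac) (Ne.symm huc)
  have hy' : s * x * s⁻¹ ∈ Γ.Om c := e ▸ Γ.conj_mem_Om hx s
  refine ⟨_, Γ.pair_mem_om ha hv (Γ.Om_le_Z hu hx) hs, _, inv_mem hy', ?_⟩
  rw [mul_inv_cancel_right]

theorem exists_mul {v u a : V} (hv : Γ.A v) (hu : Γ.Adj v u) (ha : Γ.Adj v a) (hua : u ≠ a) {z : X}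
    (hz : z ∈ Γ.Z v) : ∃ y ∈ Γ.Om u, ∃ y' ∈ Γ.Om a, z = y * y' := by
  induction hz using Subgroup.closure_induction with
  | mem x hx =>
    obtain ⟨w, hw, hxw⟩ := hx
    by_cases h1 : w = u
    · exact ⟨x, h1 ▸ hxw, 1, one_mem _, (mul_one _).symm⟩
    by_cases h2 : w = a
    · exact ⟨1, one_mem _, x, h2 ▸ hxw, (one_mul _).symm⟩
    exact Γ.exists_decomp hv hw hu ha h1 h2 hua hxw
  | one => exact ⟨1, one_mem _, 1, one_mem _, (one_mul _).symm⟩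
  | mul x y _ _ ex ey =>
    obtain ⟨p, hp, p', hp', rfl⟩ := ex
    obtain ⟨q, hq, q', hq', rfl⟩ := ey
    refine ⟨p * q, mul_mem hp hq, p' * q', mul_mem hp' hq', ?_⟩
    rw [mul_assoc, ← mul_assoc p' q q', Γ.Z_comm (Γ.Om_le_Z ha hp') (Γ.Om_le_Z hu hq)]
    group
  | inv x _ ex =>
    obtain ⟨p, hp, p', hp', rfl⟩ := ex
    refine ⟨p⁻¹, inv_mem hp, p'⁻¹, inv_mem hp', ?_⟩
    rw [mul_inv_rev, Γ.Z_comm (inv_mem (Γ.Om_le_Z ha hp')) (inv_mem (Γ.Om_le_Z hu hp))]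

theorem exists_comm_eq {v u : V} (h : Γ.Adj v u) (hv : Γ.A v) {x g : X} (hx : x ∈ Γ.Om u)
    (hg : g ∈ Γ.E v u) (hgQ : g ∉ Γ.Q v) : ∃ z ∈ Γ.Z v, z * (g * z * g⁻¹) = x := by
  obtain ⟨a, c, ha, hc, hau, hcu, hac, -⟩ := Γ.three h
  obtain ⟨y, hy, y', hy', rfl⟩ := Γ.exists_decomp hv h ha hc (Ne.symm hau) (Ne.symm hcu) hac hx
  have hy1 : g * y * g⁻¹ ∈ Γ.Om c :=
    Γ.swap_eq hg hgQ h ha hau hc hcu (Ne.symm hac) ▸ Γ.conj_mem_Om hy g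
  refine ⟨y, Γ.Om_le_Z ha hy, ?_⟩
  have hp := Γ.pair_mem_om h hv (Γ.Om_le_Z ha hy) hg
  have : (y * (g * y * g⁻¹))⁻¹ * (y * y') = 1 :=
    Γ.om_inter h hc (Ne.symm hcu) (mul_mem (inv_mem hp) hx) (by
      rw [mul_inv_rev, mul_assoc, ← mul_assoc y⁻¹, inv_mul_cancel, one_mul]
      exact mul_mem (inv_mem hy1) hy')
  exact (inv_mul_eq_one.1 this)

theorem mem_Q_of_comm {v : V} (hv : Γ.A v) {g : X} (hg : g • v = v)
    (hc : ∀ z ∈ Γ.Z v, g * z = z * g) : g ∈ Γ.Q v := by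
  refine ⟨hg, fun u hu => ?_⟩
  by_contra hne
  obtain ⟨z, hz, hz1⟩ := Γ.exists_om hu hv
  exact hz1 (Γ.om_eq_one hu hz hg hne (hc z (Γ.Om_le_Z hu hz)))

theorem Z_ne_bot {v : V} (hv : Γ.A v) : Γ.Z v ≠ ⊥ := by
  obtain ⟨u, hu⟩ := Γ.exists_adj v
  obtain ⟨z, hz, hz1⟩ := Γ.exists_om hu hv
  exact fun e => hz1 ((Subgroup.eq_bot_iff_forall _).1 e z (Γ.Om_le_Z hu hz))

/-- An element moving `v` but fixing a neighbour of `v` does not normalize `Z v`. -/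
theorem not_normalize {v w : V} (h : Γ.Adj v w) (hv : Γ.A v) {g : X} (hgw : g • w = w)
    (hgv : g • v ≠ v) : ¬ ∀ z ∈ Γ.Z v, g * z * g⁻¹ ∈ Γ.Z v := fun hn =>
  Γ.Z_ne_bot hv (Γ.eq_bot_of_mover h (fun z hz => Γ.Q_le_E h (Γ.Z_le_Q v hz))
    (fun a ha k hk => Γ.conj_mem_Z' ha hk) hgw hgv hn)

theorem Q_not_le {v u : V} (h : Γ.Adj v u) : ¬ Γ.Q v ≤ Γ.Q u := by
  intro hle
  have hge : Γ.Q u ≤ Γ.Q v := by
    intro s hs
    by_contra hsv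
    obtain ⟨g, hg, hgQ⟩ := Γ.exists_swap (Γ.symm h)
    rw [Γ.E_comm] at hg
    have hsE : s ∈ Γ.E v u := by rw [Γ.E_comm]; exact Γ.Q_le_E (Γ.symm h) hs
    by_cases hgv : g ∈ Γ.Q v
    · exact hgQ (hle hgv)
    · refine hgQ ?_
      have : g * s ∈ Γ.Q u := hle (Γ.mul_mem_Q h hg hgv hsE hsv)
      simpa using mul_mem this (inv_mem hs)
  have hb := Γ.eq_bot_of_normalized h (Γ.Q_le_E h) (fun g hg k hk => Γ.conj_mem_Q' hg hk)
    fun g hg k hk => hge (Γ.conj_mem_Q' hg (hle hk))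
  by_cases hv : Γ.A v
  · obtain ⟨z, hz, hz1⟩ := Γ.exists_om h hv
    exact hz1 ((Subgroup.eq_bot_iff_forall _).1 hb z (Γ.Om_le_Q h hz))
  · obtain ⟨z, hz, hz1⟩ := Γ.exists_om (Γ.symm h) (Γ.A_of_adj h hv)
    exact hz1 ((Subgroup.eq_bot_iff_forall _).1 hb z (Γ.Om_le_Q_self hz))

theorem exists_near (v w : V) : ∃ n, Γ.Near n v w := by
  induction Γ.conn v w with
  | refl => exact ⟨0, rfl⟩
  | @tail x y _ hxy ih =>
    obtain ⟨n, hn⟩ := ih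
    exact ⟨n + 1, hn.trans (Base.Near.adj hxy)⟩

theorem exists_not_le [Nonempty V] : ∃ n v w, Γ.A v ∧ Γ.Near n v w ∧ ¬ Γ.Z v ≤ Γ.Q w := by
  obtain ⟨v, hv⟩ : ∃ v, Γ.A v := by
    obtain ⟨x⟩ := ‹Nonempty V›
    obtain ⟨u, hu⟩ := Γ.exists_adj x
    by_cases hx : Γ.A x
    · exact ⟨x, hx⟩
    · exact ⟨u, Γ.A_of_adj hu hx⟩
  by_contra hno
  push Not at hno
  refine Γ.Z_ne_bot hv ((Subgroup.eq_bot_iff_forall _).2 fun z hz => Γ.faithful z fun w => ?_)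
  obtain ⟨n, hn⟩ := Γ.exists_near v w
  exact (hno n v w hv hn hz).1

/-- The critical distance. -/
noncomputable def b [Nonempty V] : ℕ := by
  classical exact Nat.find Γ.exists_not_le

variable [Nonempty V]

theorem b_spec : ∃ v w, Γ.A v ∧ Γ.Near Γ.b v w ∧ ¬ Γ.Z v ≤ Γ.Q w := by
  classical exact Nat.find_spec Γ.exists_not_le

theorem le_Q {v w : V} (hv : Γ.A v) {n : ℕ} (h : Γ.Near n v w) (hn : n < Γ.b) : Γ.Z v ≤ Γ.Q w := by
  classical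
  by_contra hc
  exact Nat.find_min Γ.exists_not_le hn ⟨v, w, hv, h, hc⟩

theorem one_le_b : 1 ≤ Γ.b := by
  obtain ⟨v, w, hv, hn, hne⟩ := Γ.b_spec
  by_contra h
  rw [show Γ.b = 0 by omega] at hn
  exact hne ((show v = w from hn) ▸ Γ.Z_le_Q v)

theorem fix_of_near {v : V} (hv : Γ.A v) : ∀ {n : ℕ} {w : V}, Γ.Near n v w → n ≤ Γ.b →
    ∀ z ∈ Γ.Z v, z • w = w := by
  intro n w h hn z hz
  cases n with
  | zero => exact (show v = w from h) ▸ (Γ.Z_le_Q v hz).1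
  | succ n =>
    have h' := h.symm
    rcases h' with h' | ⟨m, hm, h'⟩
    · exact h' ▸ (Γ.Z_le_Q v hz).1
    · exact (Γ.le_Q hv h'.symm (by omega) hz).2 w (Γ.symm hm)

theorem comm_of_near {v w : V} (hv : Γ.A v) {n : ℕ} (h : Γ.Near n v w) (hn : n < Γ.b) {x y : X}
    (hx : x ∈ Γ.Z v) (hy : y ∈ Γ.Z w) : x * y = y * x :=
  Γ.Q_comm_Z (Γ.le_Q hv h hn hx) hy

/-- A critical path. -/
def Crit (p : ℕ → V) : Prop := Γ.Path p Γ.b ∧ Γ.A (p 0) ∧ ¬ Γ.Z (p 0) ≤ Γ.Q (p Γ.b)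

theorem exists_walk : ∀ {n : ℕ} {v w : V}, Γ.Near n v w →
    ∃ p : ℕ → V, ∃ m, m ≤ n ∧ p 0 = v ∧ p m = w ∧ ∀ i, i < m → Γ.Adj (p i) (p (i + 1))
  | 0, v, w, h => ⟨fun _ => v, 0, le_rfl, rfl, h, fun i hi => absurd hi (by omega)⟩
  | n + 1, v, w, h => by
    rcases h with h | ⟨x, hx, h⟩
    · exact ⟨fun _ => v, 0, by omega, rfl, h, fun i hi => absurd hi (by omega)⟩
    · obtain ⟨p, m, hm, h0, hpm, hp⟩ := exists_walk h
      refine ⟨cons v p, m + 1, by omega, rfl, hpm, fun i hi => ?_⟩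
      cases i with
      | zero =>
        show Γ.Adj v (p 0)
        rw [h0]; exact hx
      | succ i => exact hp i (by omega)

theorem near_of_walk {p : ℕ → V} : ∀ {m i : ℕ}, (∀ j, i ≤ j → j < i + m → Γ.Adj (p j) (p (j + 1))) →
    Γ.Near m (p i) (p (i + m))
  | 0, i, _ => rfl
  | m + 1, i, h => by
    refine Or.inr ⟨p (i + 1), h i le_rfl (by omega), ?_⟩
    have := near_of_walk (m := m) (i := i + 1) fun j h1 h2 => h j (by omega) (by omega)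
    rwa [show i + 1 + m = i + (m + 1) by omega] at this

theorem exists_crit : ∃ p, Γ.Crit p := by
  obtain ⟨v, w, hv, hn, hne⟩ := Γ.b_spec
  obtain ⟨p, m, hm, rfl, rfl, hp⟩ := Γ.exists_walk hn
  have hnear : Γ.Near m (p 0) (p m) := by
    simpa using Γ.near_of_walk (p := p) (m := m) (i := 0) fun j _ hj => hp j (by omega)
  obtain rfl : m = Γ.b := le_antisymm hm (by
    by_contra hlt
    exact hne (Γ.le_Q hv hnear (by omega)))
  refine ⟨p, ⟨hp, fun i hi e => ?_⟩, hv, hne⟩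
  have h1 : Γ.Near i (p 0) (p i) := by
    simpa using Γ.near_of_walk (p := p) (m := i) (i := 0) fun j _ hj => hp j (by omega)
  have h2 : Γ.Near (Γ.b - (i + 2)) (p (i + 2)) (p Γ.b) := by
    have := Γ.near_of_walk (p := p) (m := Γ.b - (i + 2)) (i := i + 2) fun j _ hj => hp j (by omega)
    rwa [show i + 2 + (Γ.b - (i + 2)) = Γ.b by omega] at this
  rw [e] at h2
  exact hne (Γ.le_Q hv (h1.trans h2) (by omega))

end Amalgam

end Cfsg.Agent.Lib.Goldschmidt33
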